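import Mathlib.AlgebraicGeometry.Morphisms.SchemeTheoreticallyDominant
import Mathlib.AlgebraicGeometry.Morphisms.Separated
import Mathlib.AlgebraicGeometry.Morphisms.ClosedImmersion
import Mathlib.AlgebraicGeometry.Morphisms.Flat
import Mathlib.AlgebraicGeometry.Morphisms.UniversallyClosed
import Mathlib.RingTheory.DiscreteValuationRing.Basic
import Mathlib.RingTheory.Localization.FractionRing

/-!
# Morphisms from flat schemes over a domain are determined on the generic fibre
-/

set_option autoImplicit false
universe u

open CategoryTheory CategoryTheory.Limits AlgebraicGeometry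

namespace K954.GenExt

/-- Two `S`-morphisms to a separated `S`-scheme which agree after composition with a schematically dominant morphism
are equal. -/
theorem ext_of_dominant {X₀ X T S : Scheme.{u}} (i : X₀ ⟶ X) [IsSchemeTheoreticallyDominant i] (t : T ⟶ S)
    [IsSeparated t] {u v : X ⟶ T} (h1 : u ≫ t = v ≫ t) (h2 : i ≫ u = i ≫ v) : u = v := by
  let X' : Over S := Over.mk (u ≫ t)
  let T' : Over S := Over.mk t
  let f : X' ⟶ T' := Over.homMk u rfl
  let g : X' ⟶ T' := Over.homMk v h1.symm
  have hsep : IsSeparated T'.hom := ‹IsSeparated t›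
  let i' : Over.mk (i ≫ X'.hom) ⟶ X' := Over.homMk i rfl
  have h3 : i' ≫ f = i' ≫ g := by
    ext1
    exact h2
  let s := equalizer.lift i' h3
  have h4 : s.left ≫ (equalizer.ι f g).left = i := by
    rw [← Over.comp_left, equalizer.lift_ι]
    rfl
  have h5 : (equalizer.ι f g).left.ker = ⊥ := by
    have h6 := s.left.le_ker_comp (equalizer.ι f g).left
    rw [h4, i.ker_eq_bot] at h6
    exact le_bot_iff.mp h6
  have h7 : IsIso (equalizer.ι f g).left := IsClosedImmersion.isIso_iff_ker_eq_bot.mpr h5
  have h8 : f.left = g.left := by
    rw [← cancel_epi (equalizer.ι f g).left]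
    exact congr($(equalizer.condition f g).left)
  exact h8

section Domain

variable {R K : Type u} [CommRing R] [IsDomain R] [Field K] [Algebra R K] [IsFractionRing R K]

theorem isSchemeTheoreticallyDominant :
    IsSchemeTheoreticallyDominant (Spec.map (CommRingCat.ofHom (algebraMap R K))) := by
  have h1 : IsDominant (Spec.map (CommRingCat.ofHom (algebraMap R K))) := by
    refine ⟨?_⟩
    exact (PrimeSpectrum.denseRange_comap_iff_ker_le_nilRadical (algebraMap R K)).2 (by
      rw [(RingHom.injective_iff_ker_eq_bot _).1 (IsFractionRing.injective R K)]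
      exact bot_le)
  exact IsSchemeTheoreticallyDominant.of_isDominant _

/-- The generic fibre of a flat scheme is schematically dense. -/
theorem dominant_of_flat {X XK : Scheme.{u}} {q : X ⟶ Spec (CommRingCat.of R)} [Flat q] {j : XK ⟶ X}
    {fK : XK ⟶ Spec (CommRingCat.of K)}
    (hj : IsPullback j fK q (Spec.map (CommRingCat.ofHom (algebraMap R K)))) :
    IsSchemeTheoreticallyDominant j := by
  have := isSchemeTheoreticallyDominant (R := R) (K := K)
  exact IsSchemeTheoreticallyDominant.of_isPullback hj.flip

theorem ext {X XK T S : Scheme.{u}} {q : X ⟶ Spec (CommRingCat.of R)} [Flat q] {j : XK ⟶ X}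
    {fK : XK ⟶ Spec (CommRingCat.of K)}
    (hj : IsPullback j fK q (Spec.map (CommRingCat.ofHom (algebraMap R K)))) (t : T ⟶ S)
    [IsSeparated t] {u v : X ⟶ T} (h1 : u ≫ t = v ≫ t) (h2 : j ≫ u = j ≫ v) : u = v := by
  have := dominant_of_flat hj
  exact ext_of_dominant j t h1 h2

/-- A flat scheme over a domain with integral generic fibre is integral. -/
theorem isIntegral_of_flat {X XK : Scheme.{u}} {q : X ⟶ Spec (CommRingCat.of R)} [Flat q] {j : XK ⟶ X}
    {fK : XK ⟶ Spec (CommRingCat.of K)}
    (hj : IsPullback j fK q (Spec.map (CommRingCat.ofHom (algebraMap R K)))) [IsIntegral XK] : IsIntegral X := by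
  have h2 : IsSchemeTheoreticallyDominant j := dominant_of_flat hj
  have h3 : QuasiCompact j := MorphismProperty.of_isPullback hj.flip inferInstance
  have h4 : IsReduced X := IsSchemeTheoreticallyDominant.isReduced j
  have h5 : IrreducibleSpace X := by
    rw [irreducibleSpace_def]
    convert! ((IrreducibleSpace.isIrreducible_univ XK).image _ j.continuous.continuousOn).closure
    simpa using j.denseRange.closure_range.symm
  exact isIntegral_of_irreducibleSpace_of_isReduced _

end Domain

end K954.GenExt
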