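import Groth.Agent.SemiFact.K793.Basic

/-!
# Normal crossings of a function at a point of a surface

`NCAt p ϖ x`: the local ring at `x` is regular of dimension two and `ϖ` (pulled back from the base) is a unit times a
monomial in a system of parameters, and not a unit. `OneAt p ϖ x`: the same with only one parameter in the monomial.
-/

set_option autoImplicit false
universe u
open CategoryTheory CategoryTheory.Limits AlgebraicGeometry IsLocalRing

namespace Groth.Agent.K954.NC

/-- `ϖ` is a unit times a monomial in a system of parameters of the regular two-dimensional local ring at `x`. -/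
structure NCAt {R : Type u} [CommRing R] {X : Scheme.{u}} (p : X ⟶ Spec (CommRingCat.of R)) (ϖ : R) (x : X) :
    Prop where
  regular : IsRegularLocalRing (X.presheaf.stalk x)
  dim : ringKrullDim (X.presheaf.stalk x) = 2
  mem : DualGr.stalkHom p x ϖ ∈ maximalIdeal (X.presheaf.stalk x)
  mono : ∃ (c u v : X.presheaf.stalk x) (a b : ℕ), IsUnit c ∧
    maximalIdeal (X.presheaf.stalk x) = Ideal.span {u, v} ∧ DualGr.stalkHom p x ϖ = c * u ^ a * v ^ b

/-- `ϖ` is a unit times a power of a parameter. -/
structure OneAt {R : Type u} [CommRing R] {X : Scheme.{u}} (p : X ⟶ Spec (CommRingCat.of R)) (ϖ : R) (x : X) :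
    Prop where
  regular : IsRegularLocalRing (X.presheaf.stalk x)
  dim : ringKrullDim (X.presheaf.stalk x) = 2
  mem : DualGr.stalkHom p x ϖ ∈ maximalIdeal (X.presheaf.stalk x)
  mono : ∃ (c u v : X.presheaf.stalk x) (a : ℕ), IsUnit c ∧
    maximalIdeal (X.presheaf.stalk x) = Ideal.span {u, v} ∧ DualGr.stalkHom p x ϖ = c * u ^ a

theorem OneAt.nc {R : Type u} [CommRing R] {X : Scheme.{u}} {p : X ⟶ Spec (CommRingCat.of R)} {ϖ : R} {x : X}
    (h : OneAt p ϖ x) : NCAt p ϖ x := by
  obtain ⟨c, u, v, a, hc, hm, he⟩ := h.mono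
  exact ⟨h.regular, h.dim, h.mem, c, u, v, a, 0, hc, hm, by rw [he, pow_zero, mul_one]⟩

end Groth.Agent.K954.NC
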