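import Mathlib.AlgebraicGeometry.Pullbacks
import Mathlib.RingTheory.Localization.FractionRing

/-!
# The generic fibre of the base change of a model
-/

set_option autoImplicit false
universe u

open CategoryTheory CategoryTheory.Limits AlgebraicGeometry

namespace K954.GenLift

variable {R : Type u} [CommRing R] {R' : Type u} [CommRing R']

theorem genPt_comp (φ : R →+* R') (ψ : FractionRing R →+* FractionRing R')
    (hψ : ψ.comp (algebraMap R (FractionRing R)) = (algebraMap R' (FractionRing R')).comp φ) :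
    Spec.map (CommRingCat.ofHom ψ) ≫ Spec.map (CommRingCat.ofHom (algebraMap R (FractionRing R))) =
      Spec.map (CommRingCat.ofHom (algebraMap R' (FractionRing R'))) ≫ Spec.map (CommRingCat.ofHom φ) := by
  rw [← Spec.map_comp, ← Spec.map_comp, ← CommRingCat.ofHom_comp, ← CommRingCat.ofHom_comp, hψ]

/-- The generic fibre of the base change of a model. -/
theorem isPullback_lift {φ : R →+* R'} {ψ : FractionRing R →+* FractionRing R'}
    (hψ : ψ.comp (algebraMap R (FractionRing R)) = (algebraMap R' (FractionRing R')).comp φ)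
    {C X C' : Scheme.{u}} {f : C ⟶ Spec (CommRingCat.of (FractionRing R))} {p : X ⟶ Spec (CommRingCat.of R)}
    {g : C ⟶ X} (hg : IsPullback g f p (Spec.map (CommRingCat.ofHom (algebraMap R (FractionRing R)))))
    {f' : C' ⟶ Spec (CommRingCat.of (FractionRing R'))} {w : C' ⟶ C}
    (hw : IsPullback w f' f (Spec.map (CommRingCat.ofHom ψ)))
    {X' : Scheme.{u}} {p' : X' ⟶ Spec (CommRingCat.of R')} {gX : X' ⟶ X}
    (hX : IsPullback gX p' p (Spec.map (CommRingCat.ofHom φ))) :
    ∃ g' : C' ⟶ X', g' ≫ gX = w ≫ g ∧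
      IsPullback g' f' p' (Spec.map (CommRingCat.ofHom (algebraMap R' (FractionRing R')))) := by
  have h1 := hw.paste_horiz hg
  rw [genPt_comp φ ψ hψ] at h1
  have h2 : (w ≫ g) ≫ p =
      (f' ≫ Spec.map (CommRingCat.ofHom (algebraMap R' (FractionRing R')))) ≫ Spec.map (CommRingCat.ofHom φ) := by
    rw [h1.w, Category.assoc]
  refine ⟨hX.lift (w ≫ g) (f' ≫ Spec.map (CommRingCat.ofHom (algebraMap R' (FractionRing R')))) h2,
    hX.lift_fst _ _ _, ?_⟩
  refine IsPullback.of_right ?_ (hX.lift_snd _ _ _) hX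
  rw [hX.lift_fst]
  exact h1

end K954.GenLift
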