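import Groth.Prelude.Def_SSMod
import Groth.Prelude.Def_StCurv
import Groth.Agent.CurvSt.K898.StabFam
import Groth.Agent.UnramA.NearPoint
import Groth.Agent.Dix.NormalLoc

/-!
# Unpointed stable families: base change, and no exceptional components

* `IsStab f g`: `f` is a stable family of curves of genus `g` (no marked points).
* `IsStab.of_isPullback`, `IsStab.comp_iso`, `IsStab.isNodalFamily`, `IsStab.noExcComp`.
-/

set_option autoImplicit false
universe u

open CategoryTheory CategoryTheory.Limits AlgebraicGeometry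

namespace K954.StabFam

/-- `f` is a stable family of curves of genus `g` without marked points. -/
abbrev IsStab {X S : Scheme.{u}} (f : X ⟶ S) (g : ℕ) : Prop :=
  CurvSt.IsStableFam f (Fin.elim0 : Fin 0 → (S ⟶ X)) (fun i => i.elim0) g

theorem IsStab.of_isPullback {X S X' S' : Scheme.{u}} {f : X ⟶ S} {g : ℕ} (h : IsStab f g) {a : X' ⟶ X}
    {f' : X' ⟶ S'} {b : S' ⟶ S} (sq : IsPullback a f' f b) : IsStab f' g := by
  obtain ⟨h1, h2, h3, h4⟩ := h
  refine ⟨MorphismProperty.of_isPullback sq h1, MorphismProperty.of_isPullback sq h2,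
    MorphismProperty.of_isPullback sq h3, fun Ω _ _ t X₀ i q hP => ?_⟩
  have h5 := h4 Ω (t ≫ b) X₀ (i ≫ a) q (hP.paste_horiz sq)
  convert h5

theorem IsStab.comp_iso {X S S' : Scheme.{u}} {f : X ⟶ S} {g : ℕ} (h : IsStab f g) (e : S ⟶ S') [IsIso e] :
    IsStab (f ≫ e) g :=
  h.of_isPullback (a := 𝟙 X) (b := inv e) (IsPullback.of_horiz_isIso ⟨by simp⟩)

theorem IsStab.isNodalFamily {X S : Scheme.{u}} {f : X ⟶ S} {g : ℕ} (h : IsStab f g) : Curv2.IsNodalFamily f := by
  have h1 : Flat f := h.1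
  have h2 : IsProper f := h.2.1
  have h3 : LocallyOfFinitePresentation f := h.2.2.1
  exact K898.StabFam.isNodalFamily f (K898.StabFam.geoGenus_of_isStableFam h)

/-- Through a point whose local ring is a domain passes only one irreducible component. -/
theorem eq_of_isDomain_stalk {X : Scheme.{u}} (x : X) [IsDomain (X.presheaf.stalk x)] {Z E : Set X}
    (hZ : Z ∈ irreducibleComponents (X : Type u)) (hE : E ∈ irreducibleComponents (X : Type u)) (hxZ : x ∈ Z)
    (hxE : x ∈ E) : Z = E := by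
  let ξ : X := X.fromSpecStalk x (⊥ : PrimeSpectrum (X.presheaf.stalk x))
  have key : ∀ T ∈ irreducibleComponents (X : Type u), x ∈ T → T = closure {ξ} := by
    intro T hT hxT
    have hTc : IsClosed T := isClosed_of_mem_irreducibleComponents T hT
    obtain ⟨η, hη⟩ := QuasiSober.sober hT.1 hTc
    have h1 : η ⤳ x := hη.specializes hxT
    have h2 : η ∈ Set.range (X.fromSpecStalk x) := by
      rw [Scheme.range_fromSpecStalk]
      exact h1
    obtain ⟨p, rfl⟩ := h2
    have h3 : ξ ⤳ X.fromSpecStalk x p := by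
      refine Specializes.map ?_ (X.fromSpecStalk x).continuous
      exact (PrimeSpectrum.le_iff_specializes _ _).1 bot_le
    have h4 : T ⊆ closure {ξ} := by
      rw [← hη.def]
      exact closure_minimal (Set.singleton_subset_iff.2 h3.mem_closure) isClosed_closure
    exact h4.antisymm (hT.2 isIrreducible_singleton.closure h4)
  rw [key Z hZ hxZ, key E hE hxE]

theorem meetPts_subset {Ω : Type u} [Field Ω] {X : Scheme.{u}} (q : X ⟶ Spec (CommRingCat.of Ω))
    [LocallyOfFinitePresentation q] {Z : Set X} (hZ : Z ∈ irreducibleComponents (X : Type u)) :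
    CurvSt.meetPts X Z ⊆ Z ∩ DualGr.nonsmoothPts q := by
  rintro x ⟨hx, E, hE, hne, hxE⟩
  refine ⟨hx, fun hs => hne ?_⟩
  obtain ⟨U, hxU, hU⟩ := (Groth.Agent.UnramA.NearPoint.exists_smooth_nhd_iff q x).2 hs
  have h1 : IsDomain ((U : Scheme.{u}).presheaf.stalk ⟨x, hxU⟩) :=
    (Groth.Agent.Dix.NormalLoc.stalk_of_smooth (U.ι ≫ q) ⟨x, hxU⟩).1
  have h2 : IsDomain (X.presheaf.stalk x) := by
    exact (U.stalkIso ⟨x, hxU⟩).symm.commRingCatIsoToRingEquiv.toMulEquiv.isDomain _
  exact eq_of_isDomain_stalk x hE hZ hxE hx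

theorem IsStab.noExcComp {X S : Scheme.{u}} {f : X ⟶ S} {g : ℕ} (h : IsStab f g) :
    SSMod.NoExcComp (𝟙 S) (Scheme.emptyTo X) f := by
  rintro Ω _ _ t Z hZ ⟨⟨e, he1, he2, he3⟩, hcard, -⟩
  have h3 : LocallyOfFinitePresentation f := h.2.2.1
  have hst : IsStab (f ≫ 𝟙 S) g := h.comp_iso (𝟙 S)
  have h5 := hst.2.2.2 Ω t _ _ _ (IsPullback.of_hasPullback (f ≫ 𝟙 S) t)
  have h6 := h5.2.2.2.2.2.2.1 Z ⟨hZ, e, he1, he2, he3⟩
  have h7 : (Nat.card {i : Fin 0 // CurvSt.markedPt (Fin.elim0 : Fin 0 → (S ⟶ X)) (fun i => i.elim0)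
      (IsPullback.of_hasPullback (f ≫ 𝟙 S) t) i ∈ Z} : ℕ∞) = 0 := by
    have : IsEmpty {i : Fin 0 // CurvSt.markedPt (Fin.elim0 : Fin 0 → (S ⟶ X)) (fun i => i.elim0)
      (IsPullback.of_hasPullback (f ≫ 𝟙 S) t) i ∈ Z} := ⟨fun i => i.1.elim0⟩
    rw [Nat.card_of_isEmpty, Nat.cast_zero]
  rw [h7, add_zero] at h6
  have h8 : (CurvSt.meetPts (pullback (f ≫ 𝟙 S) t) Z).encard ≤ 2 := by
    refine (Set.encard_le_encard ?_).trans hcard
    refine (meetPts_subset (pullback.snd (f ≫ 𝟙 S) t) hZ).trans ?_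
    exact Set.inter_subset_inter_right _ Set.subset_union_right
  exact absurd (h6.trans h8) (by decide)

end K954.StabFam
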