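import Groth.Agent.Models.K954.RingAct
import Groth.Agent.Models.K954.StabFam
import Groth.Agent.Models.K954.GenExt
import Groth.Agent.Models.H58.CurveBC
import Groth.Agent.Sga1.QuotBasic

/-!
# Semilinear actions extend to stable models

`Ext53`: finite morphisms of curves extend to the stable models (S16553). `exists_action`: a semilinear action of a
group on the generic fibre of a stable family extends to the family.
-/

set_option autoImplicit false
universe u

open CategoryTheory CategoryTheory.Limits AlgebraicGeometry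

namespace K954.ActExt

/-- Finite morphisms between curves of genus at least two extend to the stable models. -/
def Ext53 : Prop :=
  ∀ (R : Type u) [CommRing R] [IsDomain R] [IsDiscreteValuationRing R]
    (X Y : Scheme.{u}) (fX : X ⟶ Spec (CommRingCat.of (FractionRing R))) (fY : Y ⟶ Spec (CommRingCat.of (FractionRing R)))
    (_ : Curve.IsSmoothProperCurve (FractionRing R) X fX) (_ : IsIso fX.appTop)
    (_ : Curve.IsSmoothProperCurve (FractionRing R) Y fY) (_ : IsIso fY.appTop)
    (_ : 2 ≤ Models.curveGenus (FractionRing R) Y fY)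
    (f : X ⟶ Y) [IsFinite f] (_ : f ≫ fY = fX)
    (XR : Scheme.{u}) (p : XR ⟶ Spec (CommRingCat.of R)) [IsProper p] (_ : Curv2.IsNodalFamily p)
    (_ : SSMod.NoExcComp (𝟙 (Spec (CommRingCat.of R))) (Scheme.emptyTo XR) p)
    (iX : X ⟶ XR) (_ : IsPullback iX fX p (Spec.map (CommRingCat.ofHom (algebraMap R (FractionRing R)))))
    (YR : Scheme.{u}) (q : YR ⟶ Spec (CommRingCat.of R)) [IsProper q] (_ : Curv2.IsNodalFamily q)
    (_ : SSMod.NoExcComp (𝟙 (Spec (CommRingCat.of R))) (Scheme.emptyTo YR) q)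
    (iY : Y ⟶ YR) (_ : IsPullback iY fY q (Spec.map (CommRingCat.ofHom (algebraMap R (FractionRing R))))),
    ∃ φ : XR ⟶ YR, φ ≫ q = p ∧ iX ≫ φ = f ≫ iY

theorem curveGenus_of_isPullback {K L : Type u} [Field K] [Field L] (ψ : K →+* L) {C C' : Scheme.{u}}
    {f : C ⟶ Spec (CommRingCat.of K)} {f' : C' ⟶ Spec (CommRingCat.of L)} {p : C' ⟶ C}
    (H : IsPullback p f' f (Spec.map (CommRingCat.ofHom ψ))) [IsProper f] :
    Models.curveGenus L C' f' = Models.curveGenus K C f := by
  let _ : Algebra K L := ψ.toAlgebra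
  exact Groth.Agent.Models.H58.CurveBC.curveGenus_eq H

section

variable {R : Type u} [CommRing R] [IsDomain R] [IsDiscreteValuationRing R] {G : Type u} [Group G]
  [MulSemiringAction G R] {C CR : Scheme.{u}} {f : C ⟶ Spec (CommRingCat.of (FractionRing R))}
  {q : CR ⟶ Spec (CommRingCat.of R)} {j : C ⟶ CR}

theorem exists_hom (H : Ext53.{u}) (hC : Curve.IsSmoothProperCurve (FractionRing R) C f) (hC0 : IsIso f.appTop)
    (hg : 2 ≤ Models.curveGenus (FractionRing R) C f) {n : ℕ} (hq : StabFam.IsStab q n)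
    (hj : IsPullback j f q (Spec.map (CommRingCat.ofHom (algebraMap R (FractionRing R)))))
    (aC : G →* Aut C) (haC : ∀ g, (aC g).hom ≫ f = f ≫ (RingAct.fracAct G R g).hom) (g : G) :
    ∃ e : CR ⟶ CR, e ≫ q = q ≫ (RingAct.specAct G R g).hom ∧ j ≫ e = (aC g).hom ≫ j := by
  have hq1 : IsProper q := hq.2.1
  have hw := RingAct.fracAct_comp G R g
  have hC' : Curve.IsSmoothProperCurve (FractionRing R) C (f ≫ (RingAct.fracAct G R g).hom) := by
    obtain ⟨h1, h2, h3, h4⟩ := hC
    exact ⟨inferInstance, inferInstance, h3, h4⟩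
  have hC0' : IsIso (f ≫ (RingAct.fracAct G R g).hom).appTop := by
    rw [Scheme.Hom.comp_appTop]
    have h2 : IsIso (RingAct.fracAct G R g).hom.appTop := inferInstanceAs (IsIso ((RingAct.fracAct G R g).hom.app ⊤))
    exact @IsIso.comp_isIso _ _ _ _ _ _ _ h2 hC0
  have hpr : IsProper (f ≫ (RingAct.fracAct G R g).hom) := hC'.1
  have hg' : 2 ≤ Models.curveGenus (FractionRing R) C (f ≫ (RingAct.fracAct G R g).hom) := by
    let _ := RingAct.fracAction G R
    have h0 : IsIso (Spec.map (CommRingCat.ofHom (MulSemiringAction.toRingHom G (FractionRing R) g⁻¹))) :=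
      inferInstanceAs (IsIso (RingAct.fracAct G R g).hom)
    have h1 : IsPullback (𝟙 C) f (f ≫ (RingAct.fracAct G R g).hom)
        (Spec.map (CommRingCat.ofHom (MulSemiringAction.toRingHom G (FractionRing R) g⁻¹))) :=
      IsPullback.of_horiz_isIso ⟨by rw [Category.id_comp]; rfl⟩
    rw [← curveGenus_of_isPullback _ h1]
    exact hg
  have hj1 : IsPullback j (f ≫ (RingAct.fracAct G R g).hom) (q ≫ (RingAct.specAct G R g).hom)
      (Spec.map (CommRingCat.ofHom (algebraMap R (FractionRing R)))) :=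
    hj.paste_vert (IsPullback.of_vert_isIso ⟨hw.symm⟩)
  have hj2 : IsPullback ((aC g).hom ≫ j) (f ≫ (RingAct.fracAct G R g).hom) q
      (Spec.map (CommRingCat.ofHom (algebraMap R (FractionRing R)))) := by
    have h1 : IsPullback (aC g).hom (f ≫ (RingAct.fracAct G R g).hom) f (𝟙 _) :=
      IsPullback.of_horiz_isIso ⟨by rw [haC, Category.comp_id]⟩
    have h2 := h1.paste_horiz hj
    rwa [Category.id_comp] at h2
  have hs1 : StabFam.IsStab (q ≫ (RingAct.specAct G R g).hom) n := hq.comp_iso _
  have hpr1 : IsProper (q ≫ (RingAct.specAct G R g).hom) := hs1.2.1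
  obtain ⟨φ, h1, h2⟩ := H R C C (f ≫ (RingAct.fracAct G R g).hom) (f ≫ (RingAct.fracAct G R g).hom) hC' hC0' hC' hC0'
    hg' (𝟙 C) (Category.id_comp _) CR (q ≫ (RingAct.specAct G R g).hom) hs1.isNodalFamily hs1.noExcComp j hj1
    CR q hq.isNodalFamily hq.noExcComp _ hj2
  exact ⟨φ, h1, by rw [h2, Category.id_comp]⟩

theorem exists_action (H : Ext53.{u}) (hC : Curve.IsSmoothProperCurve (FractionRing R) C f) (hC0 : IsIso f.appTop)
    (hg : 2 ≤ Models.curveGenus (FractionRing R) C f) {n : ℕ} (hq : StabFam.IsStab q n)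
    (hj : IsPullback j f q (Spec.map (CommRingCat.ofHom (algebraMap R (FractionRing R)))))
    (aC : G →* Aut C) (haC : ∀ g, (aC g).hom ≫ f = f ≫ (RingAct.fracAct G R g).hom) :
    ∃ a : G →* Aut CR, (∀ g, (a g).hom ≫ q = q ≫ (RingAct.specAct G R g).hom) ∧
      ∀ g, (aC g).hom ≫ j = j ≫ (a g).hom := by
  have hq1 : IsProper q := hq.2.1
  have hq2 : Flat q := hq.1
  choose e he1 he2 using exists_hom H hC hC0 hg hq hj aC haC
  have h1 : e 1 = 𝟙 CR := by
    refine GenExt.ext hj q ?_ ?_
    · rw [he1, Groth.Agent.Sga1.QuotBasic.hom_one, Category.id_comp, Category.comp_id]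
    · rw [he2, Groth.Agent.Sga1.QuotBasic.hom_one, Category.id_comp, Category.comp_id]
  have hm : ∀ g h : G, e (g * h) = e h ≫ e g := by
    intro g h
    refine GenExt.ext hj q ?_ ?_
    · rw [he1, Groth.Agent.Sga1.QuotBasic.hom_mul, Category.assoc, he1, ← Category.assoc, ← Category.assoc, he1]
    · rw [he2, Groth.Agent.Sga1.QuotBasic.hom_mul, ← Category.assoc, he2, Category.assoc, Category.assoc, he2]
  let a : G →* Aut CR :=
    { toFun := fun g =>
        { hom := e g
          inv := e g⁻¹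
          hom_inv_id := by rw [← hm, inv_mul_cancel, h1]
          inv_hom_id := by rw [← hm, mul_inv_cancel, h1] }
      map_one' := Iso.ext h1
      map_mul' := fun g h => Iso.ext (hm g h) }
  exact ⟨a, he1, fun g => (he2 g).symm⟩

end

end K954.ActExt
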