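import Groth.Agent.S2878
import Groth.Agent.S0054
import Groth.Agent.S2324
import Groth.Agent.CalgB.ProjField
import Groth.Agent.Ega2.AmpleAff
import Mathlib.AlgebraicGeometry.Fiber

/-!
# Finite sets of points of a proper curve over a henselian local ring lie in affine opens
-/

set_option autoImplicit false
universe u

open CategoryTheory CategoryTheory.Limits AlgebraicGeometry

namespace K954.OrbAff

theorem exists_isAmple {R : Type u} [CommRing R] [IsNoetherianRing R] [HenselianLocalRing R] {X : Scheme.{u}}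
    (p : X ⟶ Spec (CommRingCat.of R)) [IsProper p]
    (hdim : topologicalKrullDim (p.fiber (IsLocalRing.closedPoint R)) ≤ 1) :
    ∃ L : (↑(p ⁻¹ᵁ ⊤) : Scheme.{u}).Modules, CohB1.IsAmple L := by
  have hp : IsProper (p.fiberToSpecResidueField (IsLocalRing.closedPoint R)) := MorphismProperty.pullback_snd _ _ ‹_›
  have hp1 : IsSeparated (p.fiberToSpecResidueField (IsLocalRing.closedPoint R)) := hp.toIsSeparated
  have hp2 : LocallyOfFiniteType (p.fiberToSpecResidueField (IsLocalRing.closedPoint R)) := hp.toLocallyOfFiniteType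
  have hp3 : QuasiCompact (p.fiberToSpecResidueField (IsLocalRing.closedPoint R)) := inferInstance
  obtain ⟨L₀, hL₀⟩ := @Groth.Agent.CalgB.ProjField.exists_isAmple_of_dim_le_one
    ((Spec (CommRingCat.of R)).residueField (IsLocalRing.closedPoint R)) _ _
    (p.fiberToSpecResidueField (IsLocalRing.closedPoint R)) hp1 hp2 hp3 hdim
  have h5 : IsClosedImmersion ((Spec (CommRingCat.of R)).fromSpecResidueField (IsLocalRing.closedPoint R)) :=
    isClosed_singleton_iff_isClosedImmersion.mp (IsLocalRing.isClosed_singleton_closedPoint R)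
  have h6 : IsClosedImmersion (p.fiberι (IsLocalRing.closedPoint R)) := MorphismProperty.pullback_fst _ _ h5
  obtain ⟨L, hL, ⟨e⟩⟩ := Groth.Agent.S2878.result R p hdim (p.fiberι (IsLocalRing.closedPoint R))
    (p.range_fiberι (IsLocalRing.closedPoint R)) L₀ hL₀.1
  have h7 : CohB1.IsAmple ((Scheme.Modules.pullback (p.fiberι (IsLocalRing.closedPoint R))).obj L) :=
    Groth.Agent.Ega2.Weight.isAmple_of_iso e.symm hL₀
  obtain ⟨V, hV, hV'⟩ := Groth.Agent.S0054.result p L hL (IsLocalRing.closedPoint R) h7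
  have h8 : V = ⊤ := by
    refine top_le_iff.1 fun x _ => ?_
    exact (IsLocalRing.specializes_closedPoint x).mem_open V.2 hV
  subst h8
  exact ⟨_, hV' ⊤ le_rfl (isAffineOpen_top _)⟩

theorem isSeparated_of {S X : Scheme.{u}} [S.IsSeparated] (p : X ⟶ S) [IsSeparated p] : X.IsSeparated := by
  have h0 : IsSeparated (terminal.from S) := Scheme.IsSeparated.isSeparated_terminal_from
  have h1 : IsSeparated (p ≫ terminal.from S) := inferInstance
  rw [← terminalIsTerminal.hom_ext (terminal.from X) (p ≫ terminal.from _)] at h1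
  exact ⟨h1⟩

/-- A finite set of points lies in an affine open subset. -/
theorem exists_isAffineOpen {R : Type u} [CommRing R] [IsNoetherianRing R] [HenselianLocalRing R] {X : Scheme.{u}}
    (p : X ⟶ Spec (CommRingCat.of R)) [IsProper p]
    (hdim : topologicalKrullDim (p.fiber (IsLocalRing.closedPoint R)) ≤ 1) (Z : Set X) (hZ : Z.Finite) :
    ∃ U : X.Opens, IsAffineOpen U ∧ Z ⊆ U := by
  obtain ⟨L, hL⟩ := exists_isAmple p hdim
  have h1 : X.IsSeparated := isSeparated_of p
  have h2 : (↑(p ⁻¹ᵁ ⊤) : Scheme.{u}).IsSeparated := isSeparated_of (p ⁻¹ᵁ ⊤).ι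
  have h3 : CompactSpace (↑(p ⁻¹ᵁ ⊤) : Scheme.{u}) := hL.2.1
  obtain ⟨n, s, h4, -, h5⟩ := Groth.Agent.S2324.result _ L hL ((p ⁻¹ᵁ ⊤).ι ⁻¹' Z)
    (hZ.preimage (p ⁻¹ᵁ ⊤).ι.injective.injOn) ⊤ (Set.subset_univ _)
  refine ⟨(p ⁻¹ᵁ ⊤).ι ''ᵁ _, h5.image_of_isOpenImmersion (p ⁻¹ᵁ ⊤).ι, fun x hx => ?_⟩
  exact ⟨⟨x, trivial⟩, h4 hx, rfl⟩

end K954.OrbAff
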