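import Groth.Agent.Models.K954.DescMain
import Groth.Agent.Models.K954.ActExt
import Groth.Agent.Models.K954.OrbAff
import Groth.Agent.Models.K954.GenLift
import Groth.Agent.Models.H57.GeoInt
import Groth.Agent.Curves.K754.QuotFam
import Groth.Agent.Models.DVRGeneric
import Groth.Agent.Models.H59.FibreNodal
import Groth.Agent.VarietyB.DimTop
import Groth.Agent.Sga3C.DimTop
import Groth.Agent.Fga.DimLt
import Groth.Agent.Dix.NormalLoc
import Groth.Agent.S7889
import Groth.Agent.S1594

/-!
# Galois descent of stable models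

`descend`: `Y` with a stable model over a finite Galois extension `R'` of a henselian discrete valuation ring `R`; if a
curve `X` with a stable model over `R` has a finite morphism to `Y`, then `Y` has semistable reduction over `R`.
-/

set_option autoImplicit false
universe u

open CategoryTheory CategoryTheory.Limits AlgebraicGeometry

namespace K954.Descend

theorem dim_lt_of_ne {T : Type*} [TopologicalSpace T] [IrreducibleSpace T] {D : Set T} (hD : IsClosed D)
    (hne : D ≠ Set.univ) (hn : D.Nonempty) {r : ℕ} (hr : topologicalKrullDim T = r) : topologicalKrullDim D < r := by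
  have h0 : ((0 : ℕ) : WithBot ℕ∞) ≤ topologicalKrullDim D := by
    have : Nonempty D := hn.to_subtype
    have hne : Nonempty (TopologicalSpace.IrreducibleCloseds D) :=
      ⟨⟨closure {this.some}, isIrreducible_singleton.closure, isClosed_closure⟩⟩
    exact_mod_cast Order.krullDim_nonneg
  have h1 := Groth.Agent.Fga.DimLt.exists_ltSeries_succ hD hne h0
  rw [hr] at h1
  have h2 : 1 ≤ r := by exact_mod_cast h1
  by_contra h3
  rw [not_lt] at h3
  have h4 := Groth.Agent.Fga.DimLt.exists_ltSeries_succ hD hne h3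
  rw [hr] at h4
  have h5 : r + 1 ≤ r := by exact_mod_cast h4
  omega

/-- A finite morphism between integral schemes of the same dimension is surjective. -/
theorem surjective_of_isFinite {X Y : Scheme.{u}} [IsIntegral X] [IsIntegral Y] (f : X ⟶ Y) [IsFinite f]
    (r : ℕ) (hX : topologicalKrullDim X = r) (hY : topologicalKrullDim Y = r) : Surjective f := by
  constructor
  rw [← Set.range_eq_univ]
  by_contra hne
  have hcl : IsClosed (Set.range f) := f.isClosedMap.isClosed_range
  have h1 := dim_lt_of_ne hcl hne (Set.range_nonempty f) hY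
  have h2 : topologicalKrullDim X = topologicalKrullDim (Set.range f) := by
    have : T0Space (Set.range f) := inferInstance
    have : QuasiSober (Set.range f) := hcl.isClosedEmbedding_subtypeVal.quasiSober
    refine Groth.Agent.Sga3C.DimTop.topologicalKrullDim_eq_of_closedMap (Set.rangeFactorization f)
      (f.continuous.subtype_mk _) ?_ Set.rangeFactorization_surjective ?_
    · exact f.isClosedMap.subtype_mk _
    · intro x x' h he
      exact Groth.Agent.Sga3C.DimTop.eq_of_specializes_of_isIntegralHom f x x' h (congrArg Subtype.val he)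
  rw [← h2, hX] at h1
  exact lt_irrefl _ h1

theorem dim_fiber_le {X S : Scheme.{u}} {p : X ⟶ S} (hp : Curv2.IsNodalFamily p) (s : S) :
    topologicalKrullDim (p.fiber s) ≤ 1 := by
  rw [Groth.Agent.VarietyB.DimTop.topologicalKrullDim_eq_iSup_irreducibleComponents]
  exact iSup_le fun Z => ((hp.2.2 s).1 Z.1 Z.2).le

/-- A nodal family over a discrete valuation ring with smooth generic fibre is normal. -/
theorem isNormalScheme_of_nodal {R : Type u} [CommRing R] [IsDomain R] [IsDiscreteValuationRing R]
    {C X : Scheme.{u}} {f : C ⟶ Spec (CommRingCat.of (FractionRing R))} [Smooth f] {p : X ⟶ Spec (CommRingCat.of R)}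
    (hp : Curv2.IsNodalFamily p) {j : C ⟶ X}
    (hj : IsPullback j f p (Spec.map (CommRingCat.ofHom (algebraMap R (FractionRing R))))) :
    Pi1.IsNormalScheme X := by
  refine Groth.Agent.S7889.result p hp fun x hx => ?_
  have ho : IsOpenImmersion (Spec.map (CommRingCat.ofHom (algebraMap R (FractionRing R)))) :=
    Groth.Agent.Models.DVRGeneric.isOpenImmersion_generic R (FractionRing R)
  have hoj : IsOpenImmersion j := MorphismProperty.of_isPullback hj.flip ho
  obtain ⟨c, rfl⟩ : ∃ c, j c = x := by
    have h1 : p x ∈ Set.range (Spec.map (CommRingCat.ofHom (algebraMap R (FractionRing R)))) := by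
      refine ⟨(⊥ : PrimeSpectrum (FractionRing R)), PrimeSpectrum.ext ?_⟩
      rw [hx]
      exact (RingHom.injective_iff_ker_eq_bot _).1 (IsFractionRing.injective R (FractionRing R))
    obtain ⟨y, hy⟩ := h1
    obtain ⟨z, hz, -⟩ := Scheme.Pullback.exists_preimage_pullback x y hy.symm
    exact ⟨hj.isoPullback.inv z, by rw [← Scheme.Hom.comp_apply, hj.isoPullback_inv_fst, hz]⟩
  obtain ⟨h1, h2⟩ := Groth.Agent.Dix.NormalLoc.stalk_of_smooth f c
  let e : X.presheaf.stalk (j c) ≃+* C.presheaf.stalk c := (asIso (j.stalkMap c)).commRingCatIsoToRingEquiv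
  have h3 : IsDomain (X.presheaf.stalk (j c)) := e.toMulEquiv.isDomain _
  exact ⟨h3, IsIntegrallyClosed.of_equiv e.symm⟩

section

variable {R R' : Type u} [CommRing R] [IsDomain R] [IsDiscreteValuationRing R]
    [CommRing R'] [IsDomain R'] [IsDiscreteValuationRing R'] [HenselianLocalRing R'] [Algebra R R'] [Module.Finite R R']

theorem descend (hinj : Function.Injective (algebraMap R R'))
    (G : Type u) [Group G] [Finite G] [MulSemiringAction G R'] [SMulCommClass G R R'] [Algebra.IsInvariant R R' G]
    (H : ActExt.Ext53.{u})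
    {X Y : Scheme.{u}} (fX : X ⟶ Spec (CommRingCat.of (FractionRing R))) (fY : Y ⟶ Spec (CommRingCat.of (FractionRing R)))
    (hX : Curve.IsSmoothProperCurve (FractionRing R) X fX) (hX0 : IsIso fX.appTop)
    (hY : Curve.IsSmoothProperCurve (FractionRing R) Y fY) (hY0 : IsIso fY.appTop)
    (f : X ⟶ Y) [IsFinite f] (hf : f ≫ fY = fX)
    (hg : 2 ≤ Models.curveGenus (FractionRing R) Y fY)
    {XR : Scheme.{u}} (p : XR ⟶ Spec (CommRingCat.of R)) {m : ℕ} (hp : StabFam.IsStab p m)
    (iX : X ⟶ XR) (hiX : IsPullback iX fX p (Spec.map (CommRingCat.ofHom (algebraMap R (FractionRing R)))))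
    {YR' : Scheme.{u}} (q : YR' ⟶ Spec (CommRingCat.of R')) {n : ℕ} (hq : StabFam.IsStab q n)
    {YL : Scheme.{u}} {gY : YL ⟶ Y} {kY : YL ⟶ Spec (CommRingCat.of (FractionRing R'))}
    (hYLsq : IsPullback gY kY fY (Spec.map (CommRingCat.ofHom (RingAct.fracMap R R' hinj))))
    (j : YL ⟶ YR')
    (hj : IsPullback j kY q (Spec.map (CommRingCat.ofHom (algebraMap R' (FractionRing R'))))) :
    Models.HasSemistableReduction R Y fY := by
  have hYsm : Smooth fY := hY.2.1
  have hXint : IsIntegral X := hX.2.2.1
  have hYint : IsIntegral Y := hY.2.2.1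
  have hfsurj : Surjective f := surjective_of_isFinite f 1 hX.2.2.2 hY.2.2.2
  have hp1 : Flat p := hp.1
  have hp2 : IsProper p := hp.2.1
  have hq1 : Flat q := hq.1
  have hq2 : IsProper q := hq.2.1
  set ψ := RingAct.fracMap R R' hinj with hψdef
  have hψ : ψ.comp (algebraMap R (FractionRing R)) = (algebraMap R' (FractionRing R')).comp (algebraMap R R') :=
    RingAct.fracMap_comp R R' hinj
  set b := Spec.map (CommRingCat.ofHom (algebraMap R R')) with hbdef
  set bL := Spec.map (CommRingCat.ofHom ψ) with hbLdef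
  have hfree : Module.Free R R' := RingAct.free R R' hinj
  have hb := RingAct.isQuot_specAct G R' R hinj
  have hL := RingAct.isPullback_frac R R' hinj
  have hρ1 := RingAct.fracAct_comp G R'
  have hρ2 : ∀ g : G, (RingAct.fracAct G R' g).hom ≫ bL = bL := RingAct.fracAct_over R R' G hinj
  -- the curves over `L`
  have hYprop : IsProper fY := hY.1
  have hYL : Curve.IsSmoothProperCurve (FractionRing R') YL kY := by
    let _ : Algebra (FractionRing R) (FractionRing R') := ψ.toAlgebra
    exact Groth.Agent.Models.H58.CurveBC.isSmoothProperCurve hYLsq hY hY0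
  have hYcomp : CompactSpace Y := (quasiCompact_iff_compactSpace fY).mp inferInstance
  have hYqs : QuasiSeparatedSpace Y := (quasiSeparated_iff_quasiSeparatedSpace fY).mp inferInstance
  have hYL0 : IsIso kY.appTop := by
    let _ : Algebra (FractionRing R) (FractionRing R') := ψ.toAlgebra
    exact Groth.Agent.Models.H58.CurveBC.isIso_appTop hYLsq hY0
  obtain ⟨hXL, hXL0⟩ := Groth.Agent.Models.H57.GeoInt.isSmoothProperCurve_pullback fX hX hX0 ψ
  have hXLsq : IsPullback (pullback.fst fX bL) (pullback.snd fX bL) fX bL := IsPullback.of_hasPullback _ _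
  have hYLsm : Smooth kY := hYL.2.1
  have hYLint : IsIntegral YL := hYL.2.2.1
  have hgL : 2 ≤ Models.curveGenus (FractionRing R') YL kY := by
    rw [ActExt.curveGenus_of_isPullback ψ hYLsq]
    exact hg
  -- the finite morphism over `L`
  let fL : pullback fX bL ⟶ YL := hYLsq.lift (pullback.fst fX bL ≫ f) (pullback.snd fX bL) (by
    rw [Category.assoc, hf, pullback.condition])
  have hfL1 : fL ≫ gY = pullback.fst fX bL ≫ f := hYLsq.lift_fst _ _ _
  have hfL2 : fL ≫ kY = pullback.snd fX bL := hYLsq.lift_snd _ _ _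
  have hfLsq : IsPullback (pullback.fst fX bL) fL f gY := by
    refine IsPullback.of_bot ?_ hfL1.symm hYLsq
    rw [hfL2, hf]
    exact hXLsq
  have hfLfin : IsFinite fL := MorphismProperty.of_isPullback hfLsq ‹_›
  have hfLsurj : Surjective fL := MorphismProperty.of_isPullback hfLsq hfsurj
  -- the actions
  let aL : G →* Aut YL := K754.QuotFam.pullAct hYLsq.flip (RingAct.fracAct G R') hρ2
  have haL1 : ∀ g, (aL g).hom ≫ gY = gY := K754.QuotFam.pullAct_right _ _ _
  have haL2 : ∀ g, (aL g).hom ≫ kY = kY ≫ (RingAct.fracAct G R' g).hom :=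
    K754.QuotFam.pullAct_left _ _ _
  let aXL : G →* Aut (pullback fX bL) := K754.QuotFam.pullAct hXLsq.flip (RingAct.fracAct G R') hρ2
  have haXL1 : ∀ g, (aXL g).hom ≫ pullback.fst fX bL = pullback.fst fX bL := K754.QuotFam.pullAct_right _ _ _
  have haXL2 : ∀ g, (aXL g).hom ≫ pullback.snd fX bL = pullback.snd fX bL ≫ (RingAct.fracAct G R' g).hom :=
    K754.QuotFam.pullAct_left _ _ _
  have hfLa : ∀ g, (aXL g).hom ≫ fL = fL ≫ (aL g).hom := by
    intro g
    apply hYLsq.hom_ext
    · rw [Category.assoc, hfL1, Category.assoc, haL1, hfL1, ← Category.assoc, haXL1]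
    · rw [Category.assoc, hfL2, Category.assoc, haL2, haXL2, ← Category.assoc, hfL2]
  obtain ⟨a, ha, haj⟩ := ActExt.exists_action H hYL hYL0 hgL hq hj aL haL2
  -- the base change of `XR`
  have hX'sq : IsPullback (pullback.fst p b) (pullback.snd p b) p b := IsPullback.of_hasPullback _ _
  have hp' : StabFam.IsStab (pullback.snd p b) m := hp.of_isPullback hX'sq
  have hρb : ∀ g : G, (RingAct.specAct G R' g).hom ≫ b = b := hb.inv
  let aX : G →* Aut (pullback p b) := K754.QuotFam.pullAct hX'sq.flip (RingAct.specAct G R') hρb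
  have haX1 : ∀ g, (aX g).hom ≫ pullback.fst p b = pullback.fst p b := K754.QuotFam.pullAct_right _ _ _
  have haX2 : ∀ g, (aX g).hom ≫ pullback.snd p b = pullback.snd p b ≫ (RingAct.specAct G R' g).hom :=
    K754.QuotFam.pullAct_left _ _ _
  obtain ⟨iX', hiX'1, hiX'⟩ := GenLift.isPullback_lift hψ hiX hXLsq hX'sq
  have hiXa : ∀ g, (aXL g).hom ≫ iX' = iX' ≫ (aX g).hom := by
    intro g
    apply hX'sq.hom_ext
    · rw [Category.assoc, hiX'1, Category.assoc, haX1, hiX'1, ← Category.assoc, haXL1]
    · rw [Category.assoc, hiX'.w, Category.assoc, haX2, ← Category.assoc, haXL2, Category.assoc, hρ1, ← Category.assoc,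
        ← Category.assoc, hiX'.w]
  -- the extension of the finite morphism
  have hp'2 : IsProper (pullback.snd p b) := hp'.2.1
  have hp'1 : Flat (pullback.snd p b) := hp'.1
  obtain ⟨φ, hφq, hφ⟩ := H R' (pullback fX bL) YL (pullback.snd fX bL) kY hXL hXL0 hYL hYL0
    hgL fL hfL2 (pullback p b) (pullback.snd p b) hp'.isNodalFamily hp'.noExcComp iX' hiX' YR' q hq.isNodalFamily
    hq.noExcComp j hj
  have hφa : ∀ g, (aX g).hom ≫ φ = φ ≫ (a g).hom := by
    intro g
    refine GenExt.ext hiX' q ?_ ?_
    · rw [Category.assoc, hφq, Category.assoc, ha, haX2, ← Category.assoc, hφq]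
    · rw [← Category.assoc, ← hiXa, Category.assoc, hφ, ← Category.assoc, hfLa, Category.assoc, haj, ← Category.assoc,
        ← Category.assoc, hφ]
  have hYR'int : IsIntegral YR' := GenExt.isIntegral_of_flat hj
  have hφproper : IsProper φ := by
    have h1 : IsProper (φ ≫ q) := by rw [hφq]; exact hp'2
    exact IsProper.of_comp φ q
  have hφsurj : Surjective φ := by
    have h0 : QuasiCompact j := MorphismProperty.of_isPullback hj.flip inferInstance
    have h1 := GenExt.dominant_of_flat hj
    have h1' : IsDominant j := inferInstance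
    have h2 : IsDominant (iX' ≫ φ) := by
      rw [hφ]
      infer_instance
    have h3 : IsDominant φ := IsDominant.of_comp iX' φ
    constructor
    rw [← Set.range_eq_univ, ← φ.isClosedMap.isClosed_range.closure_eq]
    exact φ.denseRange.closure_range
  have hn : Pi1.IsNormalScheme YR' := isNormalScheme_of_nodal hq.isNodalFamily hj
  have horb : ∀ x : YR', ∃ U : YR'.Opens, IsAffineOpen U ∧ ∀ g : G, (a g).hom.base x ∈ U := by
    intro x
    obtain ⟨U, hU, hU'⟩ := OrbAff.exists_isAffineOpen q (dim_fiber_le hq.isNodalFamily _)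
      (Set.range fun g : G => (a g).hom.base x) (Set.finite_range _)
    exact ⟨U, hU, fun g => hU' ⟨g, rfl⟩⟩
  obtain ⟨YR, h, π, i, hh1, hh2, hπ, hi⟩ := DescMain.exists_descent R R' hinj (RingAct.specAct G R') hb bL hL
    (RingAct.fracAct G R') hρ1 hρ2 fY gY kY hYLsq q hn j hj a ha aL haL1 haL2 haj
    horb p (pullback.fst p b) (pullback.snd p b) hX'sq aX haX1 haX2 φ hφq hφa
  have hbflat : Flat b := by
    rw [hbdef, Flat.SpecMap_iff]
    change (algebraMap R R').Flat
    rw [RingHom.flat_algebraMap_iff]
    infer_instance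
  have hbsurj : Surjective b := ⟨Groth.Agent.Sga1.QuotBasic.surjective_of_isQuot hb⟩
  have hnod : Curv2.IsNodalFamily h := by
    refine Groth.Agent.S1594.result h b ?_
    exact Groth.Agent.Models.H59.FibreNodal.isNodalFamily_of_iso hπ.isoPullback.symm hπ.isoPullback_inv_snd
      hq.isNodalFamily
  exact ⟨YR, h, ⟨hh2, inferInstance, inferInstance, i, hi⟩, hh1, hnod⟩

end

end K954.Descend
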