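import Groth.Agent.Models.K954.GenExt
import Groth.Agent.Models.K954.GenLift
import Mathlib.AlgebraicGeometry.Sites.Fpqc
import Mathlib.RingTheory.Flat.TorsionFree
import Mathlib.RingTheory.Flat.FaithfullyFlat.Algebra
import Mathlib.RingTheory.Localization.BaseChange
import Groth.Prelude.Def_ModelsG

/-!
# Descent of the extension of a morphism of generic fibres

`exists_desc`: if a morphism of generic fibres extends over a faithfully flat base change of the base it extends.
-/

set_option autoImplicit false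
universe u

open CategoryTheory CategoryTheory.Limits AlgebraicGeometry

namespace K954.ExtDesc

theorem exists_desc {R K : Type u} [CommRing R] [IsDomain R] [Field K] [Algebra R K] [IsFractionRing R K]
    {S' X XR X' XK' YR : Scheme.{u}} (b : S' ⟶ Spec (CommRingCat.of R)) [Flat b] [Surjective b] [QuasiCompact b]
    (p : XR ⟶ Spec (CommRingCat.of R)) [Flat p] {gX : X' ⟶ XR} {p' : X' ⟶ S'} (sq : IsPullback gX p' p b)
    {iX : X ⟶ XR} {fX : X ⟶ Spec (CommRingCat.of K)}
    (hiX : IsPullback iX fX p (Spec.map (CommRingCat.ofHom (algebraMap R K))))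
    {i' : XK' ⟶ X'} {t : XK' ⟶ Spec (CommRingCat.of K)}
    (hi' : IsPullback i' t (gX ≫ p) (Spec.map (CommRingCat.ofHom (algebraMap R K))))
    {w : XK' ⟶ X} (hw : w ≫ iX = i' ≫ gX)
    (q : YR ⟶ Spec (CommRingCat.of R)) [IsSeparated q] (e : X ⟶ YR) (ψ : X' ⟶ YR) (hψ : ψ ≫ q = gX ≫ p)
    (hψ' : i' ≫ ψ = w ≫ e) : ∃ φ : XR ⟶ YR, gX ≫ φ = ψ ∧ φ ≫ q = p ∧ iX ≫ φ = e := by
  have hg1 : Flat gX := MorphismProperty.of_isPullback sq.flip ‹_›
  have hg2 : Surjective gX := MorphismProperty.of_isPullback sq.flip ‹_›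
  have hg3 : QuasiCompact gX := MorphismProperty.of_isPullback sq.flip ‹_›
  have hkmono : Mono (Spec.map (CommRingCat.ofHom (algebraMap R K))) := by
    have h2 : IsPreimmersion (Spec.map (CommRingCat.ofHom (algebraMap R K))) :=
      IsPreimmersion.of_isLocalization (nonZeroDivisors R)
    infer_instance
  have hmono : Mono iX :=
    MorphismProperty.of_isPullback (P := MorphismProperty.monomorphisms Scheme) hiX.flip hkmono
  let k := Spec.map (CommRingCat.ofHom (algebraMap R K))
  let c : pullback gX gX ⟶ Spec (CommRingCat.of R) := pullback.fst gX gX ≫ gX ≫ p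
  have hc : Flat c := inferInstance
  have hcs : pullback.snd gX gX ≫ gX ≫ p = c := by
    rw [← Category.assoc, ← pullback.condition, Category.assoc]
  have h1 : pullback.fst gX gX ≫ ψ = pullback.snd gX gX ≫ ψ := by
    refine GenExt.ext (IsPullback.of_hasPullback c k) q ?_ ?_
    · rw [Category.assoc, hψ, Category.assoc, hψ, hcs]
    · let l₁ : pullback c k ⟶ XK' := hi'.lift (pullback.fst c k ≫ pullback.fst gX gX) (pullback.snd c k) (by
        rw [Category.assoc]; exact pullback.condition)
      let l₂ : pullback c k ⟶ XK' := hi'.lift (pullback.fst c k ≫ pullback.snd gX gX) (pullback.snd c k) (by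
        rw [Category.assoc, hcs]; exact pullback.condition)
      have e1 : l₁ ≫ i' = pullback.fst c k ≫ pullback.fst gX gX := hi'.lift_fst _ _ _
      have e2 : l₂ ≫ i' = pullback.fst c k ≫ pullback.snd gX gX := hi'.lift_fst _ _ _
      have e3 : l₁ ≫ w = l₂ ≫ w := by
        rw [← cancel_mono iX, Category.assoc, hw, Category.assoc, hw, ← Category.assoc, e1, ← Category.assoc, e2,
          Category.assoc, Category.assoc, pullback.condition]
      rw [← Category.assoc, ← e1, Category.assoc, hψ', ← Category.assoc, e3, Category.assoc, ← hψ', ← Category.assoc, e2,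
        Category.assoc]
  let φ : XR ⟶ YR := (EffectiveEpi.getStruct gX).desc ψ (fun g₁ g₂ hg => by
    have h2 : pullback.lift g₁ g₂ hg ≫ pullback.fst gX gX ≫ ψ = pullback.lift g₁ g₂ hg ≫ pullback.snd gX gX ≫ ψ := by
      rw [h1]
    rwa [pullback.lift_fst_assoc, pullback.lift_snd_assoc] at h2)
  have hφ : gX ≫ φ = ψ := (EffectiveEpi.getStruct gX).fac _ _
  have hepi : Epi gX := inferInstance
  refine ⟨φ, hφ, ?_, ?_⟩
  · rw [← cancel_epi gX, ← Category.assoc, hφ, hψ]
  · have ht : w ≫ fX = t := by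
      rw [← cancel_mono (Spec.map (CommRingCat.ofHom (algebraMap R K))), Category.assoc, ← hiX.w, ← Category.assoc, hw,
        ← hi'.w, Category.assoc]
    have hsq : IsPullback w i' iX gX := by
      refine IsPullback.of_right (h₁₂ := fX) (h₂₂ := p) (v₁₃ := Spec.map (CommRingCat.ofHom (algebraMap R K))) ?_ hw
        hiX.flip
      rw [ht]
      exact hi'.flip
    have hw1 : Flat w := MorphismProperty.of_isPullback hsq.flip ‹_›
    have hw2 : Surjective w := MorphismProperty.of_isPullback hsq.flip ‹_›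
    have hw3 : QuasiCompact w := MorphismProperty.of_isPullback hsq.flip ‹_›
    have hepi' : Epi w := inferInstance
    rw [← cancel_epi w, ← Category.assoc, hw, Category.assoc, hφ, hψ']

section DVR

variable {R R' : Type u} [CommRing R] [IsDomain R] [IsDiscreteValuationRing R] [CommRing R'] [IsDomain R']
  [IsDiscreteValuationRing R'] {φ : R →+* R'} (hφ : Models.IsDVRExtension R φ)

include hφ in
/-- For an extension of discrete valuation rings `R'` localized at the nonzero elements of `R` is a field. -/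
theorem isPullback_frac {ψ : FractionRing R →+* FractionRing R'}
    (hψ : ψ.comp (algebraMap R (FractionRing R)) = (algebraMap R' (FractionRing R')).comp φ) :
    IsPullback (Spec.map (CommRingCat.ofHom (algebraMap R' (FractionRing R')))) (Spec.map (CommRingCat.ofHom ψ))
      (Spec.map (CommRingCat.ofHom φ)) (Spec.map (CommRingCat.ofHom (algebraMap R (FractionRing R)))) := by
  let _ : Algebra R R' := φ.toAlgebra
  let _ : Algebra (FractionRing R) (FractionRing R') := ψ.toAlgebra
  have t1 : IsScalarTower R R' (FractionRing R') := inferInstance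
  have t2 : IsScalarTower R (FractionRing R) (FractionRing R') := IsScalarTower.of_algebraMap_eq' (by
    rw [IsScalarTower.algebraMap_eq R R' (FractionRing R')]
    exact hψ.symm)
  have hinj : Function.Injective (algebraMap R R') := hφ.1
  have hloc0 : IsLocalHom (algebraMap R R') := hφ.2
  have hloc : IsLocalization (Algebra.algebraMapSubmonoid R' (nonZeroDivisors R)) (FractionRing R') := by
    refine (IsLocalization.iff_of_le_of_exists_dvd _ (nonZeroDivisors R')
      (map_le_nonZeroDivisors_of_injective _ hinj le_rfl) fun s hs => ?_).mpr inferInstance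
    have hs0 : s ≠ 0 := nonZeroDivisors.ne_zero hs
    obtain ⟨ϖ, hϖ⟩ := IsDiscreteValuationRing.exists_irreducible R
    have hnu : ¬ IsUnit (algebraMap R R' ϖ) := fun h0 => hϖ.not_isUnit (isUnit_of_map_unit (algebraMap R R') ϖ h0)
    obtain ⟨ϖ', hϖ'⟩ := IsDiscreteValuationRing.exists_irreducible R'
    obtain ⟨n, u, hu⟩ := IsDiscreteValuationRing.eq_unit_mul_pow_irreducible hs0 hϖ'
    have h1 : ϖ' ∣ algebraMap R R' ϖ := by
      rw [← Ideal.mem_span_singleton, ← hϖ'.maximalIdeal_eq]
      exact (IsLocalRing.mem_maximalIdeal _).2 hnu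
    refine ⟨algebraMap R R' (ϖ ^ n), ⟨ϖ ^ n, mem_nonZeroDivisors_of_ne_zero (pow_ne_zero _ hϖ.ne_zero), rfl⟩, ?_⟩
    rw [map_pow, hu]
    exact (Units.isUnit u).mul_left_dvd.2 (pow_dvd_pow_of_dvd h1 n)
  have h1 : Algebra.IsPushout R R' (FractionRing R) (FractionRing R') :=
    Algebra.isPushout_of_isLocalization (nonZeroDivisors R) (FractionRing R) R' (FractionRing R')
  exact (isPullback_SpecMap_of_isPushout _ _ _ _ (CommRingCat.isPushout_of_isPushout R R' (FractionRing R) (FractionRing R')))

include hφ in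
/-- A morphism of generic fibres which extends over an extension of discrete valuation rings extends. -/
theorem exists_of_extension {ψ : FractionRing R →+* FractionRing R'}
    (hψ : ψ.comp (algebraMap R (FractionRing R)) = (algebraMap R' (FractionRing R')).comp φ)
    {X Y XR YR X' Y' XR' YR' : Scheme.{u}}
    {fX : X ⟶ Spec (CommRingCat.of (FractionRing R))} {fX' : X' ⟶ Spec (CommRingCat.of (FractionRing R'))}
    {wX : X' ⟶ X} (hX : IsPullback wX fX' fX (Spec.map (CommRingCat.ofHom ψ)))
    {wY : Y' ⟶ Y} (f : X ⟶ Y) (f' : X' ⟶ Y') (hf : f' ≫ wY = wX ≫ f)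
    (p : XR ⟶ Spec (CommRingCat.of R)) [Flat p] {gX : XR' ⟶ XR} {p' : XR' ⟶ Spec (CommRingCat.of R')}
    (hXR : IsPullback gX p' p (Spec.map (CommRingCat.ofHom φ)))
    {iX : X ⟶ XR} (hiX : IsPullback iX fX p (Spec.map (CommRingCat.ofHom (algebraMap R (FractionRing R)))))
    {iX' : X' ⟶ XR'} (hiX' : IsPullback iX' fX' p' (Spec.map (CommRingCat.ofHom (algebraMap R' (FractionRing R')))))
    (hwX : wX ≫ iX = iX' ≫ gX)
    (q : YR ⟶ Spec (CommRingCat.of R)) [IsSeparated q] {gY : YR' ⟶ YR} {q' : YR' ⟶ Spec (CommRingCat.of R')}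
    (hYR : gY ≫ q = q' ≫ Spec.map (CommRingCat.ofHom φ)) {iY : Y ⟶ YR} {iY' : Y' ⟶ YR'}
    (hwY : wY ≫ iY = iY' ≫ gY) (Φ : XR' ⟶ YR') (hΦ : Φ ≫ q' = p') (hΦf : iX' ≫ Φ = f' ≫ iY') :
    ∃ Ψ : XR ⟶ YR, Ψ ≫ q = p ∧ iX ≫ Ψ = f ≫ iY := by
  let _ : Algebra R R' := φ.toAlgebra
  have hinj : Function.Injective (algebraMap R R') := hφ.1
  have hloc0 : IsLocalHom (algebraMap R R') := hφ.2
  have hfaith : FaithfulSMul R R' := (faithfulSMul_iff_algebraMap_injective R R').2 hinj
  have htf : Module.IsTorsionFree R R' := inferInstance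
  have hflat : Module.Flat R R' := inferInstance
  have hff : Module.FaithfullyFlat R R' := Module.FaithfullyFlat.of_flat_of_isLocalHom
  have h1 : Surjective (Spec.map (CommRingCat.ofHom φ)) := ⟨PrimeSpectrum.comap_surjective_of_faithfullyFlat⟩
  have h2 : Flat (Spec.map (CommRingCat.ofHom φ)) := by
    rw [Flat.SpecMap_iff]
    change (algebraMap R R').Flat
    rw [RingHom.flat_algebraMap_iff]
    infer_instance
  have h3 := isPullback_frac hφ hψ
  have hi' : IsPullback iX' (fX' ≫ Spec.map (CommRingCat.ofHom ψ)) (gX ≫ p)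
      (Spec.map (CommRingCat.ofHom (algebraMap R (FractionRing R)))) := by
    rw [hXR.w]
    exact hiX'.paste_vert h3
  obtain ⟨Ψ, -, h4, h5⟩ := exists_desc (K := FractionRing R) (Spec.map (CommRingCat.ofHom φ)) p hXR hiX hi' hwX q (f ≫ iY)
    (Φ ≫ gY) (by rw [Category.assoc, hYR, ← Category.assoc, hΦ, hXR.w]) (by
      rw [← Category.assoc, hΦf, Category.assoc, ← hwY, ← Category.assoc, hf, Category.assoc])
  exact ⟨Ψ, h4, h5⟩

end DVR

end K954.ExtDesc
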