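import Mathlib.AlgebraicGeometry.Birational.RationalMap

/-!
# A rational map defined locally everywhere is a morphism
-/

set_option autoImplicit false
universe u

open CategoryTheory CategoryTheory.Limits AlgebraicGeometry

namespace Groth.Agent.K954.Glue53

theorem exists_glue {X Y S : Scheme.{u}} [IsIntegral X] (p : X ⟶ S) (q : Y ⟶ S)  [Y.IsSeparated] [S.IsSeparated] (U : X.Opens) (hU : Dense (U : Set X)) (h : (U : Scheme.{u}) ⟶ Y)
    (hh : h ≫ q = U.ι ≫ p)
    (H : ∀ x : X, ∃ (V : X.Opens) (v : (V : Scheme.{u}) ⟶ Y), x ∈ V ∧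
      X.homOfLE (inf_le_right : U ⊓ V ≤ V) ≫ v = X.homOfLE (inf_le_left : U ⊓ V ≤ U) ≫ h) :
    ∃ φ : X ⟶ Y, φ ≫ q = p ∧ U.ι ≫ φ = h := by
  let f : X.PartialMap Y := ⟨U, hU, h⟩
  have hdom : f.toRationalMap.domain = ⊤ := by
    refine top_le_iff.1 fun x _ => ?_
    obtain ⟨V, v, hx, hv⟩ := H x
    have hV : Dense (V : Set X) := V.2.dense ⟨x, hx⟩
    refine Scheme.RationalMap.mem_domain.2 ⟨⟨V, hV, v⟩, hx, ?_⟩
    rw [Scheme.PartialMap.toRationalMap_eq_iff]
    exact ⟨U ⊓ V, hU.inter_of_isOpen_left hV U.2, inf_le_right, inf_le_left, hv⟩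
  let F := f.toRationalMap.toPartialMap
  have hF : F.domain = ⊤ := hdom
  let φ : X ⟶ Y := X.topIso.inv ≫ X.homOfLE hF.ge ≫ F.hom
  have h1 : U.ι ≫ φ = h := by
    have h2 := f.toPartialMap_toRationalMap_restrict
    change _ = h at h2
    rw [← h2]
    change U.ι ≫ X.topIso.inv ≫ X.homOfLE hF.ge ≫ F.hom = X.homOfLE _ ≫ F.hom
    rw [← Category.assoc, ← Category.assoc]
    congr 1
    rw [← cancel_mono (Scheme.Opens.ι _)]
    simp only [Category.assoc, Scheme.homOfLE_ι]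
    rw [← Scheme.topIso_hom, Iso.inv_hom_id, Category.comp_id]
  refine ⟨φ, ?_, h1⟩
  have hd : IsDominant U.ι := ⟨by rw [DenseRange, Scheme.Opens.range_ι]; exact hU⟩
  apply ext_of_isDominant U.ι
  rw [← Category.assoc, h1, hh]

end Groth.Agent.K954.Glue53
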