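import Groth.Agent.Models.K954.Step
import Groth.Agent.Models.K954.Glue53
import Groth.Agent.Models.K954.ExtDesc
import Groth.Agent.Models.K954.GenLift
import Groth.Agent.Models.H57.GeoInt
import Groth.Agent.Sga7.H734.NodalBC
import Groth.Agent.Models.K954.Descend
import Groth.Agent.GrpSch.K86.DvrDom
import Groth.Agent.SSMod.K971.BaseChange

/-!
# Extension of finite morphisms to stable models
-/

set_option autoImplicit false
universe u

open CategoryTheory CategoryTheory.Limits AlgebraicGeometry IsLocalRing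
open Groth.Agent.K954.NC

namespace Groth.Agent.K954.ExtAlg

/-- Covers with normal crossing points. -/
def Chart : Prop :=
  ∀ {R : Type u} [CommRing R] [IsDomain R] [IsDiscreteValuationRing R] {ϖ : R} (_ : Irreducible ϖ) {X : Scheme.{u}}
    (p : X ⟶ Spec (CommRingCat.of R)) [LocallyOfFiniteType p] (_ : Curv2.IsNodalFamily p)
    (_ : ∀ x, p x ≠ (closedPoint R : PrimeSpectrum R) → x ∈ p.smoothLocus) (x : X)
    (_ : p x = (closedPoint R : PrimeSpectrum R)) (_ : IsClosed ({x} : Set X)),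
    ∃ (Z : Scheme.{u}) (f : Z ⟶ X) (z : Z), IsIntegral Z ∧ IsAffine Z ∧ IsNoetherian Z ∧ LocallyOfFiniteType f ∧
      UniversallyOpen f ∧ (∀ z', IsIntegrallyClosed (Z.presheaf.stalk z')) ∧ IsClosed ({z} : Set Z) ∧ f z = x ∧
      NCAt (f ≫ p) ϖ z

/-- Local extension. -/
def Loc : Prop :=
  ∀ {R : Type u} [CommRing R] [IsDomain R] [IsDiscreteValuationRing R] {ϖ : R} (_ : Irreducible ϖ) {X Y : Scheme.{u}}
    (p : X ⟶ Spec (CommRingCat.of R)) (q : Y ⟶ Spec (CommRingCat.of R)) [LocallyOfFiniteType p] [IsProper q]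
    [IsIntegral X] [IsIntegral Y] (_ : ∀ x, IsIntegrallyClosed (X.presheaf.stalk x)) (U : X.Opens)
    (_ : ∀ x, p x ≠ (closedPoint R : PrimeSpectrum R) → x ∈ U) (h : (U : Scheme.{u}) ⟶ Y) (_ : h ≫ q = U.ι ≫ p)
    (_ : ∀ x : U, U.ι x = genericPoint X → h x = genericPoint Y) (x : X)
    (_ : p x = (closedPoint R : PrimeSpectrum R)) (Z : Scheme.{u}) (f : Z ⟶ X) (z : Z) [IsIntegral Z] [IsAffine Z]
    [IsNoetherian Z] [LocallyOfFiniteType f] [UniversallyOpen f] (_ : ∀ z', IsIntegrallyClosed (Z.presheaf.stalk z'))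
    (_ : IsClosed ({z} : Set Z)) (_ : f z = x) (_ : NCAt (f ≫ p) ϖ z)
    (_ : StepDef.StepHyp q ϖ (genericPoint Y)),
    ∃ (V : X.Opens) (v : (V : Scheme.{u}) ⟶ Y), x ∈ V ∧ v ≫ q = V.ι ≫ p ∧
      X.homOfLE (inf_le_right : U ⊓ V ≤ V) ≫ v = X.homOfLE (inf_le_left : U ⊓ V ≤ U) ≫ h

theorem gen_of_surjective {X Y : Scheme.{u}} [IsIntegral X] [IsIntegral Y] (f : X ⟶ Y) [Surjective f] :
    f (genericPoint X) = genericPoint Y := by
  obtain ⟨z, hz⟩ := f.surjective (genericPoint Y)
  have h1 : f (genericPoint X) ⤳ f z := (genericPoint_specializes z).map f.continuous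
  rw [hz] at h1
  exact (h1.antisymm (genericPoint_specializes _)).eq

section

variable (R : Type u) [CommRing R] [IsDomain R] [IsDiscreteValuationRing R]
    (X Y : Scheme.{u}) (fX : X ⟶ Spec (CommRingCat.of (FractionRing R))) (fY : Y ⟶ Spec (CommRingCat.of (FractionRing R)))
    (hX : Curve.IsSmoothProperCurve (FractionRing R) X fX) (hX0 : IsIso fX.appTop)
    (hY : Curve.IsSmoothProperCurve (FractionRing R) Y fY) (hY0 : IsIso fY.appTop)
    (hg : 2 ≤ Models.curveGenus (FractionRing R) Y fY)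
    (f : X ⟶ Y) [IsFinite f] (hf : f ≫ fY = fX)
    (XR : Scheme.{u}) (p : XR ⟶ Spec (CommRingCat.of R)) [IsProper p] (hp : Curv2.IsNodalFamily p)
    (iX : X ⟶ XR) (hiX : IsPullback iX fX p (Spec.map (CommRingCat.ofHom (algebraMap R (FractionRing R)))))
    (YR : Scheme.{u}) (q : YR ⟶ Spec (CommRingCat.of R)) [IsProper q] (hq : Curv2.IsNodalFamily q)
    (hqs : SSMod.NoExcComp (𝟙 (Spec (CommRingCat.of R))) (Scheme.emptyTo YR) q)
    (iY : Y ⟶ YR) (hiY : IsPullback iY fY q (Spec.map (CommRingCat.ofHom (algebraMap R (FractionRing R)))))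

include hX hY hY0 hg hf hp hiX hq hqs hiY in
/-- The case of an algebraically closed residue field. -/
theorem extAlg (hChart : Chart.{u}) (hLoc : Loc.{u}) [IsAlgClosed (ResidueField R)] :
    ∃ φ : XR ⟶ YR, φ ≫ q = p ∧ iX ≫ φ = f ≫ iY := by
  have hXsm : Smooth fX := hX.2.1
  have hYsm : Smooth fY := hY.2.1
  have hXint : IsIntegral X := hX.2.2.1
  have hYint : IsIntegral Y := hY.2.2.1
  have hfsurj : Surjective f := K954.Descend.surjective_of_isFinite f 1 hX.2.2.2 hY.2.2.2
  have hp1 : Flat p := hp.1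
  have hp2 : LocallyOfFinitePresentation p := hp.2.1
  have hq1 : Flat q := hq.1
  have hq2 : LocallyOfFinitePresentation q := hq.2.1
  have hXRint : IsIntegral XR := K954.GenExt.isIntegral_of_flat hiX
  have hYRint : IsIntegral YR := K954.GenExt.isIntegral_of_flat hiY
  have hXn := K954.Descend.isNormalScheme_of_nodal hp hiX
  have hYn := K954.Descend.isNormalScheme_of_nodal hq hiY
  have hk : IsOpenImmersion (Spec.map (CommRingCat.ofHom (algebraMap R (FractionRing R)))) :=
    Groth.Agent.Models.DVRGeneric.isOpenImmersion_generic R (FractionRing R)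
  have hiXo : IsOpenImmersion iX := MorphismProperty.of_isPullback hiX.flip hk
  have hiYo : IsOpenImmersion iY := MorphismProperty.of_isPullback hiY.flip hk
  obtain ⟨ϖ, hϖ⟩ := IsDiscreteValuationRing.exists_irreducible R
  have hrange : ∀ x : XR, p x ≠ (closedPoint R : PrimeSpectrum R) → x ∈ Set.range iX := by
    intro x hx
    have h1 : p x ∈ Set.range (Spec.map (CommRingCat.ofHom (algebraMap R (FractionRing R)))) :=
      Groth.Agent.Models.DVRGeneric.range_generic (R := R) (FractionRing R) (p x) hx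
    obtain ⟨y, hy⟩ := h1
    obtain ⟨z, hz, -⟩ := Scheme.Pullback.exists_preimage_pullback x y hy.symm
    exact ⟨hiX.isoPullback.inv z, by rw [← Scheme.Hom.comp_apply, hiX.isoPullback_inv_fst, hz]⟩
  have hsm : ∀ x : XR, p x ≠ (closedPoint R : PrimeSpectrum R) → x ∈ p.smoothLocus := by
    intro x hx
    obtain ⟨y, rfl⟩ := hrange x hx
    have h1 : Smooth (iX ≫ p) := by rw [hiX.w]; infer_instance
    have h2 : iX ⁻¹ᵁ p.smoothLocus = ⊤ := by
      rw [Scheme.Hom.preimage_smoothLocus_eq, Scheme.Hom.smoothLocus_eq_top]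
    have h3 : y ∈ iX ⁻¹ᵁ p.smoothLocus := by rw [h2]; trivial
    exact h3
  let U : XR.Opens := iX.opensRange
  let h : (U : Scheme.{u}) ⟶ YR := iX.isoOpensRange.inv ≫ f ≫ iY
  have hU : Dense (U : Set XR) := by
    refine iX.opensRange.2.dense ?_
    exact ⟨iX (genericPoint X), ⟨_, rfl⟩⟩
  have hh : h ≫ q = U.ι ≫ p := by
    rw [← cancel_epi iX.isoOpensRange.hom]
    simp only [h, U, Category.assoc, Iso.hom_inv_id_assoc, Scheme.Hom.isoOpensRange_hom_ι_assoc]
    rw [hiY.w, hiX.w, reassoc_of% hf]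
  have hUx : ∀ x, p x ≠ (closedPoint R : PrimeSpectrum R) → x ∈ U := hrange
  have hgenX : ∀ x : X, iX x = genericPoint XR → x = genericPoint X := by
    intro x hx
    apply iX.isOpenEmbedding.injective
    rw [hx]
    exact (genericPoint_eq_of_isOpenImmersion iX).symm
  have hgen : ∀ x : U, U.ι x = genericPoint XR → h x = genericPoint YR := by
    intro x hx
    have h1 : iX.isoOpensRange.inv x = genericPoint X := by
      apply hgenX
      rw [← hx, ← Scheme.Hom.comp_apply, Scheme.Hom.isoOpensRange_inv_comp]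
    change (iX.isoOpensRange.inv ≫ f ≫ iY) x = _
    rw [Scheme.Hom.comp_apply, Scheme.Hom.comp_apply, h1, gen_of_surjective f]
    exact genericPoint_eq_of_isOpenImmersion iY
  have hstep : StepDef.StepHyp q ϖ (genericPoint YR) := Step.stepHyp R Y fY hY hY0 hg YR q hq hqs iY hiY hϖ hYn
  have hNX : CompactSpace XR := QuasiCompact.compactSpace_of_compactSpace p
  have hloc : ∀ x : XR, ∃ (V : XR.Opens) (v : (V : Scheme.{u}) ⟶ YR), x ∈ V ∧
      XR.homOfLE (inf_le_right : U ⊓ V ≤ V) ≫ v = XR.homOfLE (inf_le_left : U ⊓ V ≤ U) ≫ h := by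
    intro x
    by_cases hx : p x = (closedPoint R : PrimeSpectrum R)
    · obtain ⟨x', hx', hx'c⟩ := (isClosed_closure (s := ({x} : Set XR))).exists_closed_singleton ⟨x, subset_closure rfl⟩
      have hs : x ⤳ x' := specializes_iff_mem_closure.2 hx'
      have hpx' : p x' = (closedPoint R : PrimeSpectrum R) := by
        have h1 : p x ⤳ p x' := hs.map p.continuous
        rw [hx] at h1
        exact ((IsLocalRing.specializes_closedPoint (R := R) (p x')).antisymm h1).eq
      obtain ⟨Z, F, z, i1, i2, i3, i4, i5, h1, h2, h3, h4⟩ := hChart hϖ p hp hsm x' hpx' hx'c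
      obtain ⟨V, v, hV, -, hv⟩ := hLoc hϖ p q (fun y => (hXn y).2) U hUx h hh hgen x' hpx' Z F z h1 h2 h3 h4 hstep
      exact ⟨V, v, hs.mem_open V.2 hV, hv⟩
    · exact ⟨U, h, hUx x hx, rfl⟩
  have hsep : YR.IsSeparated := ⟨by rw [← terminal.comp_from q]; infer_instance⟩
  obtain ⟨φ, h1, h2⟩ := Glue53.exists_glue p q U hU h hh hloc
  refine ⟨φ, h1, ?_⟩
  have h3 := congrArg (iX.isoOpensRange.hom ≫ ·) h2
  simpa [h, U] using h3

include hX hX0 hY hY0 hg hf hp hiX hq hqs hiY in
/-- **Extension of finite morphisms to stable models.** -/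
theorem main (hChart : Chart.{u}) (hLoc : Loc.{u}) :
    ∃ φ : XR ⟶ YR, φ ≫ q = p ∧ iX ≫ φ = f ≫ iY := by
  obtain ⟨C, _, _, _, α, hloc, hinj, hcpl, halg⟩ := K86.DvrDom.exists_of_dvr R
  have hext : Models.IsDVRExtension R α := ⟨hinj, hloc⟩
  let ψ : FractionRing R →+* FractionRing C := IsFractionRing.map hinj
  have hψ : ψ.comp (algebraMap R (FractionRing R)) = (algebraMap C (FractionRing C)).comp α := by
    refine RingHom.ext fun r => ?_
    exact IsLocalization.map_eq (S := FractionRing R) (Q := FractionRing C) (g := α)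
      (nonZeroDivisors_le_comap_nonZeroDivisors_of_injective _ hinj) r
  set b := Spec.map (CommRingCat.ofHom α) with hb
  set bL := Spec.map (CommRingCat.ofHom ψ) with hbL
  obtain ⟨hXL, hXL0⟩ := Groth.Agent.Models.H57.GeoInt.isSmoothProperCurve_pullback fX hX hX0 ψ
  obtain ⟨hYL, hYL0⟩ := Groth.Agent.Models.H57.GeoInt.isSmoothProperCurve_pullback fY hY hY0 ψ
  have hXLsq : IsPullback (pullback.fst fX bL) (pullback.snd fX bL) fX bL := IsPullback.of_hasPullback _ _
  have hYLsq : IsPullback (pullback.fst fY bL) (pullback.snd fY bL) fY bL := IsPullback.of_hasPullback _ _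
  have hYprop : IsProper fY := hY.1
  have hgL : 2 ≤ Models.curveGenus (FractionRing C) (pullback fY bL) (pullback.snd fY bL) := by
    rw [K954.ActExt.curveGenus_of_isPullback ψ hYLsq]
    exact hg
  let fL : pullback fX bL ⟶ pullback fY bL := hYLsq.lift (pullback.fst fX bL ≫ f) (pullback.snd fX bL) (by
    rw [Category.assoc, hf, pullback.condition])
  have hfL1 : fL ≫ pullback.fst fY bL = pullback.fst fX bL ≫ f := hYLsq.lift_fst _ _ _
  have hfL2 : fL ≫ pullback.snd fY bL = pullback.snd fX bL := hYLsq.lift_snd _ _ _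
  have hfLsq : IsPullback (pullback.fst fX bL) fL f (pullback.fst fY bL) := by
    refine IsPullback.of_bot ?_ hfL1.symm hYLsq
    rw [hfL2, hf]
    exact hXLsq
  have hfLfin : IsFinite fL := MorphismProperty.of_isPullback hfLsq ‹_›
  have hXsq : IsPullback (pullback.fst p b) (pullback.snd p b) p b := IsPullback.of_hasPullback _ _
  have hYsq : IsPullback (pullback.fst q b) (pullback.snd q b) q b := IsPullback.of_hasPullback _ _
  obtain ⟨iX', hiX'1, hiX'⟩ := K954.GenLift.isPullback_lift hψ hiX hXLsq hXsq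
  obtain ⟨iY', hiY'1, hiY'⟩ := K954.GenLift.isPullback_lift hψ hiY hYLsq hYsq
  have hp' : Curv2.IsNodalFamily (pullback.snd p b) := Groth.Agent.Sga7.H734.NodalBC.isNodalFamily_of_isPullback hXsq hp
  have hq' : Curv2.IsNodalFamily (pullback.snd q b) := Groth.Agent.Sga7.H734.NodalBC.isNodalFamily_of_isPullback hYsq hq
  have hqs' : SSMod.NoExcComp (𝟙 (Spec (CommRingCat.of C))) (Scheme.emptyTo (pullback q b)) (pullback.snd q b) := by
    refine K971.SSBaseChange.noExcComp_baseChange hqs (t := b) (p := b) (p' := pullback.fst q b)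
      (IsPullback.of_vert_isIso ⟨by simp⟩) hYsq ?_
    rw [Set.range_eq_empty, Set.range_eq_empty, Set.preimage_empty]
  have hp1 : Flat p := hp.1
  obtain ⟨Φ, hΦ1, hΦ2⟩ := extAlg C _ _ _ _ hXL hYL hYL0 hgL fL hfL2 _ (pullback.snd p b) hp' iX' hiX' _
    (pullback.snd q b) hq' hqs' iY' hiY' hChart hLoc
  exact K954.ExtDesc.exists_of_extension hext hψ hXLsq f fL hfL1 p hXsq hiX hiX' hiX'1.symm q hYsq.w hiY'1.symm Φ hΦ1 hΦ2

end

end Groth.Agent.K954.ExtAlg
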