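import Groth.Agent.Models.K954.TameAlg
import Groth.Agent.Models.K954.Descend

/-!
# Tame descent of models

`exists_tame_descent`: `R'` a finite extension of discrete valuation rings with group `G` of order invertible in `R`, `YR'`
a proper flat `R'`-model of `Y ⊗ L` with a compatible semilinear action of `G` which is trivial on the closed fibre. Then
`YR'` is the base change of a proper flat `R`-model of `Y`.
-/

set_option autoImplicit false
universe u

open CategoryTheory CategoryTheory.Limits AlgebraicGeometry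

namespace K954.TameDesc

open StSec Groth.Agent.Sga1.QuotBasic

/-- The kernel of a pushout of a surjection. -/
theorem exists_of_map_eq_zero {A k B Q : CommRingCat.{u}} (a : A ⟶ B) (r : A ⟶ k) (x : B ⟶ Q) (y : k ⟶ Q)
    (H : IsPushout a r x y) (hr : Function.Surjective r.hom) (ϖ : A) (hϖ : ∀ t, r.hom t = 0 → ∃ s, t = ϖ * s)
    (b : B) (hb : x.hom b = 0) : ∃ b', b = a.hom ϖ * b' := by
  let I : Ideal B := Ideal.span {a.hom ϖ}
  let mk : B ⟶ CommRingCat.of (B ⧸ I) := CommRingCat.ofHom (Ideal.Quotient.mk I)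
  have h1 : ∀ t ∈ RingHom.ker r.hom, (mk.hom.comp a.hom) t = 0 := by
    intro t ht
    obtain ⟨s, rfl⟩ := hϖ t ht
    rw [RingHom.comp_apply, map_mul, map_mul]
    have : mk.hom (a.hom ϖ) = 0 := Ideal.Quotient.eq_zero_iff_mem.2 (Ideal.mem_span_singleton_self _)
    rw [this, zero_mul]
  let y' : k ⟶ CommRingCat.of (B ⧸ I) :=
    CommRingCat.ofHom (RingHom.liftOfSurjective r.hom hr ⟨mk.hom.comp a.hom, h1⟩)
  have h2 : a ≫ mk = r ≫ y' := by
    ext t
    exact (RingHom.liftOfRightInverse_comp_apply r.hom _ (Function.rightInverse_surjInv hr) ⟨mk.hom.comp a.hom, h1⟩ t).symm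
  have h3 := H.inl_desc mk y' h2
  have h4 : mk.hom b = 0 := by
    rw [← h3, CommRingCat.comp_apply, hb, map_zero]
  obtain ⟨c, hc⟩ := Ideal.mem_span_singleton'.1 (Ideal.Quotient.eq_zero_iff_mem.1 h4)
  exact ⟨c, by rw [← hc, mul_comm]⟩

theorem st_comp {R R' : CommRingCat.{u}} (r : R ⟶ R') {X : Scheme.{u}} (q : X ⟶ Spec R') (U : X.Opens) :
    st (q ≫ Spec.map r) U = r ≫ st q U := by
  unfold st
  rw [← Category.assoc, Scheme.ΓSpecIso_inv_naturality, Category.assoc]
  congr 1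

/-- Averaging. -/
theorem exists_avg {G : Type u} [Group G] [Finite G] {R R' : CommRingCat.{u}} (r : R ⟶ R') {n : R}
    (hn : ((Nat.card G : ℕ) : R) * n = 1) {X Y : Scheme.{u}} {a : G →* Aut X} {π : X ⟶ Y} (hπ : SGA1.IsQuot a π)
    (q : X ⟶ Spec R') (h : Y ⟶ Spec R) (hh : π ≫ h = q ≫ Spec.map r)
    {k : CommRingCat.{u}} (ρ : R' ⟶ k) (hρ : Function.Surjective ρ.hom) (ϖ : R')
    (hϖ : ∀ t, ρ.hom t = 0 → ∃ s, t = ϖ * s)
    {Xk : Scheme.{u}} {κ : Xk ⟶ X} {fk : Xk ⟶ Spec k} (hκ : IsPullback κ fk q (Spec.map ρ))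
    (haκ : ∀ g, κ ≫ (a g).hom = κ) (V : Y.Opens) (hV : IsAffineOpen V) (b : Γ(X, π ⁻¹ᵁ V)) :
    ∃ (c : Γ(Y, V)) (b' : Γ(X, π ⁻¹ᵁ V)), b = (π.app V).hom c + (st q (π ⁻¹ᵁ V)).hom ϖ * b' := by
  have := Fintype.ofFinite G
  have haff : IsAffineHom π := hπ.affine
  have hU : IsAffineOpen (π ⁻¹ᵁ V) := hV.preimage π
  have hst := stable_preimage hπ.inv V
  let σ : G → Γ(X, π ⁻¹ᵁ V) → Γ(X, π ⁻¹ᵁ V) := fun g => (act a hst g).hom
  -- the action is trivial modulo `ϖ`
  have h1 : ∀ g, ∃ b', b - σ g b = (st q (π ⁻¹ᵁ V)).hom ϖ * b' := by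
    intro g
    refine exists_of_map_eq_zero _ _ _ _ (isPushout_st ρ hκ hU) hρ ϖ hϖ _ ?_
    rw [map_sub, sub_eq_zero]
    have h2 : act a hst g ≫ κ.appLE (π ⁻¹ᵁ V) (κ ⁻¹ᵁ (π ⁻¹ᵁ V)) le_rfl =
        κ.appLE (π ⁻¹ᵁ V) (κ ⁻¹ᵁ (π ⁻¹ᵁ V)) le_rfl := by
      unfold act
      rw [Scheme.Hom.appLE_comp_appLE]
      exact appLE_congr_hom (haκ g) _ _ _
    exact (congrArg (fun k => k.hom b) h2).symm
  choose b' hb' using h1
  -- the sum is invariant
  have h2 : ∀ g, (act a hst g).hom (∑ x : G, σ x b) = ∑ x : G, σ x b := by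
    intro g
    rw [map_sum]
    have h3 : ∀ x : G, (act a hst g).hom (σ x b) = σ (x * g) b := fun x => (act_mul_apply hst x g b).symm
    rw [Finset.sum_congr rfl fun x _ => h3 x]
    exact Fintype.sum_equiv (Equiv.mulRight g) _ _ fun x => rfl
  obtain ⟨s, hs⟩ := (quotOn_of_isQuot hπ V).surj _ h2
  refine ⟨(st h V).hom n * s, (st q (π ⁻¹ᵁ V)).hom (r.hom n) * ∑ x : G, b' x, ?_⟩
  have h3 : (π.app V).hom ((st h V).hom n) = (st q (π ⁻¹ᵁ V)).hom (r.hom n) := by
    have h6 : st h V ≫ π.app V = r ≫ st q (π ⁻¹ᵁ V) := by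
      rw [Scheme.Hom.app_eq_appLE, st_appLE, hh, st_comp]
    exact congrArg (fun k => k.hom n) h6
  have h4 : ((Nat.card G : ℕ) : Γ(X, π ⁻¹ᵁ V)) * (st q (π ⁻¹ᵁ V)).hom (r.hom n) = 1 := by
    rw [← map_natCast (st q (π ⁻¹ᵁ V)).hom, ← map_natCast r.hom, ← map_mul, ← map_mul, hn, map_one, map_one]
  have h5 : ∑ x : G, (b - σ x b) = (st q (π ⁻¹ᵁ V)).hom ϖ * ∑ x : G, b' x := by
    rw [Finset.mul_sum]
    exact Finset.sum_congr rfl fun x _ => hb' x
  rw [Finset.sum_sub_distrib, Finset.sum_const, Finset.card_univ, ← Nat.card_eq_fintype_card, nsmul_eq_mul] at h5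
  rw [map_mul, h3, hs]
  linear_combination (-b) * h4 + (st q (π ⁻¹ᵁ V)).hom (r.hom n) * h5

theorem exists_tame_descent (R R' : Type u) [CommRing R] [IsDomain R] [IsDiscreteValuationRing R]
    [CommRing R'] [IsDomain R'] [IsDiscreteValuationRing R'] [Algebra R R'] [Module.Finite R R']
    {K L : Type u} [Field K] [Algebra R K] [IsFractionRing R K] [Field L] [Algebra R' L] [IsFractionRing R' L]
    {G : Type u} [Group G] [Finite G] (hG : IsUnit ((Nat.card G : ℕ) : R))
    (ρ' : G →* Aut (Spec (CommRingCat.of R')))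
    (hb : SGA1.IsQuot ρ' (Spec.map (CommRingCat.ofHom (algebraMap R R'))))
    (bL : Spec (CommRingCat.of L) ⟶ Spec (CommRingCat.of K))
    (hL : IsPullback (Spec.map (CommRingCat.ofHom (algebraMap R' L))) bL
      (Spec.map (CommRingCat.ofHom (algebraMap R R'))) (Spec.map (CommRingCat.ofHom (algebraMap R K))))
    (ρL : G →* Aut (Spec (CommRingCat.of L)))
    (hρL1 : ∀ g, (ρL g).hom ≫ Spec.map (CommRingCat.ofHom (algebraMap R' L)) =
      Spec.map (CommRingCat.ofHom (algebraMap R' L)) ≫ (ρ' g).hom)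
    (hρL2 : ∀ g, (ρL g).hom ≫ bL = bL)
    {Y YL YR' : Scheme.{u}} (fY : Y ⟶ Spec (CommRingCat.of K)) [Flat fY]
    (gY : YL ⟶ Y) (fL : YL ⟶ Spec (CommRingCat.of L)) (hYL : IsPullback gY fL fY bL)
    (q : YR' ⟶ Spec (CommRingCat.of R')) [IsProper q] [Flat q] [IsIntegral YR'] [IsIntegral YL]
    (j : YL ⟶ YR') (hj : IsPullback j fL q (Spec.map (CommRingCat.ofHom (algebraMap R' L))))
    (a : G →* Aut YR') (ha : ∀ g, (a g).hom ≫ q = q ≫ (ρ' g).hom)
    (aL : G →* Aut YL) (haL1 : ∀ g, (aL g).hom ≫ gY = gY) (haL2 : ∀ g, (aL g).hom ≫ fL = fL ≫ (ρL g).hom)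
    (haj : ∀ g, (aL g).hom ≫ j = j ≫ (a g).hom)
    (horb : ∀ x : YR', ∃ U : YR'.Opens, IsAffineOpen U ∧ ∀ g : G, (a g).hom.base x ∈ U)
    {Yk : Scheme.{u}} {κ : Yk ⟶ YR'} {fk : Yk ⟶ Spec (CommRingCat.of (IsLocalRing.ResidueField R'))}
    (hκ : IsPullback κ fk q (Spec.map (CommRingCat.ofHom (IsLocalRing.residue R'))))
    (haκ : ∀ g, κ ≫ (a g).hom = κ) :
    ∃ (YR : Scheme.{u}) (h : YR ⟶ Spec (CommRingCat.of R)) (π : YR' ⟶ YR) (i : Y ⟶ YR),
      IsProper h ∧ Flat h ∧ IsPullback π q h (Spec.map (CommRingCat.ofHom (algebraMap R R'))) ∧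
      IsPullback i fY h (Spec.map (CommRingCat.ofHom (algebraMap R K))) := by
  set b := Spec.map (CommRingCat.ofHom (algebraMap R R')) with hbdef
  set l := Spec.map (CommRingCat.ofHom (algebraMap R' L)) with hldef
  set k := Spec.map (CommRingCat.ofHom (algebraMap R K)) with hkdef
  have hfin : IsFinite b := (IsFinite.SpecMap_iff _).mpr (by
    change (algebraMap R R').Finite
    rw [RingHom.finite_algebraMap]
    infer_instance)
  have hk : Flat k := by
    rw [hkdef, Flat.SpecMap_iff]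
    change (algebraMap R K).Flat
    rw [RingHom.flat_algebraMap_iff]
    exact IsLocalization.flat K (nonZeroDivisors R)
  -- the quotient
  obtain ⟨YR, π, hπ⟩ := Groth.Agent.S2907.result a horb
  have hqb : ∀ g, (a g).hom ≫ q ≫ b = q ≫ b := by
    intro g
    rw [← Category.assoc, ha, Category.assoc, hb.inv g]
  obtain ⟨h, hh, -⟩ := Groth.Agent.S2925.result a π hπ _ (q ≫ b) hqb
  have hprop : IsProper (q ≫ b) := inferInstance
  have hYRint : IsIntegral YR := K754.QuotInt.isIntegral hπ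
  have hhprop : IsProper h := K754.QuotProj.isProper_of_isQuot hπ hh hqb
  have hYRnoeth : IsLocallyNoetherian YR := LocallyOfFiniteType.isLocallyNoetherian h
  have hπsurj : Surjective π := ⟨Groth.Agent.Sga1.QuotBasic.surjective_of_isQuot hπ⟩
  have hhdom : IsDominant h := by
    have h1 : Surjective (fL ≫ bL) := ⟨fun x => ⟨Classical.arbitrary YL, Subsingleton.elim _ _⟩⟩
    have h2 : IsDominant k := by
      have h3 := GenExt.isSchemeTheoreticallyDominant (R := R) (K := K)
      infer_instance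
    have h3 : (j ≫ π) ≫ h = (fL ≫ bL) ≫ k := by
      rw [Category.assoc, hh, ← Category.assoc, hj.w, Category.assoc, Category.assoc, hL.w]
    have : IsDominant ((j ≫ π) ≫ h) := by rw [h3]; infer_instance
    exact IsDominant.of_comp (j ≫ π) h
  have hhflat : Flat h := Groth.Agent.CurvesB.RegModelImage.flat_of_isDominant R h
  -- the generic fibre
  have hjL : IsPullback j (fL ≫ bL) (π ≫ h) k := by
    rw [hh]
    exact hj.paste_vert hL
  let m₀ : YL ⟶ pullback h k := pullback.lift (j ≫ π) (fL ≫ bL) (by rw [Category.assoc]; exact hjL.w)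
  have hm₀1 : m₀ ≫ pullback.fst h k = j ≫ π := pullback.lift_fst _ _ _
  have hm₀2 : m₀ ≫ pullback.snd h k = fL ≫ bL := pullback.lift_snd _ _ _
  have hm₀ : IsPullback j m₀ π (pullback.fst h k) := by
    refine IsPullback.of_bot ?_ hm₀1.symm (IsPullback.of_hasPullback h k)
    rw [hm₀2]
    exact hjL
  have hm₀inv : ∀ g, (aL g).hom ≫ m₀ = m₀ := by
    intro g
    apply pullback.hom_ext
    · rw [Category.assoc, hm₀1, ← Category.assoc, haj, Category.assoc, hπ.inv g]
    · rw [Category.assoc, hm₀2, ← Category.assoc, haL2, Category.assoc, hρL2]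
  have hq1 : SGA1.IsQuot aL m₀ := K467.QuotFlat.isQuot_of_flat_baseChange hπ hm₀ haj hm₀inv
  have hq2 : SGA1.IsQuot ρL bL := K467.QuotFlat.isQuot_of_flat_baseChange hb hL hρL1 hρL2
  have hq3 : SGA1.IsQuot aL gY := K467.QuotFlat.isQuot_of_flat_baseChange hq2 hYL.flip haL2 haL1
  obtain ⟨m, hm, -⟩ := Groth.Agent.S2925.result aL gY hq3 _ m₀ hm₀inv
  have hmiso : IsIso m := K755.SymMain.isIso_of_isQuot hq3 hq1 m hm
  have hm2 : m ≫ pullback.snd h k = fY := by
    refine (Groth.Agent.S2925.result aL gY hq3 _ (gY ≫ fY) (fun g => by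
      rw [← Category.assoc, haL1])).unique ?_ rfl
    rw [← Category.assoc, hm, hm₀2, hYL.w]
  have hi : IsPullback (m ≫ pullback.fst h k) fY h k := by
    refine IsPullback.of_iso (IsPullback.of_hasPullback h k) (asIso m).symm (Iso.refl _) (Iso.refl _) (Iso.refl _)
      ?_ ?_ ?_ ?_
    · simp
    · simp [← hm2]
    · simp
    · simp
  -- the comparison morphism
  let c : YR' ⟶ pullback h b := pullback.lift π q hh
  have hc1 : c ≫ pullback.fst h b = π := pullback.lift_fst _ _ _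
  have hc2 : c ≫ pullback.snd h b = q := pullback.lift_snd _ _ _
  have hπfin : IsFinite (c ≫ pullback.fst h b) := by
    rw [hc1, IsFinite.iff_isIntegralHom_and_locallyOfFiniteType]
    refine ⟨isIntegralHom_of_isQuot hπ, ?_⟩
    have h1 : LocallyOfFiniteType (π ≫ h) := by rw [hh]; infer_instance
    exact locallyOfFiniteType_of_comp π h
  have hcfin : IsFinite c := MorphismProperty.of_postcomp @IsFinite c (pullback.fst h b) (W' := @IsSeparated) inferInstance hπfin
  have hj' : IsPullback (j ≫ c) fL (pullback.snd h b) l := by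
    refine IsPullback.of_right (h₁₂ := pullback.fst h b) (v₁₃ := h) (h₂₂ := b) ?_ ?_ (IsPullback.of_hasPullback h b)
    · have h1 : (j ≫ c) ≫ pullback.fst h b = gY ≫ m ≫ pullback.fst h k := by
        rw [Category.assoc, hc1, ← Category.assoc, hm, hm₀1]
      rw [h1, hL.w]
      exact hYL.paste_horiz hi
    · rw [Category.assoc, hc2, hj.w]
  obtain ⟨ϖ, hϖ⟩ := IsDiscreteValuationRing.exists_irreducible R'
  obtain ⟨n, hn⟩ := hG.exists_right_inv
  have hciso : IsIso c := by
    refine TameAlg.isIso_of (CommRingCat.ofHom (algebraMap R R')) (CommRingCat.ofHom (algebraMap R' L)) h q c j fL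
      ϖ ?_ ?_ (IsPullback.of_hasPullback h b) hc2 hj hj' π hc1 ?_
    · exact IsFractionRing.injective R' L
    · intro y
      exact DescMain.exists_pow (R := R') (R' := R') (fun _ _ h => h) hϖ y
    · intro V hV b'
      exact exists_avg (CommRingCat.ofHom (algebraMap R R')) hn hπ q h hh _ IsLocalRing.residue_surjective ϖ (fun t ht => by
        have h1 : t ∈ IsLocalRing.maximalIdeal R' := (IsLocalRing.residue_eq_zero_iff t).1 ht
        rw [hϖ.maximalIdeal_eq, Ideal.mem_span_singleton] at h1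
        exact h1) hκ haκ V hV b'
  exact ⟨YR, h, π, m ≫ pullback.fst h k, hhprop, hhflat, IsPullback.of_iso_pullback ⟨hh⟩ (asIso c) hc1 hc2, hi⟩

section

variable (R R' : Type u) [CommRing R] [IsDomain R] [IsDiscreteValuationRing R]
    [CommRing R'] [IsDomain R'] [IsDiscreteValuationRing R'] [HenselianLocalRing R'] [Algebra R R'] [Module.Finite R R']

/-- **Tame descent of stable reduction.** -/
theorem main (hinj : Function.Injective (algebraMap R R'))
    (G : Type u) [Group G] [Finite G] [MulSemiringAction G R'] [SMulCommClass G R R'] [Algebra.IsInvariant R R' G]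
    (hG : IsUnit ((Nat.card G : ℕ) : R))
    {C : Scheme.{u}} (f : C ⟶ Spec (CommRingCat.of (FractionRing R)))
    (hC : Curve.IsSmoothProperCurve (FractionRing R) C f) (hC0 : IsIso f.appTop)
    {YL : Scheme.{u}} {gY : YL ⟶ C} {kY : YL ⟶ Spec (CommRingCat.of (FractionRing R'))}
    (hYL : IsPullback gY kY f (Spec.map (CommRingCat.ofHom (RingAct.fracMap R R' hinj))))
    {YR' : Scheme.{u}} (q : YR' ⟶ Spec (CommRingCat.of R')) {n : ℕ} (hq : StabFam.IsStab q n)
    (j : YL ⟶ YR') (hj : IsPullback j kY q (Spec.map (CommRingCat.ofHom (algebraMap R' (FractionRing R')))))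
    (aL : G →* Aut YL) (haL1 : ∀ g, (aL g).hom ≫ gY = gY)
    (haL2 : ∀ g, (aL g).hom ≫ kY = kY ≫ (RingAct.fracAct G R' g).hom)
    (a : G →* Aut YR') (ha : ∀ g, (a g).hom ≫ q = q ≫ (RingAct.specAct G R' g).hom)
    (haj : ∀ g, (aL g).hom ≫ j = j ≫ (a g).hom)
    {Yk : Scheme.{u}} {κ : Yk ⟶ YR'} {fk : Yk ⟶ Spec (CommRingCat.of (IsLocalRing.ResidueField R'))}
    (hκ : IsPullback κ fk q (Spec.map (CommRingCat.ofHom (IsLocalRing.residue R'))))
    (haκ : ∀ g, κ ≫ (a g).hom = κ) : Models.HasSemistableReduction R C f := by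
  have hCsm : Smooth f := hC.2.1
  have hq1 : Flat q := hq.1
  have hq2 : IsProper q := hq.2.1
  set ψ := RingAct.fracMap R R' hinj with hψdef
  set b := Spec.map (CommRingCat.ofHom (algebraMap R R')) with hbdef
  set bL := Spec.map (CommRingCat.ofHom ψ) with hbLdef
  have hb := RingAct.isQuot_specAct G R' R hinj
  have hL := RingAct.isPullback_frac R R' hinj
  have hρ1 := RingAct.fracAct_comp G R'
  have hρ2 : ∀ g : G, (RingAct.fracAct G R' g).hom ≫ bL = bL := RingAct.fracAct_over R R' G hinj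
  have hYLc : Curve.IsSmoothProperCurve (FractionRing R') YL kY := by
    let _ : Algebra (FractionRing R) (FractionRing R') := ψ.toAlgebra
    exact Groth.Agent.Models.H58.CurveBC.isSmoothProperCurve hYL hC hC0
  have hYLint : IsIntegral YL := hYLc.2.2.1
  have hYR'int : IsIntegral YR' := GenExt.isIntegral_of_flat hj
  have horb : ∀ x : YR', ∃ U : YR'.Opens, IsAffineOpen U ∧ ∀ g : G, (a g).hom.base x ∈ U := by
    intro x
    obtain ⟨U, hU, hU'⟩ := OrbAff.exists_isAffineOpen q (Descend.dim_fiber_le hq.isNodalFamily _)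
      (Set.range fun g : G => (a g).hom.base x) (Set.finite_range _)
    exact ⟨U, hU, fun g => hU' ⟨g, rfl⟩⟩
  obtain ⟨YR, h, π, i, hh1, hh2, hπ, hi⟩ := exists_tame_descent R R' hG (RingAct.specAct G R') hb bL hL
    (RingAct.fracAct G R') hρ1 hρ2 f gY kY hYL q j hj a ha aL haL1 haL2 haj horb hκ haκ
  have hfree : Module.Free R R' := RingAct.free R R' hinj
  have hbflat : Flat b := by
    rw [hbdef, Flat.SpecMap_iff]
    change (algebraMap R R').Flat
    rw [RingHom.flat_algebraMap_iff]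
    infer_instance
  have hbsurj : Surjective b := ⟨Groth.Agent.Sga1.QuotBasic.surjective_of_isQuot hb⟩
  have hnod : Curv2.IsNodalFamily h := by
    refine Groth.Agent.S1594.result h b ?_
    exact Groth.Agent.Models.H59.FibreNodal.isNodalFamily_of_iso hπ.isoPullback.symm hπ.isoPullback_inv_snd
      hq.isNodalFamily
  exact ⟨YR, h, ⟨hh2, inferInstance, inferInstance, i, hi⟩, hh1, hnod⟩

end

end K954.TameDesc
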