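import Groth.Agent.JacVar.K532.Base
import Groth.Agent.Models.H64.RegInt
import Groth.Agent.Models.H56.CoreGeom
import Groth.Agent.Models.H68.FibGood
import Groth.Agent.TopDim.K284.Basic
import Groth.Agent.S3388

/-!
# The generic fibre of a regular proper model whose closed fibre has one-dimensional components

Let `C` be smooth and proper over `K = Frac R` with `dim H^0(C, O_C) = 1`.

* `isIntegral`: `C` is integral;
* `topologicalKrullDim_eq_one`: if `C` has a regular proper model whose closed fibre has a (nonempty) list of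
  irreducible components which are curves then `dim C = 1`;
* `isSmoothProperCurve`: so `C` is a smooth proper curve.
-/

set_option autoImplicit false
universe u
open CategoryTheory CategoryTheory.Limits AlgebraicGeometry TopologicalSpace

namespace Groth.Agent.Models.K954.GenFib

open Groth.Agent.Models.H56 RedFib

theorem one_le_of_pos {d : WithBot ℕ∞} (h : ((0 : ℕ) : WithBot ℕ∞) < d) : 1 ≤ d := by
  induction d using WithBot.recBotCoe with
  | bot => exact absurd h (by simp)
  | coe m =>
    have h1 : (0 : ℕ∞) < m := by exact_mod_cast h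
    have h2 : (1 : ℕ∞) ≤ m := Order.one_le_iff_pos.2 h1
    exact_mod_cast h2

theorem connectedSpace {K : Type u} [Field K] {C : Scheme.{u}} (f : C ⟶ Spec (CommRingCat.of K))
    (h : Models.hRank K C f (Coh.structureModule C) 0 = 1) : ConnectedSpace C := by
  have h3 := Glue.toGlobal_bijective K C f h
  let φ : K →+* Γ(C, ⊤) := Coh.toGlobal f
  have h3' : Function.Bijective φ := h3
  let e : K ≃+* Γ(C, ⊤) := RingEquiv.ofBijective φ h3'
  have hF : IsField Γ(C, ⊤) := e.symm.toMulEquiv.isField (Field.toIsField K)
  have hne : Nonempty C := by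
    by_contra hcon
    rw [not_nonempty_iff] at hcon
    have : Subsingleton Γ(C, ⊤) := by
      have hb : (⊤ : C.Opens) = ⊥ := by
        ext x
        exact hcon.elim x
      rw [hb]
      infer_instance
    obtain ⟨x, y, hxy⟩ := hF.exists_pair_ne
    exact hxy (Subsingleton.elim _ _)
  refine CurvesC.PointScheme.connectedSpace_of_idem (X := C) fun a ha => ?_
  by_cases h0 : a = 0
  · exact Or.inl h0
  · right
    obtain ⟨b, hb⟩ := hF.mul_inv_cancel h0
    calc a = a * (a * b) := by rw [hb, mul_one]
      _ = a * a * b := by ring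
      _ = a * b := by rw [ha.eq]
      _ = 1 := hb

theorem isIntegral {K : Type u} [Field K] {C : Scheme.{u}} (f : C ⟶ Spec (CommRingCat.of K)) [Smooth f]
    (h : Models.hRank K C f (Coh.structureModule C) 0 = 1) : IsIntegral C := by
  have := connectedSpace f h
  exact _root_.K532.Base.isIntegral_of_connected f

variable {R : Type u} [CommRing R] [IsDomain R] [IsDiscreteValuationRing R] {C X : Scheme.{u}}
  {p : X ⟶ Spec (CommRingCat.of R)} {f : C ⟶ Spec (CommRingCat.of (FractionRing R))}

/-- The closed fibre has dimension one. -/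
theorem dim_closedFibre {n : ℕ} {Γ : Fin n → ArSurf.VertComp R (Over.mk p)}
    (hΓ : Models.IsComponentList R (Over.mk p) Γ) (hn : 0 < n) :
    topologicalKrullDim (p.fiber (IsLocalRing.closedPoint R)) = 1 := by
  rw [H68.FibGood.dim_fiber]
  have h1 : topologicalKrullDim (Y p) = 1 := by
    rw [_root_.K284.TopDim.dim_eq_iSup_irreducibleComponents]
    have hp := CoreGeom.pure_Y p hΓ
    refine le_antisymm (iSup₂_le fun T hT => (hp T hT).le) ?_
    have hne : (Set.range (comp p (Γ ⟨0, hn⟩) : (Γ ⟨0, hn⟩).curve.left → Y p)) ∈ irreducibleComponents (Y p : Type u) := by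
      rw [← range_comp_eq p hΓ]
      exact ⟨⟨0, hn⟩, rfl⟩
    exact (hp _ hne).ge.trans (le_iSup₂ (f := fun T (_ : T ∈ irreducibleComponents (Y p : Type u)) =>
      topologicalKrullDim T) _ hne)
  have h2 := (incl p).isClosedEmbedding.isEmbedding
  have h3 : topologicalKrullDim (Y p) = topologicalKrullDim (Set.range (incl p)) :=
    IsHomeomorph.topologicalKrullDim_eq _ h2.toHomeomorph.isHomeomorph
  rw [range_incl] at h3
  rw [← h1, h3]
  rfl

/-- The generic fibre has dimension one. -/
theorem topologicalKrullDim_eq_one [Smooth f] (h0 : Models.hRank (FractionRing R) C f (Coh.structureModule C) 0 = 1)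
    (hX : Models.IsRegularProperModel R X p C f) {n : ℕ} {Γ : Fin n → ArSurf.VertComp R (Over.mk p)}
    (hΓ : Models.IsComponentList R (Over.mk p) Γ) (hn : 0 < n) : topologicalKrullDim C = 1 := by
  have hCi : IsIntegral C := isIntegral f h0
  have hXi : IsIntegral X := by
    obtain ⟨⟨hfl, -, -, g, hg⟩, -, hreg⟩ := id hX
    exact H64.RegInt.isIntegral hg hreg
  have hflat : Flat p := hX.1.1
  have hprop : IsProper p := hX.2.1
  have h1 := dim_closedFibre (p := p) hΓ hn
  obtain ⟨⟨-, -, -, g, hg⟩, -, -⟩ := id hX
  -- the generic fibre is the fibre over the generic point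
  let η : Spec (CommRingCat.of R) := Spec.map (CommRingCat.ofHom (algebraMap R (FractionRing R)))
    (IsLocalRing.closedPoint (FractionRing R))
  have hη : η = genericPoint (Spec (CommRingCat.of R)) := by
    rw [genericPoint_eq_bot_of_affine]
    refine PrimeSpectrum.ext ?_
    change Ideal.comap (algebraMap R (FractionRing R)) (IsLocalRing.maximalIdeal (FractionRing R)) = ⊥
    rw [IsLocalRing.maximalIdeal_eq_bot]
    exact RingHom.ker_eq_bot_iff_eq_zero _ |>.2 fun x hx => (IsFractionRing.injective R (FractionRing R))
      (hx.trans (map_zero _).symm)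
  have h2 := Groth.Agent.Models.DVRGeneric.isOpenImmersion_generic R (FractionRing R)
  have h3 := Groth.Agent.Models.DVRGeneric.isOpenImmersion_of_isPullback hg
  have h4 := Groth.Agent.Models.DVRGeneric.opensRange_eq_of_isPullback hg
  have h5 : Set.range g = p ⁻¹' {η} := by
    have h6 := congrArg (fun U : X.Opens => (U : Set X)) h4
    have h7 : Set.range g = p ⁻¹' (Set.range (Spec.map
      (CommRingCat.ofHom (algebraMap R (FractionRing R))))) := by simpa using h6
    rw [h7]
    congr 1
    ext x
    constructor
    · rintro ⟨y, rfl⟩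
      rw [Set.mem_singleton_iff, Subsingleton.elim y (IsLocalRing.closedPoint (FractionRing R))]
    · rintro rfl
      exact ⟨_, rfl⟩
  have h6 : topologicalKrullDim (p.fiber η) = topologicalKrullDim C := by
    rw [H68.FibGood.dim_fiber]
    have e1 : C ≃ₜ Set.range g := g.isOpenEmbedding.isEmbedding.toHomeomorph
    have e2 : C ≃ₜ (p ⁻¹' {η} : Set X) := e1.trans (Homeomorph.setCongr h5)
    exact (IsHomeomorph.topologicalKrullDim_eq e2 e2.isHomeomorph).symm
  have hdom : IsDominant p := by
    refine ⟨?_⟩
    rw [DenseRange, dense_iff_closure_eq, Set.eq_univ_iff_forall]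
    intro s
    have h7 : η ∈ Set.range p := by
      obtain ⟨c⟩ : Nonempty C := inferInstance
      have h8 : g c ∈ p ⁻¹' {η} := by
        rw [← h5]
        exact ⟨c, rfl⟩
      exact ⟨g c, h8⟩
    have h8 : η ⤳ s := by
      rw [hη]
      exact genericPoint_specializes s
    exact h8.mem_closed isClosed_closure (subset_closure h7)
  -- a point of the closed fibre
  obtain ⟨x⟩ : Nonempty (p.fiber (IsLocalRing.closedPoint R)) := by
    by_contra hcon
    rw [not_nonempty_iff] at hcon
    have h7 : topologicalKrullDim (p.fiber (IsLocalRing.closedPoint R)) = ⊥ := by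
      rw [topologicalKrullDim, Order.krullDim_eq_bot_iff]
      exact ⟨fun Z => hcon.elim Z.isIrreducible.nonempty.some⟩
    rw [h7] at h1
    exact absurd h1 (by simp)
  refine le_antisymm ?_ ?_
  · have h7 := Groth.Agent.S3388.result p ((p.fiberι (IsLocalRing.closedPoint R)) x)
    rw [← hη, h6] at h7
    refine h7.trans ((_root_.K284.TopDim.localDim_le_dim _).trans ?_)
    have h8 : p ((p.fiberι (IsLocalRing.closedPoint R)) x) = IsLocalRing.closedPoint R := by
      have h9 : (p.fiberι (IsLocalRing.closedPoint R)) x ∈ Set.range (p.fiberι (IsLocalRing.closedPoint R)) :=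
        ⟨x, rfl⟩
      rw [p.range_fiberι (IsLocalRing.closedPoint R)] at h9
      exact h9
    change topologicalKrullDim (p.fiber (p ((p.fiberι (IsLocalRing.closedPoint R)) x))) ≤ 1
    rw [h8, h1]
  · by_contra hlt
    rw [not_le] at hlt
    have hopen := Groth.Agent.S0404.result p 0
    have h7 : ((0 : ℕ) : WithBot ℕ∞) < topologicalKrullDim (p.fiber (IsLocalRing.closedPoint R)) := by
      rw [h1]
      exact_mod_cast Nat.zero_lt_one
    have h8 : ((0 : ℕ) : WithBot ℕ∞) < topologicalKrullDim (p.fiber η) :=
      (IsLocalRing.specializes_closedPoint (R := R) η).mem_open hopen h7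
    rw [h6] at h8
    exact absurd hlt (not_lt.2 (one_le_of_pos h8))

theorem isSmoothProperCurve [IsProper f] [Smooth f]
    (h0 : Models.hRank (FractionRing R) C f (Coh.structureModule C) 0 = 1)
    (hX : Models.IsRegularProperModel R X p C f) {n : ℕ} {Γ : Fin n → ArSurf.VertComp R (Over.mk p)}
    (hΓ : Models.IsComponentList R (Over.mk p) Γ) (hn : 0 < n) :
    Curve.IsSmoothProperCurve (FractionRing R) C f :=
  ⟨inferInstance, inferInstance, isIntegral f h0, topologicalKrullDim_eq_one h0 hX hΓ hn⟩

end Groth.Agent.Models.K954.GenFib
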