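import Groth.Agent.S12059
import Groth.Agent.Models.K954.GenExt
import Mathlib.RingTheory.PrincipalIdealDomain
import Mathlib.RingTheory.Algebraic.Integral
import Mathlib.RingTheory.Localization.BaseChange
import Mathlib.LinearAlgebra.FreeModule.PID

/-!
# The action of a finite group on the spectra of a ring extension and of its fraction field
-/

set_option autoImplicit false
universe u

open CategoryTheory CategoryTheory.Limits AlgebraicGeometry

namespace K954.RingAct

/-- The action on the spectrum induced by an action on a ring. -/
noncomputable def specAct (G A : Type u) [Group G] [CommRing A] [MulSemiringAction G A] :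
    G →* Aut (Spec (CommRingCat.of A)) where
  toFun g :=
    { hom := Spec.map (CommRingCat.ofHom (MulSemiringAction.toRingHom G A g⁻¹))
      inv := Spec.map (CommRingCat.ofHom (MulSemiringAction.toRingHom G A g))
      hom_inv_id := by
        rw [← Spec.map_comp, ← CommRingCat.ofHom_comp, ← Spec.map_id]
        congr 1
        ext x
        simp
      inv_hom_id := by
        rw [← Spec.map_comp, ← CommRingCat.ofHom_comp, ← Spec.map_id]
        congr 1
        ext x
        simp }
  map_one' := by
    ext1
    change Spec.map (CommRingCat.ofHom (MulSemiringAction.toRingHom G A 1⁻¹)) = 𝟙 _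
    rw [← Spec.map_id]
    congr 1
    ext x
    simp
  map_mul' g h := by
    ext1
    change Spec.map (CommRingCat.ofHom (MulSemiringAction.toRingHom G A (g * h)⁻¹)) =
      Spec.map (CommRingCat.ofHom (MulSemiringAction.toRingHom G A h⁻¹)) ≫
        Spec.map (CommRingCat.ofHom (MulSemiringAction.toRingHom G A g⁻¹))
    rw [← Spec.map_comp, ← CommRingCat.ofHom_comp]
    congr 1
    ext x
    simp [mul_smul]

theorem specAct_hom {G A : Type u} [Group G] [CommRing A] [MulSemiringAction G A] (g : G) :
    (specAct G A g).hom = Spec.map (CommRingCat.ofHom (MulSemiringAction.toRingHom G A g⁻¹)) := rfl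

theorem isQuot_specAct (G A B : Type u) [Group G] [Finite G] [CommRing A] [CommRing B]
    [Algebra B A] [MulSemiringAction G A] [SMulCommClass G B A] [Algebra.IsInvariant B A G]
    (hinj : Function.Injective (algebraMap B A)) :
    SGA1.IsQuot (specAct G A) (Spec.map (CommRingCat.ofHom (algebraMap B A))) := by
  have : FaithfulSMul B A := (faithfulSMul_iff_algebraMap_injective B A).2 hinj
  refine Groth.Agent.S12059.result G A B (specAct G A) ?_
  ext t
  constructor
  · rintro ⟨g, rfl⟩
    exact ⟨g⁻¹, rfl⟩
  · rintro ⟨g, rfl⟩
    exact ⟨g⁻¹, by change Spec.map _ = _; rw [inv_inv]⟩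

/-- The action on a fraction field. -/
@[instance_reducible] noncomputable def fracAction (G A : Type u) [Group G] [CommRing A] [IsDomain A] [MulSemiringAction G A] :
    MulSemiringAction G (FractionRing A) where
  smul g x := IsFractionRing.ringEquivOfRingEquiv (MulSemiringAction.toRingEquiv G A g) x
  one_smul x := by
    change IsFractionRing.ringEquivOfRingEquiv (MulSemiringAction.toRingEquiv G A 1) x = x
    have : (IsFractionRing.ringEquivOfRingEquiv (K := FractionRing A) (L := FractionRing A)
        (MulSemiringAction.toRingEquiv G A 1) : FractionRing A →+* FractionRing A) = RingHom.id _ := by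
      refine IsLocalization.ringHom_ext (nonZeroDivisors A) ?_
      ext a
      simp
    exact congrArg (fun k : FractionRing A →+* FractionRing A => k x) this
  mul_smul g h x := by
    change IsFractionRing.ringEquivOfRingEquiv (MulSemiringAction.toRingEquiv G A (g * h)) x =
      IsFractionRing.ringEquivOfRingEquiv (MulSemiringAction.toRingEquiv G A g)
        (IsFractionRing.ringEquivOfRingEquiv (MulSemiringAction.toRingEquiv G A h) x)
    have : (IsFractionRing.ringEquivOfRingEquiv (K := FractionRing A) (L := FractionRing A)
        (MulSemiringAction.toRingEquiv G A (g * h)) : FractionRing A →+* FractionRing A) =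
        (IsFractionRing.ringEquivOfRingEquiv (K := FractionRing A) (L := FractionRing A)
          (MulSemiringAction.toRingEquiv G A g) : FractionRing A →+* FractionRing A).comp
        (IsFractionRing.ringEquivOfRingEquiv (K := FractionRing A) (L := FractionRing A)
          (MulSemiringAction.toRingEquiv G A h) : FractionRing A →+* FractionRing A) := by
      refine IsLocalization.ringHom_ext (nonZeroDivisors A) ?_
      ext a
      simp [mul_smul]
    exact congrArg (fun k : FractionRing A →+* FractionRing A => k x) this
  smul_zero g := map_zero _
  smul_add g := map_add _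
  smul_one g := map_one _
  smul_mul g := map_mul _

theorem fracAction_algebraMap (G A : Type u) [Group G] [CommRing A] [IsDomain A] [MulSemiringAction G A] (g : G)
    (a : A) : letI := fracAction G A; g • algebraMap A (FractionRing A) a = algebraMap A (FractionRing A) (g • a) :=
  IsFractionRing.ringEquivOfRingEquiv_algebraMap _ _

/-- The action on the spectrum of the fraction field. -/
noncomputable def fracAct (G A : Type u) [Group G] [CommRing A] [IsDomain A] [MulSemiringAction G A] :
    G →* Aut (Spec (CommRingCat.of (FractionRing A))) :=
  letI := fracAction G A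
  specAct G (FractionRing A)

theorem fracAct_comp (G A : Type u) [Group G] [CommRing A] [IsDomain A] [MulSemiringAction G A] (g : G) :
    (fracAct G A g).hom ≫ Spec.map (CommRingCat.ofHom (algebraMap A (FractionRing A))) =
      Spec.map (CommRingCat.ofHom (algebraMap A (FractionRing A))) ≫ (specAct G A g).hom := by
  letI := fracAction G A
  change Spec.map (CommRingCat.ofHom (MulSemiringAction.toRingHom G (FractionRing A) g⁻¹)) ≫ _ =
    _ ≫ Spec.map (CommRingCat.ofHom (MulSemiringAction.toRingHom G A g⁻¹))
  rw [← Spec.map_comp, ← Spec.map_comp, ← CommRingCat.ofHom_comp, ← CommRingCat.ofHom_comp]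
  congr 1
  ext a
  exact fracAction_algebraMap G A g⁻¹ a

section Ext

variable (R R' G : Type u) [CommRing R] [IsDomain R] [CommRing R'] [IsDomain R'] [Algebra R R']
  (hinj : Function.Injective (algebraMap R R'))

/-- The extension of fraction fields. -/
noncomputable def fracMap : FractionRing R →+* FractionRing R' := IsFractionRing.map hinj

theorem fracMap_comp : (fracMap R R' hinj).comp (algebraMap R (FractionRing R)) =
    (algebraMap R' (FractionRing R')).comp (algebraMap R R') := by
  refine RingHom.ext fun r => ?_
  exact IsLocalization.map_eq (S := FractionRing R) (Q := FractionRing R') (g := algebraMap R R')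
    (nonZeroDivisors_le_comap_nonZeroDivisors_of_injective _ hinj) r

theorem fracAct_over [Group G] [MulSemiringAction G R'] [SMulCommClass G R R'] (g : G) :
    (fracAct G R' g).hom ≫ Spec.map (CommRingCat.ofHom (fracMap R R' hinj)) =
      Spec.map (CommRingCat.ofHom (fracMap R R' hinj)) := by
  letI := fracAction G R'
  change Spec.map (CommRingCat.ofHom (MulSemiringAction.toRingHom G (FractionRing R') g⁻¹)) ≫ _ = _
  rw [← Spec.map_comp, ← CommRingCat.ofHom_comp]
  congr 2
  refine IsLocalization.ringHom_ext (nonZeroDivisors R) ?_
  rw [RingHom.comp_assoc, fracMap_comp]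
  ext r
  change g⁻¹ • algebraMap R' (FractionRing R') (algebraMap R R' r) = algebraMap R' (FractionRing R') (algebraMap R R' r)
  rw [fracAction_algebraMap, smul_algebraMap]

theorem isPullback_frac [Module.Finite R R'] :
    IsPullback (Spec.map (CommRingCat.ofHom (algebraMap R' (FractionRing R'))))
      (Spec.map (CommRingCat.ofHom (fracMap R R' hinj))) (Spec.map (CommRingCat.ofHom (algebraMap R R')))
      (Spec.map (CommRingCat.ofHom (algebraMap R (FractionRing R)))) := by
  letI : Algebra (FractionRing R) (FractionRing R') := (fracMap R R' hinj).toAlgebra
  have t1 : IsScalarTower R R' (FractionRing R') := inferInstance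
  have t2 : IsScalarTower R (FractionRing R) (FractionRing R') := IsScalarTower.of_algebraMap_eq' (by
    rw [IsScalarTower.algebraMap_eq R R' (FractionRing R')]
    exact (fracMap_comp R R' hinj).symm)
  have hint : Algebra.IsIntegral R R' := inferInstance
  have hff : FaithfulSMul R R' := (faithfulSMul_iff_algebraMap_injective R R').2 hinj
  have halg : Algebra.IsAlgebraic R R' := inferInstance
  have hloc : IsLocalization (Algebra.algebraMapSubmonoid R' (nonZeroDivisors R)) (FractionRing R') :=
    inferInstance
  have h1 : Algebra.IsPushout R R' (FractionRing R) (FractionRing R') :=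
    Algebra.isPushout_of_isLocalization (nonZeroDivisors R) (FractionRing R) R' (FractionRing R')
  exact (isPullback_SpecMap_of_isPushout _ _ _ _ (CommRingCat.isPushout_of_isPushout R R' (FractionRing R) (FractionRing R')))

end Ext

theorem free (R R' : Type u) [CommRing R] [IsDomain R] [IsPrincipalIdealRing R] [CommRing R'] [IsDomain R']
    [Algebra R R'] [Module.Finite R R'] (hinj : Function.Injective (algebraMap R R')) : Module.Free R R' := by
  have : FaithfulSMul R R' := (faithfulSMul_iff_algebraMap_injective R R').2 hinj
  have : Module.IsTorsionFree R R' := inferInstance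
  infer_instance

end K954.RingAct
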