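import Groth.Agent.Old.H11.PicTors

/-!
# Roots of an invertible module on a system of thickenings

`Z 0 ⟶ Z 1 ⟶ ⋯` thickenings of `Z 0` mapping compatibly to `X` by `j n`, and `L` an invertible module on `X` with
generators whose transition functions restrict to `1` on `Z 0`.  If `q` is invertible on `Z 0` then there is a
compatible system of invertible modules `M n` on `Z n` with `M n ^ q ≅ L|Z n` and `M 0` trivial.
-/

set_option autoImplicit false
universe u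

open CategoryTheory AlgebraicGeometry TopologicalSpace Opposite

namespace Groth.Agent.Models.K954.Roots

open Groth.Agent.Fdesc.LocGen Groth.Agent.Old.H11.NthRoot Groth.Agent.Old.H11.PicTors
  Groth.Agent.Flat2H.FamDict Groth.Agent.Ega3B.LimInv

theorem isInvertible_of_iso {X : Scheme.{u}} {L L' : X.Modules} (e : L ≅ L') (h : PicF.IsInvertible L) :
    PicF.IsInvertible L' := by
  rw [isInvertible_iff] at h ⊢
  intro x
  obtain ⟨U, m, hx, hm⟩ := h x
  exact ⟨U, e.hom.app U m, hx, hm.app e.hom⟩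

theorem ap_ap_eq_one {X Y Z : Scheme.{u}} {a : Z ⟶ Y} {b : Y ⟶ X} {c : Z ⟶ X} (h : a ≫ b = c) (W : X.Opens)
    (s : Γ(X, W)) : ap a (b ⁻¹ᵁ W) (ap b W s) = 1 ↔ ap c W s = 1 := by
  subst h
  rfl

theorem ores_ap_ap {X Y Z : Scheme.{u}} {a : Z ⟶ Y} {b : Y ⟶ X} {c : Z ⟶ X} (h : a ≫ b = c) (W : X.Opens)
    (hW : c ⁻¹ᵁ W ≤ a ⁻¹ᵁ b ⁻¹ᵁ W) (s : Γ(X, W)) : ores hW (ap a (b ⁻¹ᵁ W) (ap b W s)) = ap c W s := by
  subst h
  exact ores_refl _

theorem isUnit_q {Z : Scheme.{u}} {q : ℕ} (hu : IsUnit (q : Γ(Z, ⊤))) (W : Z.Opens) : IsUnit (q : Γ(Z, W)) := by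
  have := hu.map (ores (le_top : W ≤ ⊤))
  rwa [map_natCast] at this

/-- Roots of a cocycle which is trivial on a thickened subscheme. -/
theorem exists_cocycle {Z Y : Scheme.{u}} (i : Z ⟶ Y) [IsClosedImmersion i] [Surjective i] {q : ℕ}
    (hu : IsUnit (q : Γ(Z, ⊤))) {κ : Type u} {W : κ → Y.Opens} (g : ∀ x y, Γ(Y, W x ⊓ W y))
    (hself : ∀ x, g x x = 1)
    (hcoc : ∀ (x y z : κ) {V : Y.Opens} (hx : V ≤ W x) (hy : V ≤ W y) (hz : V ≤ W z),
      ores (le_inf hx hy) (g x y) * ores (le_inf hy hz) (g y z) = ores (le_inf hx hz) (g x z))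
    (hg1 : ∀ x y, ap i (W x ⊓ W y) (g x y) = 1) :
    ∃ t : ∀ x y, Γ(Y, W x ⊓ W y), (∀ x y, ap i (W x ⊓ W y) (t x y) = 1) ∧ (∀ x y, t x y ^ q = g x y) ∧
      (∀ x y, IsUnit (t x y)) ∧ (∀ x, t x x = 1) ∧
      ∀ x y z, ores (V := W x ⊓ (W y ⊓ W z)) (inf_le_inf_left _ inf_le_left) (t x y) *
          ores (V := W x ⊓ (W y ⊓ W z)) inf_le_right (t y z) =
        ores (V := W x ⊓ (W y ⊓ W z)) (inf_le_inf_left _ inf_le_right) (t x z) := by
  have h1 : ∀ x y, ∃ t : Γ(Y, W x ⊓ W y), ap i (W x ⊓ W y) t = 1 ∧ t ^ q = g x y := fun x y =>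
    root_exists (i := i) (n := q) (isUnit_q hu _) (b := 1) isUnit_one (u := g x y) (by
      rw [one_pow]
      exact (hg1 x y).symm)
  choose t ht1 htq using h1
  have htu : ∀ x y, IsUnit (t x y) := fun x y => isUnit_of_ap (i := i) (by rw [ht1]; exact isUnit_one)
  refine ⟨t, ht1, htq, htu, fun x => ?_, fun x y z => ?_⟩
  · refine root_unique (i := i) (n := q) (isUnit_q hu _) (htu x x) ?_ ?_
    · rw [ht1]
      exact (map_one _).symm
    · rw [htq, hself x, one_pow]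
  · refine root_unique (i := i) (n := q) (isUnit_q hu _) (((htu x y).map _).mul ((htu y z).map _)) ?_ ?_
    · rw [map_mul, ap_ores, ap_ores, ap_ores, ht1, ht1, ht1]
      simp only [map_one, mul_one]
    · rw [mul_pow, ← map_pow, ← map_pow, ← map_pow, htq, htq, htq]
      exact hcoc x y z (V := W x ⊓ (W y ⊓ W z)) inf_le_left (inf_le_right.trans inf_le_left)
        (inf_le_right.trans inf_le_right)

section Sys

variable {X : Scheme.{u}} {Z : ℕ → Scheme.{u}} (j : ∀ n, Z n ⟶ X) (ι : ∀ n, Z n ⟶ Z (n + 1))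
  (hι : ∀ n, ι n ≫ j (n + 1) = j n) (a : ∀ n, Z 0 ⟶ Z n) (ha : ∀ n, a n ≫ j n = j 0)
  (haι : ∀ n, a n ≫ ι n = a (n + 1)) [∀ n, IsClosedImmersion (a n)] [∀ n, Surjective (a n)]
  {q : ℕ} (hu : IsUnit (q : Γ(Z 0, ⊤))) {κ : Type u} {V : κ → X.Opens} {g : ∀ x y, Γ(X, V x ⊓ V y)}
  (hg1 : ∀ x y, ap (j 0) (V x ⊓ V y) (g x y) = 1)

include hι ha haι hu hg1 in
theorem exists_sys (hcov : ∀ x : X, ∃ k, x ∈ V k) (L : X.Modules) (e : ∀ k, Γ(L, V k))
    (he : ∀ k, IsGen (e k))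
    (hge : ∀ x y, res L inf_le_left (e x) = g x y • res L inf_le_right (e y)) :
    ∃ M : ∀ n, (Z n).Modules, (∀ n, PicF.IsInvertible (M n)) ∧
      (∀ n, Nonempty ((Scheme.Modules.pullback (ι n)).obj (M (n + 1)) ≅ M n)) ∧
      (∀ n, Nonempty (CohB1.tensorPow (M n) q ≅ (Scheme.Modules.pullback (j n)).obj L)) ∧
      Nonempty (M 0 ≅ Coh.structureModule (Z 0)) := by
  have hT : Trivs L V g := ⟨hcov, e, he, hge⟩
  have hTn : ∀ n, Trivs ((Scheme.Modules.pullback (j n)).obj L) (fun k ↦ j n ⁻¹ᵁ V k)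
    (fun x y ↦ ap (j n) (V x ⊓ V y) (g x y)) := fun n => hT.pullback (j n)
  let W : ∀ n, κ → (Z n).Opens := fun n k => j n ⁻¹ᵁ V k
  let gn : ∀ n x y, Γ(Z n, W n x ⊓ W n y) := fun n x y => ap (j n) (V x ⊓ V y) (g x y)
  choose t ht1 htq htu htself hcoc using fun n => exists_cocycle (a n) hu (W := W n) (gn n)
    (hTn n).self (hTn n).cocycle (fun x y => (ap_ap_eq_one (ha n) (V x ⊓ V y) (g x y)).2 (hg1 x y))
  choose M m hm hmt using fun n => Groth.Agent.Flat2H.InvGlue.exists_module_of_cocycle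
    (W n) (t n) (htself n) (hcoc n)
  have hm' : ∀ n k, IsGen (m n k) := hm
  have hmt' : ∀ n k l, res (M n) (inf_le_left : W n k ⊓ W n l ≤ W n k) (m n k) =
      t n k l • res (M n) (inf_le_right : W n k ⊓ W n l ≤ W n l) (m n l) := hmt
  have hcovn : ∀ n (z : Z n), ∃ k, z ∈ W n k := fun n z => hcov (j n z)
  refine ⟨M, fun n => ?_, fun n => ?_, fun n => ?_, ?_⟩
  · rw [isInvertible_iff]
    intro z
    obtain ⟨k, hk⟩ := hcovn n z
    exact ⟨_, m n k, hk, hm' n k⟩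
  · have hle0 : ∀ U : X.Opens, j n ⁻¹ᵁ U ≤ ι n ⁻¹ᵁ j (n + 1) ⁻¹ᵁ U := fun U => by
      rw [← Scheme.Hom.comp_preimage, hι]
    have hle : ∀ k, W n k ≤ ι n ⁻¹ᵁ W (n + 1) k := fun k => hle0 (V k)
    have hle2 : ∀ k l, W n k ⊓ W n l ≤ ι n ⁻¹ᵁ (W (n + 1) k ⊓ W (n + 1) l) := fun k l => hle0 (V k ⊓ V l)
    have htt : ∀ k l, ores (hle2 k l) (ap (ι n) (W (n + 1) k ⊓ W (n + 1) l) (t (n + 1) k l)) =
        t n k l := by
      intro k l
      refine root_unique (i := a n) (n := q) (isUnit_q hu _) (((htu (n + 1) k l).map _).map _) ?_ ?_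
      · rw [ap_ores, ht1, (ap_ap_eq_one (haι n) _ _).2 (ht1 (n + 1) k l), map_one]
      · rw [← map_pow, ← map_pow, htq, htq]
        exact ores_ap_ap (hι n) (V k ⊓ V l) (hle0 _) (g k l)
    obtain ⟨ψ, -⟩ := Groth.Agent.Ega2.CocycleIso.exists_iso
      (M := (Scheme.Modules.pullback (ι n)).obj (M (n + 1))) (N := M n)
      (U := W n) (m := fun k => res _ (hle k) (pullSec (ι n) (m (n + 1) k)))
      (n := fun k => m n k) (hcovn n) (fun k => ((hm' (n + 1) k).pullSec (ι n)).res (hle k))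
      (hm' n) (by
        intro k l P hk hl b hb
        have hP : P ≤ ι n ⁻¹ᵁ (W (n + 1) k ⊓ W (n + 1) l) := (le_inf hk hl).trans (hle2 k l)
        have h1 := pull_rel (ι n) _ _ (hmt' (n + 1) k l) hP (hk.trans (hle k)) (hl.trans (hle l))
        rw [res_res, res_res] at hb
        have h2 := (((hm' (n + 1) l).pullSec (ι n)).res (hl.trans (hle l))).ext (hb.symm.trans h1)
        have h3 := res_rel _ _ (hmt' n k l) (le_inf hk hl : P ≤ W n k ⊓ W n l)
        rw [h2]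
        rw [← htt k l, ores_ores] at h3
        exact h3)
    exact ⟨ψ⟩
  · obtain ⟨ψ, -⟩ := Groth.Agent.Ega2.CocycleIso.exists_iso
      (M := CohB1.tensorPow (M n) q) (N := (Scheme.Modules.pullback (j n)).obj L)
      (U := W n) (m := fun k => pow (m n k) q)
      (n := fun k => pullSec (j n) (e k)) (hcovn n) (fun k => (hm' n k).pow q)
      (fun k => (he k).pullSec (j n)) (by
        intro k l P hk hl b hb
        have h1 := res_rel _ _ (pow_rel _ _ (hmt' n k l) q) (le_inf hk hl : P ≤ W n k ⊓ W n l)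
        have h2 := (((hm' n l).pow q).res hl).ext (hb.symm.trans h1)
        have h3 := pull_rel (j n) _ _ (hge k l) (le_inf hk hl : P ≤ j n ⁻¹ᵁ (V k ⊓ V l)) hk hl
        rw [htq] at h2
        rw [h2]
        exact h3)
    exact ⟨ψ⟩
  · have ht0 : ∀ k l, t 0 k l = 1 := by
      intro k l
      refine root_unique (i := a 0) (n := q) (isUnit_q hu _) (htu 0 k l) ?_ ?_
      · rw [ht1]
        exact (map_one _).symm
      · rw [htq, one_pow]
        exact hg1 k l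
    obtain ⟨ψ, -⟩ := Groth.Agent.Ega2.CocycleIso.exists_iso
      (M := M 0) (N := Coh.structureModule (Z 0))
      (U := W 0) (m := fun k => m 0 k)
      (n := fun k => one (W 0 k)) (hcovn 0) (hm' 0) (fun k => isGen_one _) (by
        intro k l P hk hl b hb
        have h1 := res_rel _ _ (hmt' 0 k l) (le_inf hk hl : P ≤ W 0 k ⊓ W 0 l)
        have h2 := ((hm' 0 l).res hl).ext (hb.symm.trans h1)
        rw [h2, ht0, map_one, one_smul, res_one, res_one])
    exact ⟨ψ⟩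

end Sys

end Groth.Agent.Models.K954.Roots
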