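import Groth.Agent.S0004
import Groth.Agent.S7864
import Groth.Agent.Sga2lef.H96.ModSysFormal
import Groth.Agent.Ega2.QCohLocal
import Groth.Agent.Models.TrivGeom
import Groth.Agent.Models.K954.Roots

/-!
# Algebraization of invertible modules on the completion of a proper scheme

`exists_invertible`: `A` Noetherian and `I`-adically complete, `f : X ⟶ Spec A` proper, `(L_n)` a compatible system of
invertible modules on the thickenings `X_n` of `V(I O_X)` ⟹ there is an invertible module `L` on `X` with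
`L|X_n ≅ L_n` for all `n`.
-/

set_option autoImplicit false
universe u
open CategoryTheory CategoryTheory.Limits AlgebraicGeometry TopologicalSpace Opposite

namespace Groth.Agent.Models.K954.AlgPic

open FSch Groth.Agent.Sga2lef.H96.ModSysFormal Groth.Agent.Sga2lef.H96.ModSysPush

/-- A morphism of systems which is an isomorphism is one on every level. -/
theorem nonempty_iso_level {𝔛 : Sys.{u}} {𝔐 𝔑 : ModSys 𝔛} (φ : 𝔐 ≅ 𝔑) (n : ℕ) :
    Nonempty (𝔐.F n ≅ 𝔑.F n) :=
  ⟨⟨φ.hom.app n, φ.inv.app n, congrFun (congrArg ModSys.Hom.app φ.hom_inv_id) n,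
    congrFun (congrArg ModSys.Hom.app φ.inv_hom_id) n⟩⟩

theorem exists_invertible {A : Type u} [CommRing A] [IsNoetherianRing A] (I : Ideal A) [IsAdicComplete I A]
    {X : Scheme.{u}} (f : X ⟶ Spec (CommRingCat.of A)) [IsProper f]
    (𝔐 : ModSys (completionAlong X ((idealSpec A I).comap f))) (h : ∀ n, PicF.IsInvertible (𝔐.F n)) :
    ∃ L : X.Modules, PicF.IsInvertible L ∧
      ∀ n, Nonempty ((Scheme.Modules.pullback (completionToX X ((idealSpec A I).comap f) n)).obj L ≅
        𝔐.F n) := by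
  let _ : X.Over (Spec (CommRingCat.of A)) := ⟨f⟩
  have : IsProper (X ↘ Spec (CommRingCat.of A)) := ‹IsProper f›
  have hgen : IsGenBy I ((idealSpec A I).comap f) := isGenBy_comap I
  have h𝔐 : 𝔐.IsCoh := fun n => Groth.Agent.Models.TrivGeom.isCoh_of_isInvertible (h n)
  obtain ⟨L, hL, e⟩ := (Groth.Agent.S0004.result A I X).2 _ (isCohFormal_toSys hgen 𝔐 h𝔐)
  obtain ⟨φ⟩ := nonempty_iso hgen 𝔐 L hL.1 e
  have hφ : ∀ n, Nonempty ((Scheme.Modules.pullback
      (completionToX X ((idealSpec A I).comap f) n)).obj L ≅ 𝔐.F n) := nonempty_iso_level φ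
  refine ⟨L, ?_, hφ⟩
  rw [← Groth.Agent.Ega2.QCohLocal.isFinLocFreeOfRank_one_iff]
  refine Groth.Agent.S7864.result A I X f L hL 1 fun n => ?_
  rw [Groth.Agent.Ega2.QCohLocal.isFinLocFreeOfRank_one_iff]
  obtain ⟨ψ⟩ := hφ n
  exact Roots.isInvertible_of_iso ψ.symm (h n)

end Groth.Agent.Models.K954.AlgPic
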