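import Groth.Prelude.Def_ModelsG
import Groth.Agent.S1964
import Mathlib.RingTheory.Invariant.Galois
import Mathlib.FieldTheory.Galois.NormalBasis
import Mathlib.RingTheory.DedekindDomain.IntegralClosure
import Mathlib.RingTheory.DiscreteValuationRing.TFAE

/-!
# Galois extensions of henselian discrete valuation rings

`exists_galois`: every extension `R → R₁` of discrete valuation rings, `R` henselian, which is finite separable on
fraction fields is dominated by a finite extension `R'` of `R` on which a finite group acts with invariants `R`.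
-/

set_option autoImplicit false
universe u

open IsLocalRing

namespace K954.GalExt

section Closure

variable (R K L : Type u) [CommRing R] [IsDomain R] [IsDiscreteValuationRing R] [HenselianLocalRing R]
  [Field K] [Algebra R K] [IsFractionRing R K]
  [Field L] [Algebra K L] [Algebra R L] [IsScalarTower R K L]

omit [IsDomain R] [IsDiscreteValuationRing R] [HenselianLocalRing R] in
include K in
theorem injective : Function.Injective (algebraMap R (integralClosure R L)) := by
  have h : Function.Injective (algebraMap R L) := by
    rw [IsScalarTower.algebraMap_eq R K L]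
    exact (algebraMap K L).injective.comp (IsFractionRing.injective R K)
  intro a b hab
  apply h
  have := congrArg (algebraMap (integralClosure R L) L) hab
  rwa [← IsScalarTower.algebraMap_apply, ← IsScalarTower.algebraMap_apply] at this

variable [FiniteDimensional K L] [Algebra.IsSeparable K L]

include K in
theorem isDiscreteValuationRing : IsDiscreteValuationRing (integralClosure R L) := by
  obtain ⟨h1, -⟩ := Groth.Agent.S1964.result R (integralClosure R L)
  have h2 := integralClosure.isDedekindDomain R K L
  have hnf : ¬ IsField (integralClosure R L) := by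
    intro h
    have := isField_of_isIntegral_of_isField (R := R) (S := integralClosure R L) (injective R K L) h
    exact IsDiscreteValuationRing.not_isField R this
  exact ((IsDiscreteValuationRing.TFAE (integralClosure R L) hnf).out 0 2).mpr h2

end Closure

section Dominate

variable {R K K₁ R₁ : Type u} [CommRing R] [IsDomain R] [IsDiscreteValuationRing R] [HenselianLocalRing R]
  [Field K] [Algebra R K] [IsFractionRing R K]
  [CommRing R₁] [IsDomain R₁] [IsDiscreteValuationRing R₁] [Algebra R R₁] [IsLocalHom (algebraMap R R₁)]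
  [Field K₁] [Algebra K K₁] [Algebra R K₁] [IsScalarTower R K K₁] [Algebra R₁ K₁] [IsFractionRing R₁ K₁]
  [IsScalarTower R R₁ K₁] [FiniteDimensional K K₁] [Algebra.IsSeparable K K₁]

include K in
theorem isIntegral (x : R₁) : IsIntegral R (algebraMap R₁ K₁ x) := by
  by_contra hx
  have hdvr := isDiscreteValuationRing R K K₁
  have hfrac : IsFractionRing (integralClosure R K₁) K₁ := IsIntegralClosure.isFractionRing_of_finite_extension R K K₁ _
  have hx0 : algebraMap R₁ K₁ x ≠ 0 := fun h => hx (by rw [h]; exact isIntegral_zero)
  -- the inclusion `B → R₁`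
  have hmem : ∀ b : integralClosure R K₁, ∃ r : R₁, algebraMap R₁ K₁ r = algebraMap (integralClosure R K₁) K₁ b := by
    intro b
    have h1 : IsIntegral R₁ (algebraMap (integralClosure R K₁) K₁ b) := (b.2 : IsIntegral R _).tower_top
    exact IsIntegrallyClosed.algebraMap_eq_of_integral h1
  choose ι₀ hι₀ using hmem
  have hinj : Function.Injective (algebraMap R₁ K₁) := IsFractionRing.injective R₁ K₁
  let ι : integralClosure R K₁ →+* R₁ :=
    { toFun := ι₀
      map_one' := hinj (by rw [hι₀, map_one, map_one])
      map_mul' := fun a b => hinj (by rw [hι₀, map_mul, map_mul, hι₀, hι₀])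
      map_zero' := hinj (by rw [hι₀, map_zero, map_zero])
      map_add' := fun a b => hinj (by rw [hι₀, map_add, map_add, hι₀, hι₀]) }
  have hι : ∀ b, algebraMap R₁ K₁ (ι b) = algebraMap (integralClosure R K₁) K₁ b := hι₀
  have hιR : ∀ r : R, ι (algebraMap R (integralClosure R K₁) r) = algebraMap R R₁ r := by
    intro r
    apply hinj
    rw [hι, ← IsScalarTower.algebraMap_apply, ← IsScalarTower.algebraMap_apply]
  -- `B → R₁` is local
  have hP : (maximalIdeal R₁).comap ι = maximalIdeal (integralClosure R K₁) := by
    have h2 : ((maximalIdeal R₁).comap ι).comap (algebraMap R (integralClosure R K₁)) = maximalIdeal R := by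
      rw [Ideal.comap_comap]
      have h3 : ι.comp (algebraMap R (integralClosure R K₁)) = algebraMap R R₁ := RingHom.ext hιR
      rw [h3]
      exact ((IsLocalRing.local_hom_TFAE (algebraMap R R₁)).out 0 4).mp ‹IsLocalHom (algebraMap R R₁)›
    have h4 : ((maximalIdeal R₁).comap ι).IsMaximal := by
      refine Ideal.isMaximal_of_isIntegral_of_isMaximal_comap _ ?_ (R := R)
      rw [h2]
      infer_instance
    exact IsLocalRing.eq_maximalIdeal h4
  -- `x⁻¹ ∈ 𝔪_B`
  have h5 : ¬ ∃ b : integralClosure R K₁, algebraMap (integralClosure R K₁) K₁ b = algebraMap R₁ K₁ x := by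
    rintro ⟨b, hb⟩
    exact hx (by rw [← hb]; exact b.2)
  obtain ⟨b, hb⟩ : ∃ b : integralClosure R K₁, algebraMap (integralClosure R K₁) K₁ b = (algebraMap R₁ K₁ x)⁻¹ :=
    (ValuationRing.isInteger_or_isInteger (integralClosure R K₁) (algebraMap R₁ K₁ x)).resolve_left h5
  have h6 : b ∈ maximalIdeal (integralClosure R K₁) := by
    rw [IsLocalRing.mem_maximalIdeal]
    intro hu
    obtain ⟨u, rfl⟩ := hu
    apply h5
    refine ⟨((u⁻¹ : (integralClosure R K₁)ˣ) : integralClosure R K₁), ?_⟩
    have h7 : algebraMap (integralClosure R K₁) K₁ ((u⁻¹ : (integralClosure R K₁)ˣ) : integralClosure R K₁) *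
        algebraMap (integralClosure R K₁) K₁ (u : integralClosure R K₁) = 1 := by
      rw [← map_mul, Units.inv_mul, map_one]
    rw [hb] at h7
    exact eq_of_mul_inv_eq_one h7
  rw [← hP] at h6
  have h8 : x * ι b = 1 := by
    apply hinj
    rw [map_mul, hι, hb, map_one, mul_inv_cancel₀ hx0]
  have h9 : (1 : R₁) ∈ maximalIdeal R₁ := by
    rw [← h8]
    exact Ideal.mul_mem_left _ _ h6
  exact (Ideal.ne_top_iff_one _).1 (maximalIdeal.isMaximal R₁).ne_top h9

end Dominate

theorem exists_galois (R : Type u) [CommRing R] [IsDomain R] [IsDiscreteValuationRing R] [HenselianLocalRing R]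
    (R₁ : Type u) [CommRing R₁] [IsDomain R₁] [IsDiscreteValuationRing R₁] (φ : R →+* R₁)
    (ψ : FractionRing R →+* FractionRing R₁) (hφ : Models.IsDVRExtension R φ)
    (hc : ψ.comp (algebraMap R (FractionRing R)) = (algebraMap R₁ (FractionRing R₁)).comp φ)
    (hs : Models.IsFiniteSeparable ψ) :
    ∃ (R' : Type u) (_ : CommRing R') (_ : IsDomain R') (_ : IsDiscreteValuationRing R') (_ : Algebra R R')
      (_ : Module.Finite R R') (_ : Function.Injective (algebraMap R R'))
      (G : Type u) (_ : Group G) (_ : Finite G) (_ : MulSemiringAction G R') (_ : SMulCommClass G R R')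
      (_ : Algebra.IsInvariant R R' G) (χ : R₁ →+* R'),
      Models.IsDVRExtension R₁ χ ∧ χ.comp φ = algebraMap R R' := by
  let _ : Algebra R R₁ := φ.toAlgebra
  let _ : Algebra (FractionRing R) (FractionRing R₁) := ψ.toAlgebra
  have t2 : IsScalarTower R R₁ (FractionRing R₁) := inferInstance
  have t1 : IsScalarTower R (FractionRing R) (FractionRing R₁) := by
    refine IsScalarTower.of_algebraMap_eq' ?_
    rw [IsScalarTower.algebraMap_eq R R₁ (FractionRing R₁)]
    exact hc.symm
  have hloc : IsLocalHom (algebraMap R R₁) := hφ.2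
  obtain ⟨hfd, hsep⟩ := hs
  let K := FractionRing R
  let K₁ := FractionRing R₁
  let Ω := SeparableClosure K
  let σ : K₁ →ₐ[K] Ω := IsSepClosed.lift
  let _ : Algebra K₁ Ω := σ.toRingHom.toAlgebra
  have t3 : IsScalarTower K K₁ Ω := IsScalarTower.of_algebraMap_eq' σ.comp_algebraMap.symm
  have hgal0 : IsGalois K Ω := IsSepClosure.isGalois
  let L := IntermediateField.normalClosure K K₁ Ω
  have hgal : IsGalois K L := IsGalois.normalClosure K K₁ Ω
  have hfdL : FiniteDimensional K L := normalClosure.is_finiteDimensional K K₁ Ω
  let _ : Algebra R L := ((algebraMap K L).comp (algebraMap R K)).toAlgebra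
  have t4 : IsScalarTower R K L := IsScalarTower.of_algebraMap_eq' rfl
  let R' := integralClosure R L
  have hdvr : IsDiscreteValuationRing R' := isDiscreteValuationRing R K L
  have hfrac : IsFractionRing R' L := IsIntegralClosure.isFractionRing_of_finite_extension R K L _
  have hfin : Module.Finite R R' := IsIntegralClosure.finite R K L _
  let _ : MulSemiringAction (L ≃ₐ[K] L) R' := IsIntegralClosure.MulSemiringAction R K L R'
  have hinv : Algebra.IsInvariant R R' (L ≃ₐ[K] L) := Algebra.isInvariant_of_isGalois R K L R'
  have hcomm : SMulCommClass (L ≃ₐ[K] L) R R' := ⟨fun g r b => map_smul (galRestrict R K L R' g) r b⟩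
  have t5 : IsScalarTower K K₁ L := inferInstance
  have t6 : ∀ x : R₁, IsIntegral R (algebraMap K₁ L (algebraMap R₁ K₁ x)) := by
    intro x
    have h1 := isIntegral (R := R) (K := K) (K₁ := K₁) (R₁ := R₁) x
    have h2 : IsScalarTower R K₁ L := by
      refine IsScalarTower.of_algebraMap_eq fun r => ?_
      rw [IsScalarTower.algebraMap_apply R K L, IsScalarTower.algebraMap_apply R K K₁,
        ← IsScalarTower.algebraMap_apply K K₁ L]
    exact h1.algebraMap
  let χ : R₁ →+* R' :=
    { toFun := fun x => ⟨algebraMap K₁ L (algebraMap R₁ K₁ x), t6 x⟩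
      map_one' := Subtype.ext (by simp)
      map_mul' := fun a b => Subtype.ext (by simp)
      map_zero' := Subtype.ext (by simp)
      map_add' := fun a b => Subtype.ext (by simp) }
  have hχφ : χ.comp φ = algebraMap R R' := by
    refine RingHom.ext fun r => Subtype.ext ?_
    change algebraMap K₁ L (algebraMap R₁ K₁ (φ r)) = algebraMap K L (algebraMap R K r)
    have h3 : algebraMap R₁ K₁ (φ r) = algebraMap K K₁ (algebraMap R K r) :=
      (congrArg (fun k => k r) hc).symm
    rw [h3, ← IsScalarTower.algebraMap_apply K K₁ L]
  have hχinj : Function.Injective χ := by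
    intro a b hab
    have h4 := congrArg Subtype.val hab
    exact IsFractionRing.injective R₁ K₁ ((algebraMap K₁ L).injective h4)
  have hint : Algebra.IsIntegral R R' := inferInstance
  refine ⟨R', inferInstance, inferInstance, hdvr, inferInstance, hfin, injective R K L, L ≃ₐ[K] L, inferInstance,
    inferInstance, inferInstance, hcomm, hinv, χ, ⟨hχinj, ?_⟩, hχφ⟩
  let _ : Algebra R₁ R' := χ.toAlgebra
  have t7 : IsScalarTower R R₁ R' := IsScalarTower.of_algebraMap_eq' hχφ.symm
  have hint' : Algebra.IsIntegral R₁ R' := Algebra.IsIntegral.tower_top R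
  exact (algebraMap_isIntegral_iff.mpr hint').isLocalHom hχinj

end K954.GalExt
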