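import Groth.Agent.Models.K954.Thick
import Groth.Agent.Old.H11.PicTors
import Groth.Agent.S2223

/-!
# An invertible module trivial on all thickenings of the closed fibre is trivial

`eq_one_of_forall`: `p : X ⟶ Spec R` flat and proper over a discrete valuation ring, `c` a class on `X` which is trivial
on every thickening of the closed fibre; then `c = 1`.
-/

set_option autoImplicit false
universe u
open CategoryTheory CategoryTheory.Limits AlgebraicGeometry TopologicalSpace Opposite

namespace Groth.Agent.Models.K954.KerInj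

open FSch Groth.Agent.Models.SpecFib Groth.Agent.Old.H11.NthRoot Groth.Agent.Old.H11.PicTors
  Groth.Agent.Fdesc.LocGen Groth.Agent.Grpsch.PicGrp Groth.Agent.Ega3B.LimInv Thick

section Local

variable {R : Type u} [CommRing R] [IsLocalRing R] {X : Scheme.{u}} (p : X ⟶ Spec (CommRingCat.of R))

/-- functions invertible on the closed fibre: their basic opens cover `X`. -/
theorem cover [IsProper p] {V : X → X.Opens} (hxV : ∀ x, x ∈ V x) (s : ∀ x, Γ(X, V x))
    (hs : ∀ x, IsUnit (ap (jn p 0) (V x) (s x))) (z : X) : ∃ x, z ∈ X.basicOpen (s x) := by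
  have h : (⨆ x, X.basicOpen (s x)) = ⊤ := by
    refine eq_top_of_closedFibre p _ fun x hx => Opens.mem_iSup.2 ⟨x, ?_⟩
    obtain ⟨w, hw⟩ := mem_range_jn p 0 x hx
    have h1 : (jn p 0) ⁻¹ᵁ X.basicOpen (s x) = (jn p 0) ⁻¹ᵁ V x := by
      rw [Scheme.preimage_basicOpen]
      exact Scheme.basicOpen_of_isUnit _ (hs x)
    have h2 : w ∈ (jn p 0) ⁻¹ᵁ V x := by
      change jn p 0 w ∈ V x
      rw [hw]
      exact hxV x
    rw [← h1] at h2
    have h3 : jn p 0 w ∈ X.basicOpen (s x) := h2
    rwa [hw] at h3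
  have hz : z ∈ (⨆ x, X.basicOpen (s x)) := by rw [h]; trivial
  exact Opens.mem_iSup.1 hz

omit [IsLocalRing R] in
theorem separated [IsProper p] : X.IsSeparated := ⟨by
  have : Limits.terminal.from X = p ≫ Limits.terminal.from _ := Limits.terminal.hom_ext _ _
  rw [this]
  infer_instance⟩

/-- a function is invertible on the closed fibre if it is on a thickening. -/
theorem isUnit_ap_zero {n : ℕ} {W : X.Opens} {s : Γ(X, W)} (h : IsUnit (ap (jn p n) W s)) :
    IsUnit (ap (jn p 0) W s) := by
  have h1 := h.map (ap (an p n) (jn p n ⁻¹ᵁ W))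
  have h2 : ∀ (k : Zn p 0 ⟶ X) (_ : an p n ≫ jn p n = k), IsUnit (ap k W s) := by
    rintro k rfl
    exact h1
  exact h2 _ (an_jn p n)

end Local

variable {R : Type u} [CommRing R] [IsDomain R] [IsDiscreteValuationRing R] {X : Scheme.{u}}
  (p : X ⟶ Spec (CommRingCat.of R))

theorem eq_one_of_forall [Flat p] [IsProper p] (c : Pic X) (h : ∀ n, pull (jn p n) c = 1) : c = 1 := by
  obtain ⟨L, hL, rfl⟩ := exists_mk c
  obtain ⟨ϖ, hϖ⟩ := IsDiscreteValuationRing.exists_irreducible R
  have hm : IsLocalRing.maximalIdeal R = Ideal.span {ϖ} := hϖ.maximalIdeal_eq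
  have hsep : X.IsSeparated := separated p
  choose V e hxV hV he using Groth.Agent.Models.TrivGeom.exists_affine_gen hL
  have hV2 : ∀ x y, IsAffineOpen (V x ⊓ V y) := fun x y => (hV x).inf (hV y)
  have hg : ∀ x y, ∃ g : Γ(X, V x ⊓ V y), res L inf_le_right (e y) = g • res L inf_le_left (e x) :=
    fun x y => ((he x).res (inf_le_left : V x ⊓ V y ≤ V x)).exists_eq _
  choose g hg using hg
  obtain ⟨N, hN⟩ := Groth.Agent.S2223.bt_cocycle p ϖ hϖ.ne_zero L hL V hxV e he g hg
  have hβ := h N
  rw [pull_mk, mk_eq_one_iff] at hβ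
  obtain ⟨β⟩ := hβ
  choose u hu huo using fun x => (isGen_one (jn p N ⁻¹ᵁ V x)).exists_unit
    (((he x).pullSec (jn p N)).app β.hom)
  choose w hw using fun x => (hu x).exists_right_inv
  choose t ht using fun x => ap_surjective (i := jn p N) (hV x) (w x)
  have hwu : ∀ x, IsUnit (w x) := fun x => IsUnit.of_mul_eq_one_right _ (hw x)
  -- the relation between the `u x`
  let W : X → (Zn p N).Opens := fun x => jn p N ⁻¹ᵁ V x
  let gN : ∀ x y, Γ(Zn p N, W x ⊓ W y) := fun x y => ap (jn p N) (V x ⊓ V y) (g x y)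
  have hrel : ∀ x y, ores (inf_le_right : W x ⊓ W y ≤ W y) (u y) =
      gN x y * ores (inf_le_left : W x ⊓ W y ≤ W x) (u x) := by
    intro x y
    have h1 := pull_rel (jn p N) _ _ (hg x y) (le_rfl : W x ⊓ W y ≤ _)
      (inf_le_right : W x ⊓ W y ≤ W y) (inf_le_left : W x ⊓ W y ≤ W x)
    have h2 := congrArg (β.hom.app (W x ⊓ W y)) h1
    rw [Scheme.Modules.Hom.app_smul, app_res, app_res, huo, huo, res_smul, res_smul, res_one, res_one,
      smul_smul] at h2
    have h3 := (isGen_one _).ext h2
    exact h3.trans (congrArg (· * ores (inf_le_left : W x ⊓ W y ≤ W x) (u x)) (ores_refl (gN x y)))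
  have hrel' : ∀ x y, ores (inf_le_left : W x ⊓ W y ≤ W x) (w x) =
      gN x y * ores (inf_le_right : W x ⊓ W y ≤ W y) (w y) := by
    intro x y
    have h1 := congrArg (ores (inf_le_left : W x ⊓ W y ≤ W x)) (hw x)
    have h2 := congrArg (ores (inf_le_right : W x ⊓ W y ≤ W y)) (hw y)
    rw [map_mul, map_one] at h1 h2
    rw [hrel x y] at h2
    calc ores (inf_le_left : W x ⊓ W y ≤ W x) (w x) =
        (gN x y * ores (inf_le_left : W x ⊓ W y ≤ W x) (u x) * ores (inf_le_right : W x ⊓ W y ≤ W y) (w y)) *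
          ores (inf_le_left : W x ⊓ W y ≤ W x) (w x) := by rw [h2, one_mul]
      _ = gN x y * ores (inf_le_right : W x ⊓ W y ≤ W y) (w y) *
          (ores (inf_le_left : W x ⊓ W y ≤ W x) (u x) * ores (inf_le_left : W x ⊓ W y ≤ W x) (w x)) := by ring
      _ = _ := by rw [h1, mul_one]
  obtain ⟨s, hs, hst⟩ := hN t (by
    intro x y
    have h1 : ap (jn p N) (V x ⊓ V y) (ores inf_le_left (t x) - g x y * ores inf_le_right (t y)) = 0 := by
      rw [map_sub, map_mul, ap_ores, ap_ores, ht, ht, sub_eq_zero]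
      exact hrel' x y
    rw [ap_jn_eq_zero_iff p N (hV2 x y), hm, Ideal.span_singleton_pow, Ideal.map_span,
      Set.image_singleton, map_pow] at h1
    refine Ideal.span_singleton_le_span_singleton.2 ?_ h1
    exact pow_dvd_pow _ (Nat.le_succ N))
  -- the section is a generator on the closed fibre
  have hsu : ∀ x, IsUnit (ap (jn p 0) (V x) (s x)) := by
    intro x
    have h1 : IsUnit (ap (jn p 0) (V x) (t x)) := isUnit_ap_zero p (n := N) (by rw [ht]; exact hwu x)
    have h2 : ap (jn p 0) (V x) (s x - t x) = 0 := by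
      rw [ap_jn_eq_zero_iff p 0 (hV x), hm, zero_add, pow_one, Ideal.map_span, Set.image_singleton]
      exact hst x
    rw [map_sub, sub_eq_zero] at h2
    rw [h2]
    exact h1
  have hcov := cover p hxV s hsu
  rw [mk_eq_one_iff]
  obtain ⟨ψ, -⟩ := Groth.Agent.Ega2.CocycleIso.exists_iso (M := L) (N := Coh.structureModule X)
    (U := fun x => X.basicOpen (s x))
    (m := fun x => ores (X.basicOpen_le (s x)) (s x) • res L (X.basicOpen_le (s x)) (e x))
    (n := fun x => one _) hcov
    (fun x => ((he x).res _).unit_smul (RingedSpace.isUnit_res_basicOpen _ (s x))) (fun x => isGen_one _) (by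
      intro x y P hx hy b hb
      have hx' : P ≤ V x := hx.trans (X.basicOpen_le (s x))
      have hy' : P ≤ V y := hy.trans (X.basicOpen_le (s y))
      have h1 := congrArg (ores (le_inf hx' hy' : P ≤ V x ⊓ V y)) (hs x y)
      have h2 := congrArg (res L (le_inf hx' hy' : P ≤ V x ⊓ V y)) (hg x y)
      rw [map_mul, ores_ores, ores_ores] at h1
      rw [res_smul, res_res, res_res] at h2
      have h3 : res L hx (ores (X.basicOpen_le (s x)) (s x) • res L (X.basicOpen_le (s x)) (e x)) =
          res L hy (ores (X.basicOpen_le (s y)) (s y) • res L (X.basicOpen_le (s y)) (e y)) := by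
        rw [res_smul, res_smul, ores_ores, ores_ores, res_res, res_res, h1, h2, smul_smul, mul_comm]
      have h4 : (1 : Γ(X, P)) • res L hy (ores (X.basicOpen_le (s y)) (s y) •
          res L (X.basicOpen_le (s y)) (e y)) = b • res L hy (ores (X.basicOpen_le (s y)) (s y) •
          res L (X.basicOpen_le (s y)) (e y)) := by
        exact (one_smul _ _).trans (h3.symm.trans hb)
      have h5 := ((((he y).res (X.basicOpen_le (s y))).unit_smul
        (RingedSpace.isUnit_res_basicOpen _ (s y))).res hy).ext h4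
      rw [← h5, one_smul, res_one, res_one])
  exact ⟨ψ⟩

end Groth.Agent.Models.K954.KerInj
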