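import Groth.Agent.Models.K954.AlgPic
import Groth.Agent.Models.K954.KerInj
import Groth.Agent.Models.K954.Roots

/-!
# Divisibility of the kernel of `Pic(X) → Pic(X_k)`

`exists_root`: `R` a complete discrete valuation ring, `p : X ⟶ Spec R` flat and proper, `q` a unit of `R`: every class
on `X` which is trivial on the closed fibre is the `q`-th power of such a class.
-/

set_option autoImplicit false
universe u
open CategoryTheory CategoryTheory.Limits AlgebraicGeometry TopologicalSpace Opposite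

namespace Groth.Agent.Models.K954.KerDiv

open FSch Groth.Agent.Models.SpecFib Groth.Agent.Old.H11.NthRoot Groth.Agent.Old.H11.PicTors
  Groth.Agent.Fdesc.LocGen Groth.Agent.Grpsch.PicGrp Groth.Agent.Flat2H.FamDict Groth.Agent.Ega3B.LimInv Thick

variable {R : Type u} [CommRing R] [IsDomain R] [IsDiscreteValuationRing R] {X : Scheme.{u}}
  (p : X ⟶ Spec (CommRingCat.of R))

omit [IsDomain R] [IsDiscreteValuationRing R] in
theorem isUnit_natCast {q : ℕ} (hq : IsUnit (q : R)) (Y : Scheme.{u}) (f : Y ⟶ Spec (CommRingCat.of R)) :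
    IsUnit (q : Γ(Y, ⊤)) := by
  have := hq.map (Coh.toGlobal f)
  rwa [map_natCast] at this

theorem exists_root [IsAdicComplete (IsLocalRing.maximalIdeal R) R] [Flat p] [IsProper p] {q : ℕ}
    (hq : IsUnit (q : R)) (c : Pic X) (hc : pull (jn p 0) c = 1) :
    ∃ d : Pic X, pull (jn p 0) d = 1 ∧ d ^ q = c := by
  obtain ⟨L, hL, rfl⟩ := exists_mk c
  rw [pull_mk, mk_eq_one_iff] at hc
  obtain ⟨β⟩ := hc
  choose V e hxV hV he using Groth.Agent.Models.TrivGeom.exists_affine_gen hL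
  choose u hu huo using fun x => (isGen_one (jn p 0 ⁻¹ᵁ V x)).exists_unit
    (((he x).pullSec (jn p 0)).app β.hom)
  choose s hs using fun x => ap_surjective (i := jn p 0) (hV x) (u x)
  have hcov := KerInj.cover p hxV s (fun x => by rw [hs]; exact hu x)
  let V' : X → X.Opens := fun x => X.basicOpen (s x)
  have hle : ∀ x, V' x ≤ V x := fun x => X.basicOpen_le (s x)
  have hinv0 : ∀ x, ∃ r : Γ(X, V' x), ores (hle x) (s x) * r = 1 := fun x =>
    (RingedSpace.isUnit_res_basicOpen _ (s x)).exists_right_inv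
  choose r hr' using hinv0
  have hru : ∀ x, IsUnit (r x) := fun x => IsUnit.of_mul_eq_one_right _ (hr' x)
  let e' : ∀ x, Γ(L, V' x) := fun x => r x • res L (hle x) (e x)
  have he' : ∀ x, IsGen (e' x) := fun x => ((he x).res _).unit_smul (hru x)
  have hβ : ∀ x, β.hom.app (jn p 0 ⁻¹ᵁ V' x) (pullSec (jn p 0) (e' x)) = one _ := by
    intro x
    have h1 : pullSec (jn p 0) (e' x) = ap (jn p 0) (V' x) (r x) •
        res _ ((jn p 0).preimage_mono (hle x)) (pullSec (jn p 0) (e x)) := by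
      rw [res_pullSec]
      exact pullSec_smul _ _ _
    rw [h1, Scheme.Modules.Hom.app_smul, app_res, huo, res_smul, res_one, smul_smul, ← hs, ← ap_ores,
      ← map_mul, mul_comm, hr', map_one, one_smul]
    exact hle x
  obtain ⟨g, hg⟩ := exists_trans (L := L) V' e' he'
  have hg1 : ∀ x y, ap (jn p 0) (V' x ⊓ V' y) (g x y) = 1 := by
    intro x y
    have h1 := pull_rel (jn p 0) _ _ (hg x y) (le_rfl : jn p 0 ⁻¹ᵁ (V' x ⊓ V' y) ≤ _)
      (inf_le_left : jn p 0 ⁻¹ᵁ V' x ⊓ jn p 0 ⁻¹ᵁ V' y ≤ jn p 0 ⁻¹ᵁ V' x)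
      (inf_le_right : jn p 0 ⁻¹ᵁ V' x ⊓ jn p 0 ⁻¹ᵁ V' y ≤ jn p 0 ⁻¹ᵁ V' y)
    have h2 := congrArg (β.hom.app (jn p 0 ⁻¹ᵁ (V' x ⊓ V' y))) h1
    rw [Scheme.Modules.Hom.app_smul, app_res, app_res, hβ, hβ, res_one, res_one] at h2
    have h3 := (isGen_one _).ext ((one_smul _ _).trans h2)
    exact (h3.trans (ores_refl _)).symm
  obtain ⟨M, hinv, hι, hpow, ⟨ε⟩⟩ := Roots.exists_sys (jn p) (completionAlong X (J p)).ι (ι_jn p) (an p) (an_jn p)
    (an_ι p) (isUnit_natCast hq _ (jn p 0 ≫ p)) hg1 hcov L e' he' hg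
  let 𝔐 : ModSys (completionAlong X (J p)) := ⟨M, fun n => (hι n).some⟩
  obtain ⟨L', hL', hiso⟩ := AlgPic.exists_invertible (IsLocalRing.maximalIdeal R) p 𝔐 hinv
  have hn : ∀ n, pull (jn p n) (mk L' hL') = mk (M n) (hinv n) := fun n => by
    rw [pull_mk, mk_eq_iff]
    exact hiso n
  refine ⟨mk L' hL', ?_, ?_⟩
  · rw [hn, mk_eq_one_iff]
    exact ⟨ε⟩
  · rw [← mul_inv_eq_one]
    refine KerInj.eq_one_of_forall p _ fun n => ?_
    rw [map_mul, map_inv, map_pow, hn, mul_inv_eq_one, pull_mk, ← mk_tensorPow, mk_eq_iff]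
    exact hpow n

end Groth.Agent.Models.K954.KerDiv
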