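import Groth.Agent.S2878
import Groth.Agent.S2223
import Groth.Agent.Models.K954.KerDiv
import Groth.Agent.Models.H68.FibGood

/-!
# The restriction `Pic(X) → Pic(X_k)` for a regular proper model over a complete discrete valuation ring
-/

set_option autoImplicit false
universe u
open CategoryTheory CategoryTheory.Limits AlgebraicGeometry TopologicalSpace Opposite

namespace Groth.Agent.Models.K954.PicClosed

open Groth.Agent.Models.SpecFib Groth.Agent.Grpsch.PicGrp Thick

theorem henselianLocalRing (A : Type u) [CommRing A] [IsLocalRing A]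
    [IsAdicComplete (IsLocalRing.maximalIdeal A) A] : HenselianLocalRing A where
  is_henselian := by
    intro f hf a₀ h₁ h₂
    exact HenselianRing.is_henselian (I := IsLocalRing.maximalIdeal A) f hf a₀ h₁
      (h₂.map (Ideal.Quotient.mk (IsLocalRing.maximalIdeal A)))

/-- `Pic(X) → Pic(X_k)` is onto for a proper scheme of relative dimension at most one over a Noetherian Henselian local
ring. -/
theorem pull_surjective {R : Type u} [CommRing R] [IsNoetherianRing R] [HenselianLocalRing R] {X : Scheme.{u}}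
    (p : X ⟶ Spec (CommRingCat.of R)) [IsProper p]
    (hdim : topologicalKrullDim (p.fiber (IsLocalRing.closedPoint R)) ≤ 1) :
    Function.Surjective (pull (ιk R X p)) := by
  intro c
  obtain ⟨L₀, hL₀, rfl⟩ := exists_mk c
  have h1 : IsClosedImmersion (Spec.map (CommRingCat.ofHom (algebraMap R (IsLocalRing.ResidueField R)))) :=
    IsClosedImmersion.spec_of_surjective _ IsLocalRing.residue_surjective
  have h2 : IsClosedImmersion (ιk R X p) := inferInstance
  have h3 : LocallyOfFinitePresentation (ιk R X p ≫ p) := inferInstance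
  have h4 : Set.range (fun x => ιk R X p x) = (fun x => p x) ⁻¹' {IsLocalRing.closedPoint R} := by
    have h5 : Set.range (Spec.map (CommRingCat.ofHom (algebraMap R (IsLocalRing.ResidueField R)))) =
        {IsLocalRing.closedPoint R} := by
      refine Set.eq_singleton_iff_unique_mem.2 ⟨⟨IsLocalRing.closedPoint _, ?_⟩, ?_⟩
      · refine PrimeSpectrum.ext (Ideal.ext fun r => ?_)
        change algebraMap R (IsLocalRing.ResidueField R) r ∈ IsLocalRing.maximalIdeal _ ↔ _
        rw [IsLocalRing.maximalIdeal_eq_bot, Ideal.mem_bot]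
        exact IsLocalRing.residue_eq_zero_iff r
      · rintro _ ⟨y, rfl⟩
        have : y = IsLocalRing.closedPoint _ := Subsingleton.elim _ _
        rw [this]
        refine PrimeSpectrum.ext (Ideal.ext fun r => ?_)
        change algebraMap R (IsLocalRing.ResidueField R) r ∈ IsLocalRing.maximalIdeal _ ↔ _
        rw [IsLocalRing.maximalIdeal_eq_bot, Ideal.mem_bot]
        exact IsLocalRing.residue_eq_zero_iff r
    have h6 := Scheme.Pullback.range_fst p
      (Spec.map (CommRingCat.ofHom (algebraMap R (IsLocalRing.ResidueField R))))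
    rw [h5] at h6
    exact h6
  obtain ⟨L, hL, e⟩ := Groth.Agent.S2878.result R p hdim (ιk R X p) h4 L₀ hL₀
  exact ⟨mk L hL, by rw [pull_mk, mk_eq_iff]; exact e⟩

variable {R : Type u} [CommRing R] [IsDomain R] [IsDiscreteValuationRing R] {C X : Scheme.{u}}
  {p : X ⟶ Spec (CommRingCat.of R)} {f : C ⟶ Spec (CommRingCat.of (FractionRing R))}

theorem isUnit_of_residue {q : ℕ} (hqk : (q : IsLocalRing.ResidueField R) ≠ 0) : IsUnit (q : R) := by
  by_contra h
  refine hqk ?_
  have h1 : (q : R) ∈ IsLocalRing.maximalIdeal R := (IsLocalRing.mem_maximalIdeal _).2 h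
  rw [← IsLocalRing.residue_eq_zero_iff] at h1
  rw [← h1, map_natCast]

/-- a torsion class (of order prime to the residue characteristic) trivial on the closed fibre is trivial. -/
theorem eq_one_of_torsion (hC : Curve.IsSmoothProperCurve (FractionRing R) C f) (hH0 : IsIso f.appTop)
    (hX : Models.IsRegularProperModel R X p C f) {q : ℕ} (hq : 1 ≤ q)
    (hqk : (q : IsLocalRing.ResidueField R) ≠ 0) (c : Pic X) (h : pull (ιk R X p) c = 1) (hc : c ^ q = 1) :
    c = 1 := by
  obtain ⟨L, hL, rfl⟩ := exists_mk c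
  rw [pull_mk, mk_eq_one_iff] at h
  rw [← mk_tensorPow, mk_eq_one_iff] at hc
  rw [mk_eq_one_iff]
  refine Groth.Agent.S2223.result R C X f p hC hH0 hX q hq ?_ L hL hc h
  intro l hl hchar hdvd
  exact hqk ((CharP.cast_eq_zero_iff (IsLocalRing.ResidueField R) l q).2 hdvd)

/-- The kernel of `Pic(X) → Pic(X_k)` is uniquely `q`-divisible. -/
theorem existsUnique_root [IsAdicComplete (IsLocalRing.maximalIdeal R) R]
    (hC : Curve.IsSmoothProperCurve (FractionRing R) C f) (hH0 : IsIso f.appTop)
    (hX : Models.IsRegularProperModel R X p C f) {q : ℕ} (hq : 1 ≤ q)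
    (hqk : (q : IsLocalRing.ResidueField R) ≠ 0) (c : Pic X) (h : pull (ιk R X p) c = 1) :
    ∃! d : Pic X, pull (ιk R X p) d = 1 ∧ d ^ q = c := by
  have hprop : IsProper p := hX.2.1
  have hflat : Flat p := hX.1.1
  obtain ⟨d, hd, hdq⟩ := KerDiv.exists_root p (isUnit_of_residue hqk) c ((pull_ιk_eq_one_iff p c).1 h)
  refine ⟨d, ⟨(pull_ιk_eq_one_iff p d).2 hd, hdq⟩, ?_⟩
  rintro d' ⟨h1, h2⟩
  rw [← mul_inv_eq_one]
  refine eq_one_of_torsion hC hH0 hX hq hqk _ ?_ ?_
  · rw [map_mul, map_inv, h1, (pull_ιk_eq_one_iff p d).2 hd, inv_one, mul_one]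
  · rw [mul_pow, inv_pow, h2, hdq, mul_inv_cancel]

end Groth.Agent.Models.K954.PicClosed
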