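import Groth.Agent.Models.H51.MinModel
import Groth.Agent.Models.H54.Bridge
import Groth.Agent.Models.H57.GeoInt
import Groth.Agent.Models.H58.CurveBC
import Groth.Agent.S7897
import Groth.Agent.S3336
import Groth.Agent.S3328
import Groth.Agent.S1594
import Groth.Agent.S7912
import Groth.Agent.Models.K954.GenExt
import Groth.Agent.Models.K954.GenLift
import Mathlib.RingTheory.AdicCompletion.LocalRing
import Mathlib.RingTheory.AdicCompletion.Noetherian
import Mathlib.RingTheory.AdicCompletion.AsTensorProduct
import Mathlib.RingTheory.Flat.FaithfullyFlat.Algebra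

/-!
# Semistable reduction and extensions of discrete valuation rings

* `hasSemistableReduction_baseChange`: semistable reduction is preserved by extensions of discrete valuation rings.
* `hasSemistableReduction_of_completion`: for curves of positive genus it descends from the completion.
-/

set_option autoImplicit false
universe u

open CategoryTheory CategoryTheory.Limits AlgebraicGeometry

namespace K954.SsComp

variable {R : Type u} [CommRing R] [IsDomain R] [IsDiscreteValuationRing R]
  {R' : Type u} [CommRing R'] [IsDomain R'] [IsDiscreteValuationRing R']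

theorem hasSemistableReduction_baseChange (φ : R →+* R') (ψ : FractionRing R →+* FractionRing R')
    (hψ : ψ.comp (algebraMap R (FractionRing R)) = (algebraMap R' (FractionRing R')).comp φ)
    {C C' : Scheme.{u}} {f : C ⟶ Spec (CommRingCat.of (FractionRing R))}
    {f' : C' ⟶ Spec (CommRingCat.of (FractionRing R'))} {w : C' ⟶ C}
    (hw : IsPullback w f' f (Spec.map (CommRingCat.ofHom ψ)))
    (h : Models.HasSemistableReduction R C f) : Models.HasSemistableReduction R' C' f' := by
  obtain ⟨X, p, ⟨hfl, hft, hqc, g, hg⟩, hp, hn⟩ := h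
  obtain ⟨g', -, hg'⟩ := GenLift.isPullback_lift hψ hg hw (IsPullback.of_hasPullback p (Spec.map (CommRingCat.ofHom φ)))
  exact ⟨_, pullback.snd p (Spec.map (CommRingCat.ofHom φ)), ⟨inferInstance, inferInstance, inferInstance, g', hg'⟩,
    inferInstance, Groth.Agent.S7912.result p hn _⟩

theorem hasSemistableReduction_of_completion [Algebra R R']
    (e : R' ≃ₐ[R] AdicCompletion (IsLocalRing.maximalIdeal R) R)
    (ψ : FractionRing R →+* FractionRing R')
    (hψ : ψ.comp (algebraMap R (FractionRing R)) = (algebraMap R' (FractionRing R')).comp (algebraMap R R'))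
    (C : Scheme.{u}) (f : C ⟶ Spec (CommRingCat.of (FractionRing R)))
    (hC : Curve.IsSmoothProperCurve (FractionRing R) C f) (hH0 : IsIso f.appTop)
    (hg : 1 ≤ Models.curveGenus (FractionRing R) C f)
    {C' : Scheme.{u}} {f' : C' ⟶ Spec (CommRingCat.of (FractionRing R'))} {w : C' ⟶ C}
    (hw : IsPullback w f' f (Spec.map (CommRingCat.ofHom ψ)))
    (h : Models.HasSemistableReduction R' C' f') : Models.HasSemistableReduction R C f := by
  have hpr : IsProper f := hC.1
  obtain ⟨X₀, p₀, hX₀⟩ := Groth.Agent.S3328.result R C f hC hH0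
  have ha₀ : ArSurf.IsArithSurface R (Over.mk p₀) := Groth.Agent.Models.H54.Bridge.isArithSurface_of_curve hX₀.1 hC
  obtain ⟨g₀, hg₀⟩ := hX₀.1.1.2.2.2
  obtain ⟨Y, b, hY, hmin, -, hYm, hYg⟩ := Groth.Agent.Models.H51.MinModel.exists_hom_minimalModel ha₀ hg₀
  obtain ⟨g', -, hg'⟩ := GenLift.isPullback_lift hψ hYg hw
    (IsPullback.of_hasPullback Y.hom (Spec.map (CommRingCat.ofHom (algebraMap R R'))))
  let Y' : Over (Spec (CommRingCat.of R')) :=
    (Over.pullback (Spec.map (CommRingCat.ofHom (algebraMap R R')))).obj Y
  have hg'' : IsPullback (X := Y'.left) g' f' Y'.hom (Neron.genPt R') := hg'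
  let _ : Algebra (FractionRing R) (FractionRing R') := ψ.toAlgebra
  have hw' : IsPullback w f' f (Spec.map (CommRingCat.ofHom (algebraMap (FractionRing R) (FractionRing R')))) := hw
  have hC' : Curve.IsSmoothProperCurve (FractionRing R') C' f' :=
    Groth.Agent.Models.H58.CurveBC.isSmoothProperCurve hw' hC hH0
  have hcc : CompactSpace C := (quasiCompact_iff_compactSpace f).mp inferInstance
  have hqs : QuasiSeparatedSpace C := (quasiSeparated_iff_quasiSeparatedSpace f).mp inferInstance
  have hH0' : IsIso f'.appTop := Groth.Agent.Models.H58.CurveBC.isIso_appTop hw' hH0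
  have hC'int : IsIntegral C' := hC'.2.2.1
  have hYfl : Flat Y.hom := hY.2.2.2.1
  have hY'fl : Flat Y'.hom := by
    change Flat (pullback.snd Y.hom (Spec.map (CommRingCat.ofHom (algebraMap R R'))))
    infer_instance
  have hY'int : IsIntegral Y'.left := GenExt.isIntegral_of_flat hg''
  -- the Euler characteristic of the generic fibre
  have heul : FGA.eulerCharLE (FractionRing R) ((Neron.genericFibre R).obj Y).left (Coh.structureModule _) 1 ≤ 0 := by
    have h1 : IsPullback (pullback.fst Y.hom (Neron.genPt R)) (pullback.snd Y.hom (Neron.genPt R)) Y.hom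
        (Neron.genPt R) := IsPullback.of_hasPullback _ _
    let ε : ((Neron.genericFibre R).obj Y).left ≅ C := h1.isoIsPullback _ _ hYg
    have hε : ε.hom ≫ f = ((Neron.genericFibre R).obj Y).hom := IsPullback.isoIsPullback_hom_snd _ _ _ _
    have h2 : IsPullback ε.hom ((Neron.genericFibre R).obj Y).hom f
        (Spec.map (CommRingCat.ofHom (algebraMap (FractionRing R) (FractionRing R)))) := by
      have h3 : Spec.map (CommRingCat.ofHom (algebraMap (FractionRing R) (FractionRing R))) = 𝟙 _ := Spec.map_id _
      rw [h3]
      exact IsPullback.of_horiz_isIso ⟨by rw [hε, Category.comp_id]⟩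
    have h4 : Models.curveGenus (FractionRing R) ((Neron.genericFibre R).obj Y).left
        ((Neron.genericFibre R).obj Y).hom = Models.curveGenus (FractionRing R) C f :=
      Groth.Agent.Models.H58.CurveBC.curveGenus_eq h2
    have h5 : IsIso ((Neron.genericFibre R).obj Y).hom.appTop :=
      Groth.Agent.Models.H58.CurveBC.isIso_appTop h2 hH0
    have h6 : Module.finrank (FractionRing R)
        (Coh.HH ((Neron.genericFibre R).obj Y).left (Coh.structureModule ((Neron.genericFibre R).obj Y).left) 0) = 1 :=
      Groth.Agent.Models.H57.GeoInt.finrank_H0 (FractionRing R) ((Neron.genericFibre R).obj Y).left h5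
    have h7 : Module.finrank (FractionRing R)
        (Coh.HH ((Neron.genericFibre R).obj Y).left (Coh.structureModule ((Neron.genericFibre R).obj Y).left) 1) =
        Models.curveGenus (FractionRing R) C f := h4
    rw [FGA.eulerCharLE, Finset.sum_range_succ, Finset.sum_range_one, h6, h7]
    have h8 : (1 : ℤ) ≤ (Models.curveGenus (FractionRing R) C f : ℤ) := by exact_mod_cast hg
    simp only [pow_zero, pow_one, Nat.cast_one, mul_one]
    linarith
  obtain ⟨hY'a, hiff⟩ := Groth.Agent.S7897.result R R' e Y hY heul
  have hmin' := hiff.1 hmin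
  have hmod := Groth.Agent.Models.H51.RelMin.isMinimalModel_of_isRelMinimal hY'a hmin' hg''
  have hn : Curv2.IsNodalFamily Y'.hom :=
    Groth.Agent.S3336.result R' C' Y'.left f' Y'.hom hC' hH0' h hmod
  have hff : Module.FaithfullyFlat R R' := by
    have hf : Module.Flat R (AdicCompletion (IsLocalRing.maximalIdeal R) R) := inferInstance
    have hl : IsLocalHom (algebraMap R (AdicCompletion (IsLocalRing.maximalIdeal R) R)) := inferInstance
    have h1 : Module.FaithfullyFlat R (AdicCompletion (IsLocalRing.maximalIdeal R) R) :=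
      Module.FaithfullyFlat.of_flat_of_isLocalHom
    exact Module.FaithfullyFlat.of_linearEquiv R _ e.toLinearEquiv
  have hsurj : Surjective (Spec.map (CommRingCat.ofHom (algebraMap R R'))) :=
    ⟨PrimeSpectrum.comap_surjective_of_faithfullyFlat⟩
  have hflat : Flat (Spec.map (CommRingCat.ofHom (algebraMap R R'))) := by
    rw [Flat.SpecMap_iff]
    change (algebraMap R R').Flat
    rw [RingHom.flat_algebraMap_iff]
    infer_instance
  exact ⟨Y.left, Y.hom, hYm.1.1, hYm.1.2.1,
    Groth.Agent.S1594.result Y.hom (Spec.map (CommRingCat.ofHom (algebraMap R R'))) hn⟩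

end K954.SsComp
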