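import Groth.Agent.Models.K954.Descend
import Groth.Agent.Models.K954.GalExt
import Groth.Agent.Models.K954.SsComp
import Groth.Agent.Models.K954.PicClosed
import Groth.Agent.S0549
import Groth.Agent.S0505
import Groth.Agent.S7811
import Mathlib.AlgebraicGeometry.Geometrically.Basic

/-!
# Semistable reduction passes to the target of a finite morphism of curves
-/

set_option autoImplicit false
universe u

open CategoryTheory CategoryTheory.Limits AlgebraicGeometry

namespace K954.Assem

/-- Stable reduction after a finite separable extension (S16748). -/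
def Ext48 : Prop :=
  ∀ (R : Type u) [CommRing R] [IsDomain R] [IsDiscreteValuationRing R]
    (C : Scheme.{u}) (f : C ⟶ Spec (CommRingCat.of (FractionRing R)))
    (_ : Curve.IsSmoothProperCurve (FractionRing R) C f) (_ : IsIso f.appTop)
    (_ : 2 ≤ Models.curveGenus (FractionRing R) C f),
    ∃ (R' : Type u) (_ : CommRing R') (_ : IsDomain R') (_ : IsDiscreteValuationRing R')
      (φ : R →+* R') (ψ : FractionRing R →+* FractionRing R'),
      Models.IsDVRExtension R φ ∧
      ψ.comp (algebraMap R (FractionRing R)) = (algebraMap R' (FractionRing R')).comp φ ∧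
      Models.IsFiniteSeparable ψ ∧
      ∃ (Y : Scheme.{u}) (q : Y ⟶ Spec (CommRingCat.of R')),
        Models.IsModel R' Y q (pullback f (Spec.map (CommRingCat.ofHom ψ)))
          (pullback.snd f (Spec.map (CommRingCat.ofHom ψ))) ∧
        CurvSt.IsStableFam q (Fin.elim0 : Fin 0 → (Spec (CommRingCat.of R') ⟶ Y)) (fun i => i.elim0)
          (Models.curveGenus (FractionRing R) C f)

/-- Semistable reduction is stable reduction in genus at least two (S16750). -/
def Ext50 : Prop :=
  ∀ (R : Type u) [CommRing R] [IsDomain R] [IsDiscreteValuationRing R]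
    (C : Scheme.{u}) (f : C ⟶ Spec (CommRingCat.of (FractionRing R)))
    (_ : Curve.IsSmoothProperCurve (FractionRing R) C f) (_ : IsIso f.appTop)
    (_ : 2 ≤ Models.curveGenus (FractionRing R) C f),
    Models.HasSemistableReduction R C f ↔
      ∃ (Y : Scheme.{u}) (q : Y ⟶ Spec (CommRingCat.of R)), Models.IsModel R Y q C f ∧
        CurvSt.IsStableFam q (Fin.elim0 : Fin 0 → (Spec (CommRingCat.of R) ⟶ Y)) (fun i => i.elim0)
          (Models.curveGenus (FractionRing R) C f)

theorem geometricallyConnected {k : Type u} [Field k] {X : Scheme.{u}} (f : X ⟶ Spec (CommRingCat.of k))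
    (hX : Curve.IsSmoothProperCurve k X f) (h : IsIso f.appTop) : GeometricallyConnected f := by
  refine ⟨fun K _ y T fst snd hT => ?_⟩
  obtain ⟨φ, rfl⟩ := Spec.map_surjective y
  let _ : Algebra k K := φ.hom.toAlgebra
  have h1 : Curve.IsSmoothProperCurve K T snd := Groth.Agent.Models.H58.CurveBC.isSmoothProperCurve (K := k) hT hX h
  have h2 : IsIntegral T := h1.2.2.1
  infer_instance

theorem curveGenus_le {k : Type u} [Field k] {X Y : Scheme.{u}} (fX : X ⟶ Spec (CommRingCat.of k))
    (fY : Y ⟶ Spec (CommRingCat.of k)) (hX : Curve.IsSmoothProperCurve k X fX) (hX0 : IsIso fX.appTop)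
    (hY : Curve.IsSmoothProperCurve k Y fY) (hY0 : IsIso fY.appTop) (f : X ⟶ Y) [IsFinite f] (hf : f ≫ fY = fX) :
    Models.curveGenus k Y fY ≤ Models.curveGenus k X fX := by
  have h1 := geometricallyConnected fX hX hX0
  have h2 := geometricallyConnected fY hY hY0
  obtain ⟨h3, h4, h5, h6⟩ := hX
  obtain ⟨h7, h8, h9, h10⟩ := hY
  exact Groth.Agent.S7811.result k fX fY h6 h10 f hf

section Complete

variable (R : Type u) [CommRing R] [IsDomain R] [IsDiscreteValuationRing R] [HenselianLocalRing R]

/-- The case of a henselian base. -/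
theorem henselian (H53 : ActExt.Ext53.{u}) (H48 : Ext48.{u}) (H50 : Ext50.{u})
    (X Y : Scheme.{u}) (fX : X ⟶ Spec (CommRingCat.of (FractionRing R))) (fY : Y ⟶ Spec (CommRingCat.of (FractionRing R)))
    (hX : Curve.IsSmoothProperCurve (FractionRing R) X fX) (hX0 : IsIso fX.appTop)
    (hY : Curve.IsSmoothProperCurve (FractionRing R) Y fY) (hY0 : IsIso fY.appTop)
    (f : X ⟶ Y) [IsFinite f] (hf : f ≫ fY = fX)
    (hg : 2 ≤ Models.curveGenus (FractionRing R) Y fY)
    (h : Models.HasSemistableReduction R X fX) :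
    Models.HasSemistableReduction R Y fY := by
  obtain ⟨XR, p, ⟨-, -, -, iX, hiX⟩, hp⟩ := (H50 R X fX hX hX0 (hg.trans (curveGenus_le fX fY hX hX0 hY hY0 f hf))).1 h
  obtain ⟨R₁, _, _, _, φ, ψ, hφ, hψ, hsep, Y₁, q₁, ⟨-, -, -, j₁, hj₁⟩, hq₁⟩ := H48 R Y fY hY hY0 hg
  obtain ⟨R', _, _, _, _, _, hinj, G, _, _, _, _, _, χ, hχ, hχφ⟩ := GalExt.exists_galois R R₁ φ ψ hφ hψ hsep
  have hR' : HenselianLocalRing R' := Groth.Agent.S0505.result R R'
  let ψ' : FractionRing R₁ →+* FractionRing R' := IsFractionRing.map hχ.1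
  have hψ' : ψ'.comp (algebraMap R₁ (FractionRing R₁)) = (algebraMap R' (FractionRing R')).comp χ := by
    refine RingHom.ext fun r => ?_
    exact IsLocalization.map_eq (S := FractionRing R₁) (Q := FractionRing R') (g := χ)
      (nonZeroDivisors_le_comap_nonZeroDivisors_of_injective _ hχ.1) r
  have hcomp : ψ'.comp ψ = RingAct.fracMap R R' hinj := by
    refine IsLocalization.ringHom_ext (nonZeroDivisors R) ?_
    rw [RingHom.comp_assoc, hψ, ← RingHom.comp_assoc, hψ', RingHom.comp_assoc, hχφ, RingAct.fracMap_comp]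
  have hw := IsPullback.of_hasPullback (pullback.snd fY (Spec.map (CommRingCat.ofHom ψ))) (Spec.map (CommRingCat.ofHom ψ'))
  have hYLsq := hw.paste_horiz (IsPullback.of_hasPullback fY (Spec.map (CommRingCat.ofHom ψ)))
  rw [← Spec.map_comp, ← CommRingCat.ofHom_comp, hcomp] at hYLsq
  obtain ⟨j, -, hj⟩ := GenLift.isPullback_lift hψ' hj₁ hw (IsPullback.of_hasPullback q₁ (Spec.map (CommRingCat.ofHom χ)))
  exact Descend.descend hinj G H53 fX fY hX hX0 hY hY0 f hf hg p hp iX hiX _
    (StabFam.IsStab.of_isPullback hq₁ (IsPullback.of_hasPullback q₁ (Spec.map (CommRingCat.ofHom χ)))) hYLsq j hj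

end Complete

theorem main (H53 : ActExt.Ext53.{u}) (H48 : Ext48.{u}) (H50 : Ext50.{u})
    (R : Type u) [CommRing R] [IsDomain R] [IsDiscreteValuationRing R]
    (X Y : Scheme.{u}) (fX : X ⟶ Spec (CommRingCat.of (FractionRing R))) (fY : Y ⟶ Spec (CommRingCat.of (FractionRing R)))
    (hX : Curve.IsSmoothProperCurve (FractionRing R) X fX) (hX0 : IsIso fX.appTop)
    (hY : Curve.IsSmoothProperCurve (FractionRing R) Y fY) (hY0 : IsIso fY.appTop)
    (f : X ⟶ Y) [IsFinite f] (hf : f ≫ fY = fX)
    (hg : 2 ≤ Models.curveGenus (FractionRing R) Y fY)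
    (h : Models.HasSemistableReduction R X fX) :
    Models.HasSemistableReduction R Y fY := by
  obtain ⟨_, _⟩ := (Groth.Agent.S0549.result R).mp ⟨inferInstance, inferInstance⟩
  have hcpl : IsAdicComplete (IsLocalRing.maximalIdeal (AdicCompletion (IsLocalRing.maximalIdeal R) R))
    (AdicCompletion (IsLocalRing.maximalIdeal R) R) := inferInstance
  have hhens : HenselianLocalRing (AdicCompletion (IsLocalRing.maximalIdeal R) R) :=
    Groth.Agent.Models.K954.PicClosed.henselianLocalRing _
  have hinj : Function.Injective (algebraMap R (AdicCompletion (IsLocalRing.maximalIdeal R) R)) :=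
    AdicCompletion.of_injective (IsLocalRing.maximalIdeal R) R
  let ψ := RingAct.fracMap R (AdicCompletion (IsLocalRing.maximalIdeal R) R) hinj
  have hψ := RingAct.fracMap_comp R (AdicCompletion (IsLocalRing.maximalIdeal R) R) hinj
  have hXsq := IsPullback.of_hasPullback fX (Spec.map (CommRingCat.ofHom ψ))
  have hYsq := IsPullback.of_hasPullback fY (Spec.map (CommRingCat.ofHom ψ))
  have hYprop : IsProper fY := hY.1
  obtain ⟨hX', hX0'⟩ := Groth.Agent.Models.H57.GeoInt.isSmoothProperCurve_pullback fX hX hX0 ψ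
  obtain ⟨hY', hY0'⟩ := Groth.Agent.Models.H57.GeoInt.isSmoothProperCurve_pullback fY hY hY0 ψ
  let f' : pullback fX (Spec.map (CommRingCat.ofHom ψ)) ⟶ pullback fY (Spec.map (CommRingCat.ofHom ψ)) :=
    pullback.lift (pullback.fst _ _ ≫ f) (pullback.snd _ _) (by rw [Category.assoc, hf, pullback.condition])
  have hf'1 : f' ≫ pullback.fst _ _ = pullback.fst _ _ ≫ f := pullback.lift_fst _ _ _
  have hf'2 : f' ≫ pullback.snd _ _ = pullback.snd _ _ := pullback.lift_snd _ _ _
  have hf'sq : IsPullback (pullback.fst fX (Spec.map (CommRingCat.ofHom ψ))) f' f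
      (pullback.fst fY (Spec.map (CommRingCat.ofHom ψ))) := by
    refine IsPullback.of_bot ?_ hf'1.symm hYsq
    rw [hf'2, hf]
    exact hXsq
  have hf'fin : IsFinite f' := MorphismProperty.of_isPullback hf'sq ‹_›
  have hss : Models.HasSemistableReduction (AdicCompletion (IsLocalRing.maximalIdeal R) R)
      (pullback fX (Spec.map (CommRingCat.ofHom ψ))) (pullback.snd fX (Spec.map (CommRingCat.ofHom ψ))) :=
    SsComp.hasSemistableReduction_baseChange (algebraMap R _) ψ hψ hXsq h
  have hg' : 2 ≤ Models.curveGenus (FractionRing (AdicCompletion (IsLocalRing.maximalIdeal R) R))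
      (pullback fY (Spec.map (CommRingCat.ofHom ψ))) (pullback.snd fY (Spec.map (CommRingCat.ofHom ψ))) := by
    rw [ActExt.curveGenus_of_isPullback ψ hYsq]
    exact hg
  have hss' := henselian (AdicCompletion (IsLocalRing.maximalIdeal R) R) H53 H48 H50 _ _ _ _ hX' hX0' hY' hY0' f' hf'2 hg'
    hss
  exact SsComp.hasSemistableReduction_of_completion AlgEquiv.refl ψ hψ Y fY hY hY0 (one_le_two.trans hg) hYsq hss'

end K954.Assem
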