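import Groth.Agent.Models.K954.QuotDesc
import Groth.Agent.Models.K954.GenExt
import Groth.Agent.S2907
import Groth.Agent.S2909
import Groth.Agent.S2925
import Groth.Agent.Zeta.K467.QuotFlat
import Groth.Agent.ZeroCyc.K755.SymMain
import Groth.Agent.Curves.K754.QuotInt
import Groth.Agent.ZeroCyc.K754.QuotProj
import Groth.Agent.CurvesB.RegModelImage

/-!
# Descent of a model along a Galois extension of discrete valuation rings

`exists_descent`: `R'` a finite extension of `R` with group `G`, `YR'` a normal proper `R'`-model of `Y ⊗ L` with a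
compatible semilinear action of `G`; if an equivariant surjection `XR ⊗ R' ⟶ YR'` with `XR` flat over `R` exists, then
`YR'` is the base change of a proper flat `R`-model of `Y`.
-/

set_option autoImplicit false
universe u

open CategoryTheory CategoryTheory.Limits AlgebraicGeometry

namespace K954.DescMain

/-- Denominators in the fraction field of `R'` can be taken powers of a uniformizer of `R`. -/
theorem exists_pow {R R' L : Type u} [CommRing R] [IsDomain R] [IsDiscreteValuationRing R]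
    [CommRing R'] [IsDomain R'] [IsDiscreteValuationRing R'] [Algebra R R'] [Module.Finite R R']
    (hinj : Function.Injective (algebraMap R R'))
    [Field L] [Algebra R' L] [IsFractionRing R' L] {ϖ : R} (hϖ : Irreducible ϖ) (y : L) :
    ∃ n : ℕ, ∃ x, algebraMap R' L x = algebraMap R' L (algebraMap R R' ϖ) ^ n * y := by
  obtain ⟨x, s, hs, rfl⟩ := IsFractionRing.div_surjective (A := R') y
  have hs0 : s ≠ 0 := nonZeroDivisors.ne_zero hs
  have hnu : ¬ IsUnit (algebraMap R R' ϖ) := by
    intro h0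
    have hloc : IsLocalHom (algebraMap R R') := (algebraMap_isIntegral_iff.mpr inferInstance).isLocalHom hinj
    exact hϖ.not_isUnit (isUnit_of_map_unit (algebraMap R R') ϖ h0)
  obtain ⟨ϖ', hϖ'⟩ := IsDiscreteValuationRing.exists_irreducible R'
  obtain ⟨n, u, hu⟩ := IsDiscreteValuationRing.eq_unit_mul_pow_irreducible hs0 hϖ'
  have h1 : ϖ' ∣ algebraMap R R' ϖ := by
    rw [← Ideal.mem_span_singleton, ← hϖ'.maximalIdeal_eq]
    exact (IsLocalRing.mem_maximalIdeal _).2 hnu
  obtain ⟨t, ht⟩ := pow_dvd_pow_of_dvd h1 n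
  refine ⟨n, t * (u⁻¹ : R'ˣ) * x, ?_⟩
  have h2 : algebraMap R R' ϖ ^ n = s * (t * (u⁻¹ : R'ˣ)) := by
    rw [ht, hu]
    calc ϖ' ^ n * t = (u * (u⁻¹ : R'ˣ) : R') * (ϖ' ^ n * t) := by rw [Units.mul_inv, one_mul]
      _ = _ := by ring
  have hsL : algebraMap R' L s ≠ 0 := by
    rw [ne_eq, IsFractionRing.to_map_eq_zero_iff]
    exact hs0
  rw [← map_pow, h2]
  field_simp
  simp only [map_mul]
  ring

theorem exists_descent (R R' : Type u) [CommRing R] [IsDomain R] [IsDiscreteValuationRing R]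
    [CommRing R'] [IsDomain R'] [IsDiscreteValuationRing R'] [Algebra R R'] [Module.Finite R R']
    [Module.Free R R'] (hinj : Function.Injective (algebraMap R R'))
    {K L : Type u} [Field K] [Algebra R K] [IsFractionRing R K] [Field L] [Algebra R' L] [IsFractionRing R' L]
    {G : Type u} [Group G] [Finite G]
    (ρ' : G →* Aut (Spec (CommRingCat.of R')))
    (hb : SGA1.IsQuot ρ' (Spec.map (CommRingCat.ofHom (algebraMap R R'))))
    (bL : Spec (CommRingCat.of L) ⟶ Spec (CommRingCat.of K))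
    (hL : IsPullback (Spec.map (CommRingCat.ofHom (algebraMap R' L))) bL
      (Spec.map (CommRingCat.ofHom (algebraMap R R'))) (Spec.map (CommRingCat.ofHom (algebraMap R K))))
    (ρL : G →* Aut (Spec (CommRingCat.of L)))
    (hρL1 : ∀ g, (ρL g).hom ≫ Spec.map (CommRingCat.ofHom (algebraMap R' L)) =
      Spec.map (CommRingCat.ofHom (algebraMap R' L)) ≫ (ρ' g).hom)
    (hρL2 : ∀ g, (ρL g).hom ≫ bL = bL)
    {Y YL YR' XR X' : Scheme.{u}} (fY : Y ⟶ Spec (CommRingCat.of K)) [Flat fY]
    (gY : YL ⟶ Y) (fL : YL ⟶ Spec (CommRingCat.of L)) (hYL : IsPullback gY fL fY bL)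
    (q : YR' ⟶ Spec (CommRingCat.of R')) [IsProper q] [Flat q] [IsIntegral YR'] (hn : Pi1.IsNormalScheme YR')
    [IsIntegral YL]
    (j : YL ⟶ YR') (hj : IsPullback j fL q (Spec.map (CommRingCat.ofHom (algebraMap R' L))))
    (a : G →* Aut YR') (ha : ∀ g, (a g).hom ≫ q = q ≫ (ρ' g).hom)
    (aL : G →* Aut YL) (haL1 : ∀ g, (aL g).hom ≫ gY = gY) (haL2 : ∀ g, (aL g).hom ≫ fL = fL ≫ (ρL g).hom)
    (haj : ∀ g, (aL g).hom ≫ j = j ≫ (a g).hom)
    (horb : ∀ x : YR', ∃ U : YR'.Opens, IsAffineOpen U ∧ ∀ g : G, (a g).hom.base x ∈ U)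
    (p : XR ⟶ Spec (CommRingCat.of R)) [Flat p]
    (gX : X' ⟶ XR) (p' : X' ⟶ Spec (CommRingCat.of R'))
    (hX : IsPullback gX p' p (Spec.map (CommRingCat.ofHom (algebraMap R R'))))
    (aX : G →* Aut X') (haX1 : ∀ g, (aX g).hom ≫ gX = gX) (haX2 : ∀ g, (aX g).hom ≫ p' = p' ≫ (ρ' g).hom)
    (φ : X' ⟶ YR') [Surjective φ] (hφq : φ ≫ q = p') (hφa : ∀ g, (aX g).hom ≫ φ = φ ≫ (a g).hom) :
    ∃ (YR : Scheme.{u}) (h : YR ⟶ Spec (CommRingCat.of R)) (π : YR' ⟶ YR) (i : Y ⟶ YR),
      IsProper h ∧ Flat h ∧ IsPullback π q h (Spec.map (CommRingCat.ofHom (algebraMap R R'))) ∧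
      IsPullback i fY h (Spec.map (CommRingCat.ofHom (algebraMap R K))) := by
  set b := Spec.map (CommRingCat.ofHom (algebraMap R R')) with hbdef
  set l := Spec.map (CommRingCat.ofHom (algebraMap R' L)) with hldef
  set k := Spec.map (CommRingCat.ofHom (algebraMap R K)) with hkdef
  have hfin : IsFinite b := (IsFinite.SpecMap_iff _).mpr (by
    change (algebraMap R R').Finite
    rw [RingHom.finite_algebraMap]
    infer_instance)
  have hk : Flat k := by
    rw [hkdef, Flat.SpecMap_iff]
    change (algebraMap R K).Flat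
    rw [RingHom.flat_algebraMap_iff]
    exact IsLocalization.flat K (nonZeroDivisors R)
  -- the quotient
  obtain ⟨YR, π, hπ⟩ := Groth.Agent.S2907.result a horb
  have hqb : ∀ g, (a g).hom ≫ q ≫ b = q ≫ b := by
    intro g
    rw [← Category.assoc, ha, Category.assoc, hb.inv g]
  obtain ⟨h, hh, -⟩ := Groth.Agent.S2925.result a π hπ _ (q ≫ b) hqb
  have hprop : IsProper (q ≫ b) := inferInstance
  have hYRint : IsIntegral YR := K754.QuotInt.isIntegral hπ
  have hYRn : Pi1.IsNormalScheme YR := K754.QuotInt.isNormalScheme hπ hn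
  have hhprop : IsProper h := K754.QuotProj.isProper_of_isQuot hπ hh hqb
  have hYRnoeth : IsLocallyNoetherian YR := LocallyOfFiniteType.isLocallyNoetherian h
  have hπsurj : Surjective π := ⟨Groth.Agent.Sga1.QuotBasic.surjective_of_isQuot hπ⟩
  have hhdom : IsDominant h := by
    have h1 : Surjective (fL ≫ bL) := ⟨fun x => ⟨Classical.arbitrary YL, Subsingleton.elim _ _⟩⟩
    have h2 : IsDominant k := by
      have h3 := GenExt.isSchemeTheoreticallyDominant (R := R) (K := K)
      infer_instance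
    have h3 : (j ≫ π) ≫ h = (fL ≫ bL) ≫ k := by
      rw [Category.assoc, hh, ← Category.assoc, hj.w, Category.assoc, Category.assoc, hL.w]
    have : IsDominant ((j ≫ π) ≫ h) := by rw [h3]; infer_instance
    exact IsDominant.of_comp (j ≫ π) h
  have hhflat : Flat h := Groth.Agent.CurvesB.RegModelImage.flat_of_isDominant R h
  -- descent of `φ`
  have hXq : SGA1.IsQuot aX gX := K467.QuotFlat.isQuot_of_flat_baseChange hb hX.flip haX2 haX1
  obtain ⟨ψ, hψ, -⟩ := Groth.Agent.S2925.result aX gX hXq _ (φ ≫ π) (fun g => by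
    rw [← Category.assoc, hφa, Category.assoc, hπ.inv g])
  have hψp : ψ ≫ h = p := by
    refine (Groth.Agent.S2925.result aX gX hXq _ (gX ≫ p) (fun g => by
      rw [← Category.assoc, haX1])).unique ?_ rfl
    rw [← Category.assoc, hψ, Category.assoc, hh, ← Category.assoc, hφq, hX.w]
  have hψsurj : Surjective ψ := by
    have : Surjective (gX ≫ ψ) := by rw [hψ]; infer_instance
    exact Surjective.of_comp gX ψ
  -- the generic fibre
  have hjL : IsPullback j (fL ≫ bL) (π ≫ h) k := by
    rw [hh]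
    exact hj.paste_vert hL
  let m₀ : YL ⟶ pullback h k := pullback.lift (j ≫ π) (fL ≫ bL) (by rw [Category.assoc]; exact hjL.w)
  have hm₀1 : m₀ ≫ pullback.fst h k = j ≫ π := pullback.lift_fst _ _ _
  have hm₀2 : m₀ ≫ pullback.snd h k = fL ≫ bL := pullback.lift_snd _ _ _
  have hm₀ : IsPullback j m₀ π (pullback.fst h k) := by
    refine IsPullback.of_bot ?_ hm₀1.symm (IsPullback.of_hasPullback h k)
    rw [hm₀2]
    exact hjL
  have hm₀inv : ∀ g, (aL g).hom ≫ m₀ = m₀ := by
    intro g
    apply pullback.hom_ext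
    · rw [Category.assoc, hm₀1, ← Category.assoc, haj, Category.assoc, hπ.inv g]
    · rw [Category.assoc, hm₀2, ← Category.assoc, haL2, Category.assoc, hρL2]
  have hq1 : SGA1.IsQuot aL m₀ := K467.QuotFlat.isQuot_of_flat_baseChange hπ hm₀ haj hm₀inv
  have hq2 : SGA1.IsQuot ρL bL := K467.QuotFlat.isQuot_of_flat_baseChange hb hL hρL1 hρL2
  have hq3 : SGA1.IsQuot aL gY := K467.QuotFlat.isQuot_of_flat_baseChange hq2 hYL.flip haL2 haL1
  obtain ⟨m, hm, -⟩ := Groth.Agent.S2925.result aL gY hq3 _ m₀ hm₀inv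
  have hmiso : IsIso m := K755.SymMain.isIso_of_isQuot hq3 hq1 m hm
  have hm2 : m ≫ pullback.snd h k = fY := by
    refine (Groth.Agent.S2925.result aL gY hq3 _ (gY ≫ fY) (fun g => by
      rw [← Category.assoc, haL1])).unique ?_ rfl
    rw [← Category.assoc, hm, hm₀2, hYL.w]
  have hi : IsPullback (m ≫ pullback.fst h k) fY h k := by
    refine IsPullback.of_iso (IsPullback.of_hasPullback h k) (asIso m).symm (Iso.refl _) (Iso.refl _) (Iso.refl _)
      ?_ ?_ ?_ ?_
    · simp
    · simp [← hm2]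
    · simp
    · simp
  -- the comparison morphism
  let c : YR' ⟶ pullback h b := pullback.lift π q hh
  have hc1 : c ≫ pullback.fst h b = π := pullback.lift_fst _ _ _
  have hc2 : c ≫ pullback.snd h b = q := pullback.lift_snd _ _ _
  have hπaff : IsAffineHom (c ≫ pullback.fst h b) := by rw [hc1]; exact hπ.affine
  have hcaff : IsAffineHom c := MorphismProperty.of_postcomp @IsAffineHom c (pullback.fst h b) (W' := @IsSeparated) inferInstance hπaff
  have hj' : IsPullback (j ≫ c) fL (pullback.snd h b) l := by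
    refine IsPullback.of_right (h₁₂ := pullback.fst h b) (v₁₃ := h) (h₂₂ := b) ?_ ?_ (IsPullback.of_hasPullback h b)
    · have h1 : (j ≫ c) ≫ pullback.fst h b = gY ≫ m ≫ pullback.fst h k := by
        rw [Category.assoc, hc1, ← Category.assoc, hm, hm₀1]
      rw [h1, hL.w]
      exact hYL.paste_horiz hi
    · rw [Category.assoc, hc2, hj.w]
  obtain ⟨ϖ, hϖ⟩ := IsDiscreteValuationRing.exists_irreducible R
  have hciso : IsIso c := by
    refine QuotDesc.isIso_of (CommRingCat.ofHom (algebraMap R R')) (CommRingCat.ofHom (algebraMap R' L)) h q p c ψ φ j fL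
      hYRn ?_ ϖ ?_ ?_ ?_ ?_ (IsPullback.of_hasPullback h b) hX hc2 hψp hφq ?_ hj hj'
    · have h0 : (CommRingCat.ofHom (algebraMap R R')).hom.toAlgebra = (inferInstance : Algebra R R') :=
        Algebra.algebra_ext _ _ (fun r => rfl)
      change @Module.Free R R' _ _ (CommRingCat.ofHom (algebraMap R R')).hom.toAlgebra.toModule
      rw [h0]
      exact ‹Module.Free R R'›
    · intro x hx
      exact (mul_eq_zero.1 hx).resolve_left hϖ.ne_zero
    · intro x hx
      refine (mul_eq_zero.1 hx).resolve_left fun h0 => hϖ.ne_zero (hinj ?_)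
      rw [map_zero]
      exact h0
    · exact IsFractionRing.injective R' L
    · intro y
      exact exists_pow hinj hϖ y
    · rw [hc1, hψ]
  exact ⟨YR, h, π, m ≫ pullback.fst h k, hhprop, hhflat, IsPullback.of_iso_pullback ⟨hh⟩ (asIso c) hc1 hc2, hi⟩

end K954.DescMain
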