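import Groth.Agent.Etcore.CurveCardH2
import Groth.Agent.Dix.KummerLES
import Groth.Agent.CurvesA.H1GmPicSurj
import Groth.Agent.CurvesA.H2Mu

/-!
# Divisibility of the classes of degree zero on a proper curve over an algebraically closed field

`exists_root`: `Y` proper of dimension at most one over an algebraically closed field `k`, with `m` irreducible
components of dimension one, `D : Pic(Y) → ℤ^m` a surjective homomorphism, `q` invertible in `k`: every class `c` with
`D c = 0` is `q` times a class of this kind.  (Count: `Pic(Y)/q` embeds into `H²(Y, μ_q)`, of order `q^m`.)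
-/

set_option autoImplicit false
universe u
open CategoryTheory CategoryTheory.Limits AlgebraicGeometry TopologicalSpace Opposite

namespace Groth.Agent.Models.K954.PicRoot

theorem exists_root_of_card {P H : Type*} [AddCommGroup P] [AddCommGroup H] {m q : ℕ} (hq : 1 ≤ q)
    (δ : P →+ H) (hδ : ∀ x, δ x = 0 → ∃ y, q • y = x) (D : P →+ (Fin m → ℤ))
    (hD : Function.Surjective D) (hH : Nat.card H = q ^ m) (c : P) (hc : D c = 0) :
    ∃ d, D d = 0 ∧ q • d = c := by
  have hfin : Finite H := Nat.finite_of_card_ne_zero (by rw [hH]; positivity)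
  have hq0 : NeZero q := ⟨by omega⟩
  -- `Q = P / ker δ`
  let r : P →+ (Fin m → ZMod q) :=
    AddMonoidHom.mk' (fun x j => ((D x j : ℤ) : ZMod q)) (fun a b => by
      funext j
      simp)
  have hr : Function.Surjective r := by
    intro v
    choose w hw using fun j => ZMod.intCast_surjective (v j)
    obtain ⟨x, hx⟩ := hD w
    refine ⟨x, ?_⟩
    funext j
    change ((D x j : ℤ) : ZMod q) = v j
    rw [hx, hw]
  have hle : δ.ker ≤ r.ker := by
    intro x hx
    obtain ⟨y, rfl⟩ := hδ x hx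
    rw [AddMonoidHom.mem_ker]
    funext j
    change ((D (q • y) j : ℤ) : ZMod q) = 0
    rw [map_nsmul]
    simp
  let r' : P ⧸ δ.ker →+ (Fin m → ZMod q) := QuotientAddGroup.lift δ.ker r hle
  have hr' : Function.Surjective r' := fun v => by
    obtain ⟨x, hx⟩ := hr v
    exact ⟨(x : P ⧸ δ.ker), hx⟩
  have hi : Function.Injective (QuotientAddGroup.kerLift δ) := QuotientAddGroup.kerLift_injective δ
  have hfin' : Finite (P ⧸ δ.ker) := Finite.of_injective _ hi
  have hcard : Nat.card (P ⧸ δ.ker) ≤ Nat.card (Fin m → ZMod q) := by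
    refine (Nat.card_le_card_of_injective _ hi).trans (le_of_eq ?_)
    rw [hH]
    simp [Nat.card_eq_fintype_card]
  have hbij := hr'.bijective_of_nat_card_le hcard
  have h1 : r' (c : P ⧸ δ.ker) = 0 := by
    change r c = 0
    funext j
    change ((D c j : ℤ) : ZMod q) = 0
    rw [hc]
    simp
  have h2 : (c : P ⧸ δ.ker) = 0 := hbij.1 (h1.trans (map_zero _).symm)
  have h3 : δ c = 0 := (QuotientAddGroup.eq_zero_iff c).1 h2
  obtain ⟨d, hd⟩ := hδ c h3
  refine ⟨d, ?_, hd⟩
  have h4 : q • D d = 0 := by rw [← map_nsmul, hd, hc]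
  funext j
  have h5 := congrFun h4 j
  rw [Pi.smul_apply, nsmul_eq_mul, Pi.zero_apply, mul_eq_zero] at h5
  rcases h5 with h5 | h5
  · exfalso
    have : (q : ℤ) ≠ 0 := by exact_mod_cast hq0.out
    exact this h5
  · exact h5

open Groth.Agent.Grpsch.PicGrp

theorem exists_root (k : Type u) [Field k] [IsAlgClosed k] {Y : Scheme.{u}}
    (f : Y ⟶ Spec (CommRingCat.of k)) [IsProper f] (hdim : topologicalKrullDim Y ≤ 1) {m : ℕ}
    (hm : {Z ∈ irreducibleComponents Y | topologicalKrullDim Z = 1}.ncard = m)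
    (D : Additive (Pic Y) →+ (Fin m → ℤ)) (hD : Function.Surjective D) {q : ℕ} (hq : 1 ≤ q)
    (hqk : (q : k) ≠ 0) (c : Additive (Pic Y)) (hc : D c = 0) : ∃ d, D d = 0 ∧ q • d = c := by
  have hu : IsUnit (q : Γ(Y, ⊤)) := CurvesA.H2Mu.isUnit_natCast f q hqk
  obtain ⟨e⟩ := CurvesA.MuConst.nonempty_iso_const_mu_of_isSepClosed k q hqk f
  have hcard : Nat.card (EtCoh.H Y (EtCoh.mu Y q) 2) = q ^ m := by
    rw [← hm, ← Etcore.CurveCardH2.card_H2' k Y f hdim q hq hqk]
    exact (Nat.card_congr (CurvesA.H2Mu.hEquiv e 2).toEquiv).symm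
  let E := CurvesA.H1GmPic.picEquiv Y
  refine exists_root_of_card hq ((Dix.KummerLES.δ hu 1).comp E.toAddMonoidHom) ?_ D hD hcard c hc
  intro x hx
  obtain ⟨y, hy⟩ := Dix.KummerLES.exists_nsmul_of_δ_eq_zero hu 1 (E x) hx
  refine ⟨E.symm y, E.injective ?_⟩
  rw [map_nsmul, AddEquiv.apply_symm_apply, hy]

end Groth.Agent.Models.K954.PicRoot
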