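import Groth.Agent.S3340
import Groth.Agent.S3348
import Groth.Agent.Models.H65.PicDeg
import Groth.Agent.Models.H300.ExtPic
import Mathlib.GroupTheory.QuotientGroup.Basic
import Mathlib.LinearAlgebra.Matrix.ToLin

/-!
# The exact sequence `0 → Pic⁰(X) → Pic(C) → G → 0` for a regular proper model

`G` is the cokernel of the intersection matrix.  Everything is stated with the library's Picard groups.
-/

set_option autoImplicit false
universe u
open CategoryTheory CategoryTheory.Limits AlgebraicGeometry TopologicalSpace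

namespace Groth.Agent.Models.K954.ExactComp

open Groth.Agent.Grpsch Groth.Agent.Grpsch.PicGrp Groth.Agent.Models.H65

variable {R : Type u} [CommRing R] [IsDomain R] [IsDiscreteValuationRing R] {C X : Scheme.{u}}
  {f : C ⟶ Spec (CommRingCat.of (FractionRing R))} {p : X ⟶ Spec (CommRingCat.of R)}
  {n : ℕ} (Γ : Fin n → ArSurf.VertComp R (Over.mk p)) (L : Fin n → X.Modules)

/-- The cokernel of the intersection matrix. -/
abbrev CompGrp : Type := (Fin n → ℤ) ⧸ LinearMap.range (Matrix.mulVecLin
  (Matrix.of fun j i => ArSurf.inter R (Over.mk p) (L i) (Γ j)))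

/-- The degree vector. -/
noncomputable def degVec [IsProper p] : Additive (Pic X) →+ (Fin n → ℤ) :=
  have : IsProper (Over.mk p).hom := ‹IsProper p›
  AddMonoidHom.mk' (fun c j => PicDeg.deg (X := Over.mk p) (Γ j) c.toMul) (fun a b => by
    funext j
    exact PicDeg.deg_mul (X := Over.mk p) (Γ j) a.toMul b.toMul)

theorem degVec_mk [IsProper p] (M : X.Modules) (hM : PicF.IsInvertible M) (j : Fin n) :
    degVec Γ (Additive.ofMul (mk M hM)) j = ArSurf.inter R (Over.mk p) M (Γ j) := rfl

theorem mem_range_iff (v : Fin n → ℤ) :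
    v ∈ LinearMap.range (Matrix.mulVecLin (Matrix.of fun j i => ArSurf.inter R (Over.mk p) (L i) (Γ j))) ↔
      ∃ w : Fin n → ℤ, ∀ i, v i = ∑ j, ArSurf.inter R (Over.mk p) (L j) (Γ i) * w j := by
  constructor
  · rintro ⟨w, rfl⟩
    exact ⟨w, fun i => rfl⟩
  · rintro ⟨w, hw⟩
    exact ⟨w, by funext i; exact (hw i).symm⟩

section

variable (hC : Curve.IsSmoothProperCurve (FractionRing R) C f) (hH0 : IsIso f.appTop)
    (hX : Models.IsRegularProperModel R X p C f)
    (hΓ : Models.IsComponentList R (Over.mk p) Γ)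
    (g : C ⟶ X) (hg : IsPullback g f p (Spec.map (CommRingCat.ofHom (algebraMap R (FractionRing R)))))
    (hL : ∀ i, ClSub.IsInverseOf (L i) (ClSub.idealMod (Γ i).ι.ker))

include hC hH0 hX hΓ hg hL

theorem degVec_mem_range_iff [IsProper p] (c : Pic X) :
    degVec Γ (Additive.ofMul c) ∈ LinearMap.range (Matrix.mulVecLin
        (Matrix.of fun j i => ArSurf.inter R (Over.mk p) (L i) (Γ j))) ↔
      ∃ c' : Pic X, pull g c' = pull g c ∧ degVec Γ (Additive.ofMul c') = 0 := by
  obtain ⟨M, hM, rfl⟩ := exists_mk c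
  rw [mem_range_iff]
  have h := Groth.Agent.S3348.result R C X f p hC hH0 hX Γ hΓ g hg L hL
    ((Scheme.Modules.pullback g).obj M) (Fdesc.LocGen.isInvertible_pullback _ hM) M hM ⟨Iso.refl _⟩
  refine h.trans ?_
  constructor
  · rintro ⟨M', hM', e, hd⟩
    refine ⟨mk M' hM', ?_, ?_⟩
    · rw [pull_mk, pull_mk, mk_eq_iff]
      exact e
    · funext j
      exact hd j
  · rintro ⟨c', h1, h2⟩
    obtain ⟨M', hM', rfl⟩ := exists_mk c'
    refine ⟨M', hM', ?_, fun j => congrFun h2 j⟩
    rw [pull_mk, pull_mk, mk_eq_iff] at h1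
    exact h1

omit hL in
/-- an invertible module of degree zero on every component which is trivial on `C` is trivial, if the
multiplicities are coprime. -/
theorem eq_one_of_deg_zero [IsProper p] (hgcd : Models.multGcd R (Over.mk p) Γ = 1) (c : Pic X)
    (hc : degVec Γ (Additive.ofMul c) = 0) (h : pull g c = 1) : c = 1 := by
  obtain ⟨M, hM, rfl⟩ := exists_mk c
  rw [pull_mk, mk_eq_one_iff] at h
  have h1 := Groth.Agent.S3340.result R C X f p hC hH0 hX Γ hΓ g hg M hM h (fun i => congrFun hc i)
  rw [hgcd, ← mk_eq_one_iff (Fdesc.LocGen.isInvertible_tensorPow hM 1), mk_tensorPow, pow_one] at h1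
  exact h1

/-- The exact sequence. -/
theorem exists_psi [IsProper p] (hsurj : Function.Surjective (degVec Γ (p := p))) :
    ∃ ψ : Additive (Pic C) →+ CompGrp Γ L,
      (∀ c : Pic X, ψ (Additive.ofMul (pull g c)) = Submodule.Quotient.mk (degVec Γ (Additive.ofMul c))) ∧
        Function.Surjective ψ ∧
        ∀ c : Pic C, ψ (Additive.ofMul c) = 0 →
          ∃ c' : Pic X, degVec Γ (Additive.ofMul c') = 0 ∧ pull g c' = c := by
  let D : Additive (Pic X) →+ CompGrp Γ L :=
    (Submodule.mkQ (LinearMap.range (Matrix.mulVecLin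
      (Matrix.of fun j i => ArSurf.inter R (Over.mk p) (L i) (Γ j))))).toAddMonoidHom.comp (degVec Γ)
  have hpull : Function.Surjective (pull g) := H300.ExtPic.pull_surjective_of_isPullback hg hX.2.2
  let P : Additive (Pic X) →+ Additive (Pic C) := MonoidHom.toAdditive (pull g)
  have hP : Function.Surjective P := fun c => by
    obtain ⟨x, hx⟩ := hpull c.toMul
    exact ⟨Additive.ofMul x, congrArg Additive.ofMul hx⟩
  have hker : P.ker ≤ D.ker := by
    intro c hc
    have h1 : pull g c.toMul = 1 := congrArg Additive.toMul hc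
    have h2 : degVec Γ (Additive.ofMul c.toMul) ∈ LinearMap.range (Matrix.mulVecLin
        (Matrix.of fun j i => ArSurf.inter R (Over.mk p) (L i) (Γ j))) := by
      rw [degVec_mem_range_iff Γ L hC hH0 hX hΓ g hg hL]
      exact ⟨1, by rw [h1, map_one], map_zero _⟩
    exact (Submodule.Quotient.mk_eq_zero _).2 h2
  let ψ : Additive (Pic C) →+ CompGrp Γ L :=
    P.liftOfRightInverse (Function.surjInv hP) (Function.rightInverse_surjInv hP) ⟨D, hker⟩
  have hψ : ∀ c : Additive (Pic X), ψ (P c) = D c := fun c =>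
    AddMonoidHom.liftOfRightInverse_comp_apply _ _ _ ⟨D, hker⟩ c
  refine ⟨ψ, fun c => hψ (Additive.ofMul c), ?_, ?_⟩
  · intro γ
    obtain ⟨v, rfl⟩ := Submodule.Quotient.mk_surjective _ γ
    obtain ⟨c, rfl⟩ := hsurj v
    exact ⟨P c, hψ c⟩
  · intro c hc
    obtain ⟨x, rfl⟩ := hpull c
    have h1 : D (Additive.ofMul x) = 0 := (hψ (Additive.ofMul x)).symm.trans hc
    have h2 : degVec Γ (Additive.ofMul x) ∈ LinearMap.range (Matrix.mulVecLin
        (Matrix.of fun j i => ArSurf.inter R (Over.mk p) (L i) (Γ j))) :=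
      (Submodule.Quotient.mk_eq_zero _).1 h1
    rw [degVec_mem_range_iff Γ L hC hH0 hX hΓ g hg hL] at h2
    obtain ⟨c', h3, h4⟩ := h2
    exact ⟨c', h4, h3⟩

end

/-- surjectivity of the degree vector from modules with the coordinate vectors as degrees. -/
theorem degVec_surjective [IsProper p]
    (h : ∀ i : Fin n, ∃ M : X.Modules, PicF.IsInvertible M ∧
      ∀ j : Fin n, ArSurf.inter R (Over.mk p) M (Γ j) = if j = i then 1 else 0) :
    Function.Surjective (degVec Γ (p := p)) := by
  choose M hM hd using h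
  intro v
  refine ⟨∑ i, v i • Additive.ofMul (mk (M i) (hM i)), ?_⟩
  rw [map_sum]
  funext j
  rw [Finset.sum_apply]
  have h1 : ∀ i, degVec Γ (v i • Additive.ofMul (mk (M i) (hM i))) j = v i * if j = i then 1 else 0 := by
    intro i
    rw [map_zsmul, Pi.smul_apply, degVec_mk, hd, smul_eq_mul]
  rw [Finset.sum_congr rfl fun i _ => h1 i]
  simp

end Groth.Agent.Models.K954.ExactComp
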