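import Groth.Agent.Models.K954.GenFib
import Groth.Agent.Models.K954.ExactComp
import Groth.Agent.Models.SpecFib
import Groth.Agent.Sga3C.IrrComp

/-!
# The components of the closed fibre `X_k = X ×_R Spec k`

* `range_ιk`, `homeo`: the closed fibre and the reduced closed fibre are homeomorphic;
* `ncard_components`: the number of irreducible components of dimension one of `X_k`;
* `dim_Xk_le`: `dim X_k ≤ 1`;
* `degVec_eq_zero`: classes on `X` trivial on `X_k` have degree zero on the components.
-/

set_option autoImplicit false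
universe u
open CategoryTheory CategoryTheory.Limits AlgebraicGeometry TopologicalSpace Opposite

namespace Groth.Agent.Models.K954.XkComp

open Groth.Agent.Models.SpecFib Groth.Agent.Grpsch.PicGrp Groth.Agent.Models.H56 Groth.Agent.Models.H56.RedFib
  Groth.Agent.Models.H65

/-- the closed fibre. -/
noncomputable abbrev Xk {R : Type u} [CommRing R] [IsLocalRing R] {X : Scheme.{u}}
    (p : X ⟶ Spec (CommRingCat.of R)) : Scheme.{u} :=
  pullback p (Spec.map (CommRingCat.ofHom (algebraMap R (IsLocalRing.ResidueField R))))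

/-- its structure morphism. -/
noncomputable abbrev fk {R : Type u} [CommRing R] [IsLocalRing R] {X : Scheme.{u}}
    (p : X ⟶ Spec (CommRingCat.of R)) : Xk p ⟶ Spec (CommRingCat.of (IsLocalRing.ResidueField R)) :=
  pullback.snd p (Spec.map (CommRingCat.ofHom (algebraMap R (IsLocalRing.ResidueField R))))

variable {R : Type u} [CommRing R] [IsDomain R] [IsDiscreteValuationRing R] {X : Scheme.{u}}
  (p : X ⟶ Spec (CommRingCat.of R))

theorem range_ιk : Set.range (ιk R X p) = Models.specialFibreSet R (Over.mk p) := by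
  have h5 : Set.range (Spec.map (CommRingCat.ofHom (algebraMap R (IsLocalRing.ResidueField R)))) =
      {IsLocalRing.closedPoint R} := by
    refine Set.eq_singleton_iff_unique_mem.2 ⟨⟨IsLocalRing.closedPoint _, ?_⟩, ?_⟩
    · refine PrimeSpectrum.ext (Ideal.ext fun r => ?_)
      change algebraMap R (IsLocalRing.ResidueField R) r ∈ IsLocalRing.maximalIdeal _ ↔ _
      rw [IsLocalRing.maximalIdeal_eq_bot, Ideal.mem_bot]
      exact IsLocalRing.residue_eq_zero_iff r
    · rintro _ ⟨y, rfl⟩
      have : y = IsLocalRing.closedPoint _ := Subsingleton.elim _ _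
      rw [this]
      refine PrimeSpectrum.ext (Ideal.ext fun r => ?_)
      change algebraMap R (IsLocalRing.ResidueField R) r ∈ IsLocalRing.maximalIdeal _ ↔ _
      rw [IsLocalRing.maximalIdeal_eq_bot, Ideal.mem_bot]
      exact IsLocalRing.residue_eq_zero_iff r
  have h6 := Scheme.Pullback.range_fst p
    (Spec.map (CommRingCat.ofHom (algebraMap R (IsLocalRing.ResidueField R))))
  rw [h5] at h6
  exact h6

theorem isClosedImmersion_ιk : IsClosedImmersion (ιk R X p) := by
  have h1 : IsClosedImmersion (Spec.map (CommRingCat.ofHom (algebraMap R (IsLocalRing.ResidueField R)))) :=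
    IsClosedImmersion.spec_of_surjective _ IsLocalRing.residue_surjective
  infer_instance

/-- The closed fibre and the reduced closed fibre are homeomorphic. -/
noncomputable def homeo : Y p ≃ₜ Xk p :=
  have := isClosedImmersion_ιk p
  ((incl p).isClosedEmbedding.isEmbedding.toHomeomorph.trans
    (Homeomorph.setCongr ((range_incl p).trans (range_ιk p).symm))).trans
    (ιk R X p).isClosedEmbedding.isEmbedding.toHomeomorph.symm

theorem dim_Xk_eq : topologicalKrullDim (Xk p) = topologicalKrullDim (Y p) :=
  (IsHomeomorph.topologicalKrullDim_eq _ (homeo p).isHomeomorph).symm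

variable {p}

theorem dim_Xk_le {n : ℕ} {Γ : Fin n → ArSurf.VertComp R (Over.mk p)}
    (hΓ : Models.IsComponentList R (Over.mk p) Γ) : topologicalKrullDim (Xk p) ≤ 1 := by
  rw [dim_Xk_eq, _root_.K284.TopDim.dim_eq_iSup_irreducibleComponents]
  exact iSup₂_le fun T hT => (CoreGeom.pure_Y p hΓ T hT).le

theorem ncard_components {n : ℕ} {Γ : Fin n → ArSurf.VertComp R (Over.mk p)}
    (hΓ : Models.IsComponentList R (Over.mk p) Γ) :
    {Z ∈ irreducibleComponents (Xk p) | topologicalKrullDim Z = 1}.ncard = n := by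
  let s : Fin n → Set (Xk p) := fun i => homeo p '' (Set.range (comp p (Γ i)))
  have hs : Function.Injective s := fun i j hij =>
    comp_injective p hΓ (Set.image_injective.2 (homeo p).injective hij)
  have h1 : {Z ∈ irreducibleComponents (Xk p) | topologicalKrullDim Z = 1} = Set.range s := by
    ext Z
    constructor
    · rintro ⟨hZ, -⟩
      have h2 := Sga3C.IrrComp.homeomorph_image_mem_irreducibleComponents (homeo p).symm hZ
      rw [← range_comp_eq p hΓ] at h2
      obtain ⟨i, hi⟩ := h2
      refine ⟨i, ?_⟩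
      change homeo p '' (Set.range (comp p (Γ i))) = Z
      have hi' : Set.range (comp p (Γ i)) = (homeo p).symm '' Z := hi
      rw [hi', Homeomorph.image_symm, (homeo p).image_preimage]
    · rintro ⟨i, rfl⟩
      have h3 : Set.range (comp p (Γ i)) ∈ irreducibleComponents (Y p : Type u) := by
        rw [← range_comp_eq p hΓ]
        exact ⟨i, rfl⟩
      refine ⟨Sga3C.IrrComp.homeomorph_image_mem_irreducibleComponents (homeo p) h3, ?_⟩
      have h4 := CoreGeom.pure_Y p hΓ _ h3
      change topologicalKrullDim (homeo p '' (Set.range (comp p (Γ i)))) = 1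
      rw [← h4]
      exact (IsHomeomorph.topologicalKrullDim_eq _
        ((homeo p).image (Set.range (comp p (Γ i)))).isHomeomorph).symm
  rw [h1, ← Set.image_univ, Set.ncard_image_of_injective _ hs, Set.ncard_univ, Nat.card_fin]

theorem deg_eq_zero_of_pull [IsProper (Over.mk p).hom] (Γ : ArSurf.VertComp R (Over.mk p)) (c : Pic X)
    (h : pull Γ.ι c = 1) : PicDeg.deg (X := Over.mk p) Γ c = 0 := by
  obtain ⟨L, hL, rfl⟩ := exists_mk c
  have h1 : pull Γ.ι (mk L hL) = pull Γ.ι (1 : Pic X) := by rw [h, map_one]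
  rw [← PicDeg.deg_one (X := Over.mk p) Γ]
  obtain ⟨O, hO, h2⟩ := exists_mk (1 : Pic X)
  rw [h2, pull_mk, pull_mk, mk_eq_iff] at h1
  obtain ⟨e⟩ := h1
  rw [show (1 : Pic (Over.mk p).left) = mk O hO from h2]
  change ArSurf.inter R (Over.mk p) L Γ = ArSurf.inter R (Over.mk p) O Γ
  have := PicDeg.isProper_curve Γ
  rw [PicDeg.inter_eq, PicDeg.inter_eq]
  exact Dix.InterNum.deg_congr _ _ Γ.dim_eq e

theorem degVec_eq_zero [IsProper p] {n : ℕ} (Γ : Fin n → ArSurf.VertComp R (Over.mk p)) (c : Pic X)
    (h : pull (ιk R X p) c = 1) : ExactComp.degVec Γ (Additive.ofMul c) = 0 := by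
  have hp : IsProper (Over.mk p).hom := ‹IsProper p›
  funext j
  have hw : (Γ j).ι ≫ p = (Γ j).curve.hom ≫
      Spec.map (CommRingCat.ofHom (algebraMap R (IsLocalRing.ResidueField R))) := (Γ j).w
  have h1 : pullback.lift (Γ j).ι (Γ j).curve.hom hw ≫ ιk R X p = (Γ j).ι := pullback.lift_fst _ _ _
  refine deg_eq_zero_of_pull (Γ j) c ?_
  rw [← h1, pull_comp, h, map_one]

end Groth.Agent.Models.K954.XkComp
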