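import Groth.Agent.Models.K954.PicClosed
import Groth.Agent.Models.K954.PicRoot
import Groth.Agent.Models.K954.XkComp

/-!
# Divisibility of the classes of degree zero on a regular proper model

`exists_root`: `R` a complete discrete valuation ring with algebraically closed residue field, `X` a regular proper model
such that the degree map `Pic(X) → ℤ^n` is onto, `q` prime to the residue characteristic; then the classes of degree
zero on all the components are `q`-divisible.
`exists_torsion`: lifting of `q`-torsion classes from the closed fibre.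
-/

set_option autoImplicit false
universe u
open CategoryTheory CategoryTheory.Limits AlgebraicGeometry TopologicalSpace Opposite

namespace Groth.Agent.Models.K954.DivZero

open Groth.Agent.Models.SpecFib Groth.Agent.Grpsch.PicGrp XkComp ExactComp

variable {R : Type u} [CommRing R] [IsDomain R] [IsDiscreteValuationRing R]
  [IsAdicComplete (IsLocalRing.maximalIdeal R) R] {C X : Scheme.{u}} {p : X ⟶ Spec (CommRingCat.of R)}
  {f : C ⟶ Spec (CommRingCat.of (FractionRing R))}

theorem pull_surjective (hC : Curve.IsSmoothProperCurve (FractionRing R) C f)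
    (hX : Models.IsRegularProperModel R X p C f) : Function.Surjective (pull (ιk R X p)) := by
  have hprop : IsProper p := hX.2.1
  have hhens : HenselianLocalRing R := PicClosed.henselianLocalRing R
  exact PicClosed.pull_surjective p (H68.FibGood.dim_fiber_le_of_isModel hX.1 hC.2.2.2.le)

theorem exists_root (hk : IsAlgClosed (IsLocalRing.ResidueField R))
    (hC : Curve.IsSmoothProperCurve (FractionRing R) C f) (hH0 : IsIso f.appTop)
    (hX : Models.IsRegularProperModel R X p C f) {n : ℕ} {Γ : Fin n → ArSurf.VertComp R (Over.mk p)}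
    (hΓ : Models.IsComponentList R (Over.mk p) Γ) [IsProper p]
    (hsurj : Function.Surjective (degVec Γ (p := p))) {q : ℕ} (hq : 1 ≤ q)
    (hqk : (q : IsLocalRing.ResidueField R) ≠ 0) (c : Pic X) (hc : degVec Γ (Additive.ofMul c) = 0) :
    ∃ d : Pic X, degVec Γ (Additive.ofMul d) = 0 ∧ d ^ q = c := by
  let P : Additive (Pic X) →+ Additive (Pic (Xk p)) := MonoidHom.toAdditive (pull (ιk R X p))
  have hP : Function.Surjective P := fun x => by
    obtain ⟨y, hy⟩ := pull_surjective hC hX x.toMul
    exact ⟨Additive.ofMul y, congrArg Additive.ofMul hy⟩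
  have hker : P.ker ≤ (degVec Γ (p := p)).ker := by
    intro x hx
    exact degVec_eq_zero Γ x.toMul (congrArg Additive.toMul hx)
  let D : Additive (Pic (Xk p)) →+ (Fin n → ℤ) :=
    P.liftOfRightInverse (Function.surjInv hP) (Function.rightInverse_surjInv hP) ⟨degVec Γ, hker⟩
  have hD : ∀ x, D (P x) = degVec Γ x := fun x =>
    P.liftOfRightInverse_comp_apply (Function.surjInv hP) (Function.rightInverse_surjInv hP) ⟨degVec Γ, hker⟩ x
  have hDs : Function.Surjective D := fun v => by
    obtain ⟨x, hx⟩ := hsurj v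
    exact ⟨P x, (hD x).trans hx⟩
  obtain ⟨d', -, hd'⟩ := PicRoot.exists_root (IsLocalRing.ResidueField R) (fk p) (dim_Xk_le hΓ)
    (ncard_components hΓ) D hDs hq hqk (P (Additive.ofMul c)) ((hD _).trans hc)
  obtain ⟨d₁, rfl⟩ := hP d'
  have h1 : pull (ιk R X p) (c * (d₁.toMul ^ q)⁻¹) = 1 := by
    have h2 : pull (ιk R X p) (d₁.toMul) ^ q = pull (ιk R X p) c := congrArg Additive.toMul hd'
    rw [map_mul, map_inv, map_pow, h2, mul_inv_cancel]
  obtain ⟨κ, ⟨-, hκ⟩, -⟩ := PicClosed.existsUnique_root hC hH0 hX hq hqk _ h1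
  have h3 : (d₁.toMul * κ) ^ q = c := by
    rw [mul_pow, hκ, mul_comm c, mul_inv_cancel_left]
  refine ⟨d₁.toMul * κ, ?_, h3⟩
  have h4 : q • degVec Γ (Additive.ofMul (d₁.toMul * κ)) = 0 := by
    rw [← map_nsmul, ← ofMul_pow, h3, hc]
  funext j
  have h5 := congrFun h4 j
  rw [Pi.smul_apply, nsmul_eq_mul, Pi.zero_apply, mul_eq_zero] at h5
  rcases h5 with h5 | h5
  · exfalso
    have : q = 0 := by exact_mod_cast h5
    omega
  · exact h5

/-- torsion classes on the closed fibre lift uniquely to torsion classes. -/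
theorem existsUnique_torsion (hC : Curve.IsSmoothProperCurve (FractionRing R) C f) (hH0 : IsIso f.appTop)
    (hX : Models.IsRegularProperModel R X p C f) {q : ℕ} (hq : 1 ≤ q)
    (hqk : (q : IsLocalRing.ResidueField R) ≠ 0) (d : Pic (Xk p)) (hd : d ^ q = 1) :
    ∃! c : Pic X, c ^ q = 1 ∧ pull (ιk R X p) c = d := by
  obtain ⟨c₀, rfl⟩ := pull_surjective hC hX d
  have h1 : pull (ιk R X p) (c₀ ^ q) = 1 := by rw [map_pow, hd]
  obtain ⟨κ, ⟨hκ, hκq⟩, -⟩ := PicClosed.existsUnique_root hC hH0 hX hq hqk _ h1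
  refine ⟨c₀ * κ⁻¹, ⟨?_, ?_⟩, ?_⟩
  · rw [mul_pow, inv_pow, hκq, mul_inv_cancel]
  · rw [map_mul, map_inv, hκ, inv_one, mul_one]
  · rintro c ⟨h2, h3⟩
    rw [← mul_inv_eq_one]
    refine PicClosed.eq_one_of_torsion hC hH0 hX hq hqk _ ?_ ?_
    · rw [map_mul, map_inv, map_mul, map_inv, hκ, h3, inv_one, mul_one, mul_inv_cancel]
    · rw [mul_pow, inv_pow, mul_pow, inv_pow, h2, hκq, mul_inv_cancel, inv_one, mul_one]

end Groth.Agent.Models.K954.DivZero
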