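import Groth.Agent.Models.K954.OneBranch
import Groth.Agent.Curves.K330.EtPt
import Groth.Agent.UnramA.NormalUnibranch
import Groth.Agent.S1454

/-!
# Going down at the points where the special fibre has one branch

Let `g : W ⟶ Y` be a morphism of integral schemes over a discrete valuation ring, `Y` a normal nodal family. At a regular
point `e` of dimension two of the special fibre of `W` where the uniformizer is a unit times a power of a parameter, and
through which passes a point of the special fibre with image different from `g e`, the image `g e` is a smooth point.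
-/

set_option autoImplicit false
universe u
open CategoryTheory CategoryTheory.Limits AlgebraicGeometry IsLocalRing

namespace Groth.Agent.K954.GoodPt

open K111.NCAlg OneBranch

theorem specMap_stalkHom {R : Type u} [CommRing R] {X : Scheme.{u}}
    (f : X ⟶ Spec (CommRingCat.of R)) (x : X) :
    Spec.map (CommRingCat.ofHom (DualGr.stalkHom f x)) = X.fromSpecStalk x ≫ f := by
  have h1 : X.toSpecΓ ≫ Spec.map f.appTop ≫ Spec.map (Scheme.ΓSpecIso (CommRingCat.of R)).inv =
      f := by
    rw [← Scheme.toSpecΓ_naturality_assoc, ← SpecMap_ΓSpecIso_hom, ← Spec.map_comp,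
      Iso.inv_hom_id, Spec.map_id, Category.comp_id]
  conv_rhs => rw [← h1]
  rw [← Category.assoc, Scheme.fromSpecStalk_toSpecΓ, ← Spec.map_comp, ← Spec.map_comp]
  rfl

theorem fromSpecStalk_asIdeal {R : Type u} [CommRing R] {X : Scheme.{u}}
    (f : X ⟶ Spec (CommRingCat.of R)) (x : X) (q : PrimeSpectrum (X.presheaf.stalk x)) :
    (f (X.fromSpecStalk x q)).asIdeal = q.asIdeal.comap (DualGr.stalkHom f x) := by
  have h2 : f (X.fromSpecStalk x q) = (X.fromSpecStalk x ≫ f) q := rfl
  rw [h2, ← specMap_stalkHom]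
  rfl

section

variable {R : Type u} [CommRing R] [IsDomain R] [IsDiscreteValuationRing R] {ϖ : R} (hϖ : Irreducible ϖ)
  {W Y : Scheme.{u}} (p : W ⟶ Spec (CommRingCat.of R)) (q : Y ⟶ Spec (CommRingCat.of R)) (g : W ⟶ Y)
  (hg : g ≫ q = p) (e : W)
  (hreg : IsRegularLocalRing (W.presheaf.stalk e)) (hdim : ringKrullDim (W.presheaf.stalk e) = 2)
  (hmem : DualGr.stalkHom p e ϖ ∈ maximalIdeal (W.presheaf.stalk e)) (hone : NC1 (DualGr.stalkHom p e ϖ))

include hϖ hreg hdim hmem hone in
/-- The points of the special fibre specializing to `e`, other than `e`, agree. -/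
theorem eq_of_specializes {y ζ : W} (hy : y ⤳ e) (hζ : ζ ⤳ e) (hpy : p y = (closedPoint R : PrimeSpectrum R))
    (hpζ : p ζ = (closedPoint R : PrimeSpectrum R)) (hye : y ≠ e) (hζe : ζ ≠ e) : y = ζ := by
  obtain ⟨u, v, c, a, hm, hc, he⟩ := hone
  have ha : a ≠ 0 := by
    rintro rfl
    rw [he, pow_zero, mul_one] at hmem
    exact (mem_maximalIdeal _).1 hmem hc
  have key : ∀ z : W, z ⤳ e → p z = (closedPoint R : PrimeSpectrum R) → z ≠ e →
      ∃ P : PrimeSpectrum (W.presheaf.stalk e), W.fromSpecStalk e P = z ∧ P.asIdeal = Ideal.span {u} := by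
    intro z hz hpz hze
    have h1 : z ∈ Set.range (W.fromSpecStalk e) := by rw [Scheme.range_fromSpecStalk]; exact hz
    obtain ⟨P, hP⟩ := h1
    refine ⟨P, hP, eq_span hdim hm P.isPrime ?_ ?_⟩
    · have h2 : DualGr.stalkHom p e ϖ ∈ P.asIdeal := by
        have h3 := fromSpecStalk_asIdeal p e P
        have h4 : p (W.fromSpecStalk e P) = (closedPoint R : PrimeSpectrum R) :=
          (congrArg (fun t : W => p t) hP).trans hpz
        rw [h4] at h3
        have h5 : ϖ ∈ (closedPoint R : PrimeSpectrum R).asIdeal := (mem_maximalIdeal _).2 hϖ.not_isUnit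
        rw [h3] at h5
        exact h5
      rw [he] at h2
      rcases P.isPrime.mem_or_mem h2 with h3 | h3
      · exact absurd (Ideal.eq_top_of_isUnit_mem _ h3 hc) P.isPrime.ne_top
      · exact P.isPrime.mem_of_pow_mem a h3
    · intro h2
      apply hze
      rw [← hP]
      have h3 : P = closedPoint (W.presheaf.stalk e) := PrimeSpectrum.ext h2
      rw [h3]
      exact W.fromSpecStalk_closedPoint
  obtain ⟨P, hP, hP'⟩ := key y hy hpy hye
  obtain ⟨Q, hQ, hQ'⟩ := key ζ hζ hpζ hζe
  rw [← hP, ← hQ, show P = Q from PrimeSpectrum.ext (hP'.trans hQ'.symm)]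

include hϖ hg hreg hdim hmem hone in
theorem quasiFiniteAt [IsLocallyNoetherian W] [LocallyOfFiniteType p] (hec : IsClosed ({e} : Set W))
    (he : p e = (closedPoint R : PrimeSpectrum R)) {ζ : W} (hζ : ζ ⤳ e)
    (hpζ : p ζ = (closedPoint R : PrimeSpectrum R)) (hne : g ζ ≠ g e) [LocallyOfFiniteType g] :
    g.QuasiFiniteAt e := by
  rw [Scheme.Hom.quasiFiniteAt_iff_isOpen_singleton_asFiber]
  have hft : LocallyOfFiniteType (g.fiberToSpecResidueField (g e)) :=
    MorphismProperty.pullback_snd (P := @LocallyOfFiniteType) _ _ inferInstance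
  have hN : IsLocallyNoetherian (g.fiber (g e)) :=
    LocallyOfFiniteType.isLocallyNoetherian (g.fiberToSpecResidueField (g e))
  have hζe : ζ ≠ e := fun h => hne (by rw [h])
  apply K330.EtPt.isOpen_singleton
  · have h1 := hec.preimage (g.fiberι (g e)).continuous
    have h2 : (g.fiberι (g e)) ⁻¹' {e} = {g.asFiber e} := by
      ext z
      simp only [Set.mem_preimage, Set.mem_singleton_iff]
      constructor
      · intro h
        apply (g.fiberι (g e)).isEmbedding.injective
        rw [h, g.fiberι_asFiber]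
      · rintro rfl
        exact g.fiberι_asFiber e
    rwa [h2] at h1
  · rintro x z hzx hx
    rw [Set.mem_singleton_iff] at hx ⊢
    subst hx
    apply (g.fiberι (g e)).isEmbedding.injective
    rw [g.fiberι_asFiber]
    have h1 : g.fiberι (g e) z ⤳ e := by
      have := hzx.map (g.fiberι (g e)).continuous
      rwa [g.fiberι_asFiber] at this
    have h2 : g (g.fiberι (g e) z) = g e := by
      have : g.fiberι (g e) z ∈ Set.range (g.fiberι (g e)) := ⟨z, rfl⟩
      rw [g.range_fiberι] at this
      exact this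
    by_contra hze
    have h3 : p (g.fiberι (g e) z) = (closedPoint R : PrimeSpectrum R) := by
      rw [← he, ← hg, Scheme.Hom.comp_apply, Scheme.Hom.comp_apply, h2]
    have h4 := eq_of_specializes hϖ p e hreg hdim hmem hone h1 hζ h3 hpζ hze hζe
    rw [h4] at h2
    exact hne h2

include hϖ hg hreg hdim hmem hone in
/-- **Going down.** -/
theorem mem_smoothLocus [IsLocallyNoetherian W] [LocallyOfFiniteType p] [IsIntegral W] [IsIntegral Y]
    (hq : Curv2.IsNodalFamily q) [LocallyOfFiniteType q] (hY : Pi1.IsNormalScheme Y)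
    (hgen : g (genericPoint W) = genericPoint Y) (hec : IsClosed ({e} : Set W))
    (he : p e = (closedPoint R : PrimeSpectrum R)) {ζ : W} (hζ : ζ ⤳ e)
    (hpζ : p ζ = (closedPoint R : PrimeSpectrum R)) (hne : g ζ ≠ g e) : g e ∈ q.smoothLocus := by
  have hq2 : LocallyOfFinitePresentation q := hq.2.1
  have hYN : IsLocallyNoetherian Y := LocallyOfFiniteType.isLocallyNoetherian q
  have hgp : LocallyOfFiniteType (g ≫ q) := by rw [hg]; infer_instance
  have hgl : LocallyOfFiniteType g := locallyOfFiniteType_of_comp g q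
  have hqf := quasiFiniteAt hϖ p q g hg e hreg hdim hmem hone hec he hζ hpζ hne
  let N : W.Opens := g.quasiFiniteLocus
  have heN : e ∈ N := hqf
  have hlqf : LocallyQuasiFinite (N.ι ≫ g) := by
    rw [← Scheme.Hom.quasiFiniteLocus_eq_top_iff, Scheme.Hom.quasiFiniteLocus_comp]
    exact N.ι_preimage_self
  have hNe : Nonempty (N : Scheme.{u}) := ⟨⟨e, heN⟩⟩
  have hNint : IsIntegral (N : Scheme.{u}) := isIntegral_of_isOpenImmersion N.ι
  have hNN : IsLocallyNoetherian (N : Scheme.{u}) := isLocallyNoetherian_of_isOpenImmersion N.ι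
  have hopen : UniversallyOpen (N.ι ≫ g) := by
    refine Groth.Agent.S1454.result (N.ι ≫ g) (fun y => ?_) ?_
    · obtain ⟨h1, h2⟩ := hY y
      exact Groth.Agent.UnramA.NormalUnibranch.isGeomUnibranch_of_isIntegrallyClosed _
    · intro Z hZ x hx
      have h1 : Z = Set.univ := by
        have := irreducibleComponents_eq_singleton (X := (N : Scheme.{u}))
        rw [this] at hZ
        exact hZ
      subst h1
      refine ⟨Set.univ, ?_, ?_⟩
      · rw [irreducibleComponents_eq_singleton]; rfl
      · have h2 : x = genericPoint (N : Scheme.{u}) := hx.eq (genericPoint_spec _)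
        subst h2
        rw [Scheme.Hom.comp_apply, genericPoint_eq_of_isOpenImmersion, hgen]
        exact genericPoint_spec Y
  have hx1 := N.stalkIso ⟨e, heN⟩
  have hst : DualGr.stalkHom (N.ι ≫ p) ⟨e, heN⟩ ϖ = (N.ι.stalkMap ⟨e, heN⟩).hom (DualGr.stalkHom p e ϖ) :=
    K111.NCStep.stalkHom_comp' p N.ι ⟨e, heN⟩ ϖ
  let φ : W.presheaf.stalk e ≃+* (N : Scheme.{u}).presheaf.stalk ⟨e, heN⟩ :=
    (asIso (N.ι.stalkMap ⟨e, heN⟩)).commRingCatIsoToRingEquiv
  have := OneBranch.mem_smoothLocus hϖ (N.ι ≫ p) q hq (N.ι ≫ g) (by rw [Category.assoc, hg]) ⟨e, heN⟩ he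
    (IsRegularLocalRing.of_ringEquiv φ) ((ringKrullDim_eq_of_ringEquiv φ).symm.trans hdim)
    (by
      rw [hst]
      change φ _ ∈ _
      rw [mem_maximalIdeal, mem_nonunits_iff, MulEquiv.isUnit_map φ]
      exact (mem_maximalIdeal _).1 hmem)
    (by
      rw [hst]
      exact hone.map_equiv φ)
  exact this

end

end Groth.Agent.K954.GoodPt
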