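import Groth.Agent.Models.K382.NodeOpen
import Groth.Agent.CurvesC.BlowUpRegAlg
import Groth.Agent.VarietyA.SmoothReg
import Groth.Agent.Models.K111.NCStep
import Groth.Agent.Ega4dB.SmoothReg
import Groth.Agent.S0120

/-!
# Points where the special fibre has one branch do not go to nodes under universally open morphisms

* `prime_rad`, `eq_span`: algebra of `ϖ = unit * x ^ a` in a regular local ring of dimension two with parameters `x, y`.
* `core'`: the version of `K382.NodeCore.core` for the radical of the ideal of the special fibre.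
-/

set_option autoImplicit false
universe u
open CategoryTheory CategoryTheory.Limits AlgebraicGeometry IsLocalRing

namespace Groth.Agent.K954.OneBranch

open Groth.Agent.Models.NodeRing Groth.Agent.CurvesC.BlowUpRegAlg

section Alg

variable {A : Type u} [CommRing A] [IsRegularLocalRing A] (hA : ringKrullDim A = 2) {x y : A}
  (hm : maximalIdeal A = Ideal.span {x, y})

include hA hm in
theorem isPrime_span : (Ideal.span {x}).IsPrime := isPrime_span_left hA hm.symm

include hA hm in
/-- The only nonmaximal prime containing a parameter is the one it generates. -/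
theorem eq_span {P : Ideal A} (hP : P.IsPrime) (hx : x ∈ P) (hne : P ≠ maximalIdeal A) : P = Ideal.span {x} := by
  obtain ⟨h1, h2⟩ := isRegular_quotient_left hA hm.symm
  have hd : IsDomain (A ⧸ Ideal.span {x}) := CalgA.RegBasic.isDomain _
  have hdvr : IsDiscreteValuationRing (A ⧸ Ideal.span {x}) :=
    VarietyA.SmoothReg.isDiscreteValuationRing_of_isRegularLocalRing _ h2
  have hker : RingHom.ker (Ideal.Quotient.mk (Ideal.span {x})) ≤ P := by
    rw [Ideal.mk_ker, Ideal.span_singleton_le_iff_mem]; exact hx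
  have hQ : (P.map (Ideal.Quotient.mk (Ideal.span {x}))).IsPrime :=
    Ideal.map_isPrime_of_surjective Ideal.Quotient.mk_surjective hker
  by_cases h0 : P.map (Ideal.Quotient.mk (Ideal.span {x})) = ⊥
  · apply le_antisymm
    · rw [Ideal.map_eq_bot_iff_le_ker, Ideal.mk_ker] at h0
      exact h0
    · rw [Ideal.span_singleton_le_iff_mem]; exact hx
  · exfalso
    have h3 : (P.map (Ideal.Quotient.mk (Ideal.span {x}))).IsMaximal := hQ.isMaximal h0
    have h4 := Ideal.comap_isMaximal_of_surjective (Ideal.Quotient.mk (Ideal.span {x}))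
      Ideal.Quotient.mk_surjective (K := P.map (Ideal.Quotient.mk (Ideal.span {x})))
    rw [Ideal.comap_map_of_surjective' _ Ideal.Quotient.mk_surjective, sup_eq_left.2 hker] at h4
    exact hne (IsLocalRing.eq_maximalIdeal h4)

theorem radical_eq {A : Type u} [CommRing A] {x c : A} {a : ℕ} (hx : (Ideal.span {x}).IsPrime) (hc : IsUnit c)
    (ha : a ≠ 0) : (Ideal.span {c * x ^ a}).radical = Ideal.span {x} := by
  rw [Ideal.span_singleton_mul_left_unit hc, ← Ideal.span_singleton_pow, Ideal.radical_pow _ ha]
  exact hx.radical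

end Alg

variable {D : Type u} [CommRing D] [IsDomain D] [IsDiscreteValuationRing D]

theorem exists_nbhd' {B : Type u} [CommRing B] {X : Scheme.{u}} (h : X ⟶ Spec (CommRingCat.of B)) (x : X)
    (b t : B) (hb : DualGr.stalkHom h x b ∈ (Ideal.span {DualGr.stalkHom h x t}).radical) :
    ∃ N : X.Opens, x ∈ N ∧ ∀ n ∈ N, t ∈ (h n).asIdeal → b ∈ (h n).asIdeal := by
  obtain ⟨n, hn⟩ := hb
  rw [← map_pow] at hn
  obtain ⟨N, hxN, hN⟩ := K382.NodeCore.exists_nbhd h x (b ^ n) t hn
  exact ⟨N, hxN, fun m hm ht => (h m).isPrime.mem_of_pow_mem n (hN m hm ht)⟩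

theorem core' (t : D) (ht : Irreducible t) (a : D) {X : Scheme.{u}} (h : X ⟶ Spec (CommRingCat.of (W D a)))
    (hopen : IsOpenMap h) (x : X) (hu : uu D a ∈ (h x).asIdeal) (hv : vv D a ∈ (h x).asIdeal)
    (htx : algebraMap D (W D a) t ∈ (h x).asIdeal)
    (hprime : (Ideal.span {DualGr.stalkHom h x (algebraMap D _ t)}).radical.IsPrime) : False := by
  have hmax : maximalIdeal D = Ideal.span {t} := ht.maximalIdeal_eq
  have hta : t ∣ a := by
    rw [← Ideal.mem_span_singleton, ← hmax]
    have hpr : ((h x).asIdeal.comap (algebraMap D (W D a))).IsPrime := (h x).isPrime.comap _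
    refine (IsLocalRing.le_maximalIdeal hpr.ne_top) ?_
    change algebraMap D (W D a) a ∈ (h x).asIdeal
    rw [← uu_mul_vv]
    exact Ideal.mul_mem_left _ _ hv
  have hra : IsLocalRing.residue D a = 0 := by
    rw [IsLocalRing.residue_eq_zero_iff, hmax, Ideal.mem_span_singleton]; exact hta
  have hrt : IsLocalRing.residue D t = 0 := by
    rw [IsLocalRing.residue_eq_zero_iff, hmax]; exact Ideal.mem_span_singleton_self t
  have hprod : DualGr.stalkHom h x (uu D a) * DualGr.stalkHom h x (vv D a) ∈
      (Ideal.span {DualGr.stalkHom h x (algebraMap D _ t)}).radical := by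
    apply Ideal.le_radical
    rw [← map_mul, uu_mul_vv]
    obtain ⟨c, hc⟩ := hta
    have h0 : algebraMap D (W D a) a = algebraMap D (W D a) t * algebraMap D (W D a) c := by
      rw [← map_mul, ← hc]
    rw [h0, map_mul]
    exact Ideal.mul_mem_right _ _ (Ideal.mem_span_singleton_self _)
  -- the two primes
  have key : ∀ (ψ : W D a →+* Polynomial (ResidueField D)) (b : W D a),
      (∀ d, ψ (algebraMap D _ d) = Polynomial.C (residue D d)) →
      Polynomial.eval 0 (ψ (uu D a)) = 0 → Polynomial.eval 0 (ψ (vv D a)) = 0 → ψ b ≠ 0 →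
      DualGr.stalkHom h x b ∈ (Ideal.span {DualGr.stalkHom h x (algebraMap D _ t)}).radical → False := by
    intro ψ b hψ h1 h2 h3 h4
    obtain ⟨N, hxN, hN⟩ := exists_nbhd' h x b (algebraMap D _ t) h4
    let z : Spec (CommRingCat.of (W D a)) := ⟨RingHom.ker ψ, RingHom.ker_isPrime ψ⟩
    have hz : z ∈ h '' (N : Set X) := by
      have hspec : z ⤳ h x := by
        refine (PrimeSpectrum.le_iff_specializes (R := W D a) _ _).1 ?_
        change RingHom.ker ψ ≤ (h x).asIdeal
        have hp1 := (h x).isPrime
        have hp2 : (RingHom.ker ((Polynomial.evalRingHom (0 : ResidueField D)).comp ψ)).IsPrime :=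
          RingHom.ker_isPrime _
        rw [eq_span_of_mem D t ht (h x).asIdeal hu hv htx,
          ← eq_span_of_mem D t ht (RingHom.ker ((Polynomial.evalRingHom (0 : ResidueField D)).comp ψ))]
        · intro w hw
          rw [RingHom.mem_ker] at hw ⊢
          rw [RingHom.comp_apply, hw, map_zero]
        · rw [RingHom.mem_ker, RingHom.comp_apply]; exact h1
        · rw [RingHom.mem_ker, RingHom.comp_apply]; exact h2
        · rw [RingHom.mem_ker, RingHom.comp_apply, hψ, hrt]; simp
      exact hspec.mem_open (hopen _ N.isOpen) ⟨x, hxN, rfl⟩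
    obtain ⟨n, hn, hnz⟩ := hz
    have h5 := hN n hn (by
      rw [hnz]
      change algebraMap D _ t ∈ RingHom.ker ψ
      rw [RingHom.mem_ker, hψ, hrt, map_zero])
    rw [hnz] at h5
    exact h3 h5
  rcases hprime.mem_or_mem hprod with h1 | h1
  · refine key (lift (Polynomial.C.comp (residue D)) Polynomial.X 0 (by
      rw [RingHom.comp_apply, hra, map_zero, mul_zero])) (uu D a) ?_ ?_ ?_ ?_ h1
    · intro d; rw [lift_algebraMap]; rfl
    · rw [lift_uu]; simp
    · rw [lift_vv]; simp
    · rw [lift_uu]; exact Polynomial.X_ne_zero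
  · refine key (lift (Polynomial.C.comp (residue D)) 0 Polynomial.X (by
      rw [RingHom.comp_apply, hra, map_zero, zero_mul])) (vv D a) ?_ ?_ ?_ ?_ h1
    · intro d; rw [lift_algebraMap]; rfl
    · rw [lift_uu]; simp
    · rw [lift_vv]; simp
    · rw [lift_vv]; exact Polynomial.X_ne_zero

theorem map_max {X Y : Scheme.{u}} (f : X ⟶ Y) [Etale f] (x : X) :
    (maximalIdeal (Y.presheaf.stalk (f x))).map (f.stalkMap x).hom = maximalIdeal (X.presheaf.stalk x) := by
  have h1 : (f.stalkMap x).hom.EssFiniteType := LocallyOfFiniteType.stalkMap f x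
  have h2 : (f.stalkMap x).hom.FormallyUnramified := FormallyUnramified.stalkMap f x
  algebraize [(f.stalkMap x).hom]
  have : IsLocalHom (algebraMap (Y.presheaf.stalk (f x)) (X.presheaf.stalk x)) :=
    inferInstanceAs (IsLocalHom (f.stalkMap x).hom)
  exact Algebra.FormallyUnramified.map_maximalIdeal

open K111.NCAlg in
/-- The radical of the ideal of `ϖ` remains prime after étale base change. -/
theorem radical_isPrime {R : Type u} [CommRing R] {ϖ : R} {X P : Scheme.{u}} (p : X ⟶ Spec (CommRingCat.of R))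
    (f : P ⟶ X) [Etale f] [IsLocallyNoetherian X] (x : P) (y : X) (hxy : f x = y)
    (hreg : IsRegularLocalRing (X.presheaf.stalk y))
    (hdim : ringKrullDim (X.presheaf.stalk y) = 2)
    (hmem : DualGr.stalkHom p y ϖ ∈ maximalIdeal (X.presheaf.stalk y))
    (hone : NC1 (DualGr.stalkHom p y ϖ)) : (Ideal.span {DualGr.stalkHom (f ≫ p) x ϖ}).radical.IsPrime := by
  subst hxy
  obtain ⟨u, v, c, a, hm, hc, he⟩ := hone
  have hreg' : IsRegularLocalRing (P.presheaf.stalk x) := Groth.Agent.Ega4dB.SmoothReg.isRegularLocalRing_stalk_of_smooth f x hreg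
  have hdim' : ringKrullDim (P.presheaf.stalk x) = 2 := (Groth.Agent.S0120.result f x).trans hdim
  have hm' : maximalIdeal (P.presheaf.stalk x) = Ideal.span {(f.stalkMap x).hom u, (f.stalkMap x).hom v} := by
    rw [← map_max f x, hm, Ideal.map_span, Set.image_pair]
  have ha : a ≠ 0 := by
    rintro rfl
    rw [he, pow_zero, mul_one] at hmem
    exact (mem_maximalIdeal _).1 hmem hc
  rw [K111.NCStep.stalkHom_comp', he, map_mul, map_pow, radical_eq (isPrime_span hdim' hm') (hc.map _) ha]
  exact isPrime_span hdim' hm'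

open Groth.Agent.K382.NodeOpen K111.NCAlg in
/-- Let `φ : X ⟶ Y` be a universally open morphism over a discrete valuation ring with `Y` a nodal family, and `x` a
regular point of dimension two of the special fibre of `X` where the uniformizer is a unit times a power of a parameter.
Then `φ x` is a smooth point of `Y`. -/
theorem mem_smoothLocus {R : Type u} [CommRing R] [IsDomain R] [IsDiscreteValuationRing R] {ϖ : R}
    (hϖ : Irreducible ϖ) {X Y : Scheme.{u}} (p : X ⟶ Spec (CommRingCat.of R))
    (q : Y ⟶ Spec (CommRingCat.of R)) (hq : Curv2.IsNodalFamily q) [LocallyOfFinitePresentation q]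
    [IsLocallyNoetherian X] (φ : X ⟶ Y) (hφ : φ ≫ q = p) [UniversallyOpen φ] (x : X)
    (hx : p x = (closedPoint R : PrimeSpectrum R)) (hreg : IsRegularLocalRing (X.presheaf.stalk x))
    (hdim : ringKrullDim (X.presheaf.stalk x) = 2) (hmem : DualGr.stalkHom p x ϖ ∈ maximalIdeal (X.presheaf.stalk x))
    (hone : NC1 (DualGr.stalkHom p x ϖ)) : φ x ∈ q.smoothLocus := by
  by_contra hy
  have hqx : q (φ x) = (closedPoint R : PrimeSpectrum R) := by
    rw [← hx, ← hφ]; rfl
  obtain ⟨C⟩ := K793.Chart.exists_nchart hϖ q hq (φ x) hqx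
  obtain ⟨x', h1, h2⟩ := Scheme.Pullback.exists_preimage_pullback (f := φ) (g := C.e) x C.y C.hy.symm
  let h := pullback.snd φ C.e ≫ C.g
  have hw : pullback.fst φ C.e ≫ p = (h ≫ Spec.map (CommRingCat.ofHom (algebraMap C.D (W C.D C.a)))) ≫
      Spec.map (CommRingCat.ofHom (algebraMap R C.D)) := by
    rw [← hφ, ← Category.assoc, pullback.condition, Category.assoc, ← C.w]
    simp only [Category.assoc, h]
  have hhx : h x' = C.g C.y := by
    change C.g (pullback.snd φ C.e x') = _
    rw [h2]
  have ht : algebraMap C.D (W C.D C.a) C.t ∈ (C.g C.y).asIdeal := by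
    rw [C.t_mem_iff hϖ, C.hy]; exact hqx
  refine core' C.t C.irr C.a h ?_ x' ?_ ?_ ?_ ?_
  · have h3 : UniversallyOpen h := by infer_instance
    exact h.isOpenMap
  · rw [hhx]; exact uu_mem C hy
  · rw [hhx]; exact vv_mem C hy
  · rw [hhx]; exact ht
  · rw [← stalkHom_comp, ← stalkHom_comp, ← hw]
    exact radical_isPrime p (pullback.fst φ C.e) x' x h1 hreg hdim hmem hone

end Groth.Agent.K954.OneBranch
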