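import Groth.Agent.Etalg.NormalDvr
import Mathlib.RingTheory.TensorProduct.Free
import Mathlib.LinearAlgebra.FreeModule.Basic

/-!
# Algebra for the descent of models along a ramified extension

`A` a Noetherian normal domain, `E i` a family of `A`-algebras in which `ϖ` is a nonzerodivisor, whose spectra
together cover `Spec A`: then `a ∈ ϖ A` as soon as `a ∈ ϖ E i` for all `i` (`mem_span_of_map`).  `bijective`: if
`A ⊗ R' → B → E i ⊗ R'` and `A ⊗ R' → B` becomes surjective after inverting `ϖ`, then `A ⊗ R' → B` is bijective.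
-/

set_option autoImplicit false
universe u

open TensorProduct

namespace K954.QuotCore

section Hartogs

variable {A : Type u} [CommRing A] [IsDomain A] [IsNoetherianRing A] [IsIntegrallyClosed A]
  {ι : Type u} {E : ι → Type u} [∀ i, CommRing (E i)] [∀ i, Algebra A (E i)]

theorem mem_span_of_map {ϖ : A} (hϖ : ϖ ≠ 0) (hE : ∀ i (x : E i), algebraMap A (E i) ϖ * x = 0 → x = 0)
    (hs : ∀ P : Ideal A, P.IsPrime → ∃ i, ∃ Q : Ideal (E i), Q.IsPrime ∧ Q.comap (algebraMap A (E i)) = P)
    {a : A} (ha : ∀ i, ∃ e : E i, algebraMap A (E i) a = algebraMap A (E i) ϖ * e) : ∃ a' : A, a = ϖ * a' := by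
  by_contra hcon
  have h1 : a ∉ Ideal.span {ϖ} := by
    intro h
    obtain ⟨c, hc⟩ := Ideal.mem_span_singleton'.1 h
    exact hcon ⟨c, by rw [← hc, mul_comm]⟩
  obtain ⟨P, hP, hϖP, hdvr, hmem⟩ :=
    Groth.Agent.Etalg.NormalDvr.exists_dvr_prime_of_notMem_span A hϖ h1
  obtain ⟨i, Q, hQ, hQP⟩ := hs P hP
  obtain ⟨e, he⟩ := ha i
  -- compare `a` and `ϖ` in the discrete valuation ring `A_P`
  have h2 : ¬ algebraMap A (Localization.AtPrime P) ϖ ∣ algebraMap A (Localization.AtPrime P) a := by
    rintro ⟨x, hx⟩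
    obtain ⟨⟨s, t⟩, rfl⟩ := IsLocalization.mk'_surjective P.primeCompl x
    simp only at hx
    have h3 : algebraMap A (Localization.AtPrime P) (t * a) = algebraMap A (Localization.AtPrime P) (ϖ * s) := by
      rw [map_mul, hx, map_mul, mul_left_comm, IsLocalization.mk'_spec' (Localization.AtPrime P) s t]
    have h4 : (t : A) * a = ϖ * s :=
      IsLocalization.injective (Localization.AtPrime P) (Ideal.primeCompl_le_nonZeroDivisors P) h3
    exact t.2 (hmem t (by rw [h4]; exact Ideal.mul_mem_right _ _ (Ideal.mem_span_singleton_self ϖ)))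
  obtain ⟨x, hx⟩ := (ValuationRing.dvd_total (algebraMap A (Localization.AtPrime P) ϖ)
    (algebraMap A (Localization.AtPrime P) a)).resolve_left h2
  obtain ⟨⟨s, t⟩, rfl⟩ := IsLocalization.mk'_surjective P.primeCompl x
  simp only at hx
  have h3 : (t : A) * ϖ = a * s := by
    apply IsLocalization.injective (Localization.AtPrime P) (Ideal.primeCompl_le_nonZeroDivisors P)
    rw [map_mul, hx, map_mul, mul_left_comm, IsLocalization.mk'_spec' (Localization.AtPrime P) s t]
  have hsP : s ∈ P := by
    by_contra hsP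
    apply h2
    refine ⟨IsLocalization.mk' _ (t : A) (⟨s, hsP⟩ : P.primeCompl), ?_⟩
    have h4 : algebraMap A (Localization.AtPrime P) ((⟨s, hsP⟩ : P.primeCompl) : A) *
        algebraMap A (Localization.AtPrime P) a =
        algebraMap A (Localization.AtPrime P) ((⟨s, hsP⟩ : P.primeCompl) : A) *
          (algebraMap A (Localization.AtPrime P) ϖ *
            IsLocalization.mk' _ (t : A) (⟨s, hsP⟩ : P.primeCompl)) := by
      rw [mul_left_comm, IsLocalization.mk'_spec' (Localization.AtPrime P) (t : A) ⟨s, hsP⟩, ← map_mul, ← map_mul,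
        mul_comm ϖ, h3, mul_comm]
    exact (IsLocalization.map_units (Localization.AtPrime P) (⟨s, hsP⟩ : P.primeCompl)).mul_left_cancel h4
  -- contradiction in `E`
  have h5 : algebraMap A (E i) ϖ * (algebraMap A (E i) t - e * algebraMap A (E i) s) = 0 := by
    have h6 := congrArg (algebraMap A (E i)) h3
    rw [map_mul, map_mul, he] at h6
    linear_combination h6
  have h7 := hE i _ h5
  have h8 : algebraMap A (E i) t ∈ Q := by
    rw [sub_eq_zero.1 h7]
    exact Ideal.mul_mem_left _ _ (by rw [← hQP] at hsP; exact hsP)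
  have h9 : (t : A) ∈ P := hQP.le h8
  exact t.2 h9

end Hartogs

section Free0

variable {R R' : Type u} [CommRing R] [CommRing R'] [Algebra R R']

/-- Divisibility by an element of the base in a free base change is tested on coordinates. -/
theorem exists_mul_of_repr {A : Type u} [CommRing A] [Algebra R A] {κ : Type u} (b : Module.Basis κ R R')
    (ϖ : A) (c : A ⊗[R] R') :
    (∃ d : A ⊗[R] R', c = (ϖ ⊗ₜ[R] (1 : R')) * d) ↔
      ∀ i, ∃ a : A, (Algebra.TensorProduct.basis A b).repr c i = ϖ * a := by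
  have hsm : ∀ d : A ⊗[R] R', (ϖ ⊗ₜ[R] (1 : R')) * d = ϖ • d := by
    intro d
    rw [Algebra.smul_def]
    rfl
  constructor
  · rintro ⟨d, rfl⟩ i
    refine ⟨(Algebra.TensorProduct.basis A b).repr d i, ?_⟩
    rw [hsm, map_smul, Finsupp.smul_apply, smul_eq_mul]
  · intro h
    classical
    choose a ha using h
    let g : κ →₀ A := Finsupp.onFinset ((Algebra.TensorProduct.basis A b).repr c).support
      (fun i => if (Algebra.TensorProduct.basis A b).repr c i = 0 then 0 else a i) (by
        intro i hi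
        rw [Finsupp.mem_support_iff]
        intro h0
        exact hi (if_pos h0))
    refine ⟨(Algebra.TensorProduct.basis A b).repr.symm g, ?_⟩
    rw [hsm, ← map_smul, LinearEquiv.eq_symm_apply]
    ext i
    rw [Finsupp.smul_apply, smul_eq_mul]
    by_cases h0 : (Algebra.TensorProduct.basis A b).repr c i = 0
    · rw [h0]
      change 0 = ϖ * (if (Algebra.TensorProduct.basis A b).repr c i = 0 then 0 else a i)
      rw [if_pos h0, mul_zero]
    · change _ = ϖ * (if (Algebra.TensorProduct.basis A b).repr c i = 0 then 0 else a i)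
      rw [if_neg h0]
      exact ha i

theorem repr_map {A E : Type u} [CommRing A] [Algebra R A] [CommRing E] [Algebra R E] (f : A →ₐ[R] E)
    {κ : Type u} (b : Module.Basis κ R R') (c : A ⊗[R] R') (i : κ) :
    (Algebra.TensorProduct.basis E b).repr (Algebra.TensorProduct.map f (AlgHom.id R R') c) i =
      f ((Algebra.TensorProduct.basis A b).repr c i) := by
  induction c with
  | zero => simp
  | add x y hx hy => simp [hx, hy]
  | tmul a r =>
    rw [Algebra.TensorProduct.map_tmul, Algebra.TensorProduct.basis_repr_tmul,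
      Algebra.TensorProduct.basis_repr_tmul]
    simp

end Free0

section Main

variable {R R' : Type u} [CommRing R] [CommRing R'] [Algebra R R'] [Module.Free R R']
  {A : Type u} [CommRing A] [IsDomain A] [IsNoetherianRing A] [IsIntegrallyClosed A] [Algebra R A]
  {ι : Type u} {E : ι → Type u} [∀ i, CommRing (E i)] [∀ i, Algebra R (E i)] (f : ∀ i, A →ₐ[R] E i)
  {B : Type u} [CommRing B] (α : A ⊗[R] R' →+* B) (β : ∀ i, B →+* E i ⊗[R] R')

theorem bijective (ϖ : R) (hϖ : algebraMap R A ϖ ≠ 0) (hE : ∀ i (x : E i), algebraMap R (E i) ϖ * x = 0 → x = 0)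
    (hs : ∀ P : Ideal A, P.IsPrime → ∃ i, ∃ Q : Ideal (E i), Q.IsPrime ∧ Q.comap (f i) = P)
    (hβ : ∀ i c, β i (α c) = Algebra.TensorProduct.map (f i) (AlgHom.id R R') c)
    (hB : ∀ x : B, α (algebraMap R A ϖ ⊗ₜ 1) * x = 0 → x = 0)
    (hgen : ∀ x : B, ∃ n : ℕ, ∃ c, α c = α (algebraMap R A ϖ ⊗ₜ 1) ^ n * x) : Function.Bijective α := by
  classical
  let _ : ∀ i, Algebra A (E i) := fun i => (f i).toRingHom.toAlgebra
  have halg : ∀ i a, algebraMap A (E i) a = f i a := fun i a => rfl
  let b := Module.Free.chooseBasis R R'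
  have key : ∀ c : A ⊗[R] R', (∀ i, ∃ d : E i ⊗[R] R',
      Algebra.TensorProduct.map (f i) (AlgHom.id R R') c = (algebraMap R (E i) ϖ ⊗ₜ[R] (1 : R')) * d) →
      ∃ d : A ⊗[R] R', c = (algebraMap R A ϖ ⊗ₜ[R] (1 : R')) * d := by
    intro c hc
    rw [exists_mul_of_repr b]
    intro k
    refine mem_span_of_map (E := E) hϖ ?_ hs ?_
    · intro i x hx
      refine hE i x ?_
      rwa [halg, AlgHom.commutes] at hx
    · intro i
      obtain ⟨e, he⟩ := (exists_mul_of_repr b _ _).1 (hc i) k
      refine ⟨e, ?_⟩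
      rw [halg, ← repr_map, he, halg, AlgHom.commutes]
  constructor
  · rw [injective_iff_map_eq_zero]
    intro c hc
    have h1 : ∀ i, Algebra.TensorProduct.map (f i) (AlgHom.id R R') c = 0 := by
      intro i
      rw [← hβ, hc, map_zero]
    obtain ⟨i, Q, hQ, hQ0⟩ := hs ⊥ Ideal.isPrime_bot
    apply (Algebra.TensorProduct.basis A b).repr.injective
    ext k
    rw [map_zero, Finsupp.zero_apply]
    have h2 : f i ((Algebra.TensorProduct.basis A b).repr c k) = 0 := by
      rw [← repr_map, h1, map_zero, Finsupp.zero_apply]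
    have h3 : (Algebra.TensorProduct.basis A b).repr c k ∈ Q.comap (f i) := by
      rw [Ideal.mem_comap, h2]
      exact Q.zero_mem
    rw [hQ0] at h3
    exact h3
  · intro x
    obtain ⟨n, hn⟩ := hgen x
    induction n generalizing x with
    | zero =>
      obtain ⟨c, hc⟩ := hn
      exact ⟨c, by rw [hc, pow_zero, one_mul]⟩
    | succ n ih =>
      refine ih x ?_
      obtain ⟨c, hc⟩ := hn
      obtain ⟨d, hd⟩ := key c (fun i => ⟨β i (α (algebraMap R A ϖ ⊗ₜ 1) ^ n * x), by
        rw [← hβ i c, hc, pow_succ', mul_assoc, map_mul, hβ, Algebra.TensorProduct.map_tmul, AlgHom.commutes,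
          map_one]⟩)
      refine ⟨d, ?_⟩
      have h1 : α (algebraMap R A ϖ ⊗ₜ 1) * (α d - α (algebraMap R A ϖ ⊗ₜ 1) ^ n * x) = 0 := by
        rw [mul_sub, ← map_mul, ← hd, hc, pow_succ', mul_assoc, sub_self]
      exact sub_eq_zero.1 (hB _ h1)

end Main

end K954.QuotCore
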