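import Groth.Agent.Models.K954.StSec
import Groth.Agent.S9821
import Groth.Agent.Sga1.QuotBasic
import Mathlib.RingTheory.Flat.Basic
import Mathlib.AlgebraicGeometry.Noetherian
import Mathlib.AlgebraicGeometry.Morphisms.IsIso

/-!
# A criterion for a model over an extension to descend

`isIso_of`: `Y` a normal integral scheme flat over `R`, `Z = Y ⊗ R'`, `c : Y' ⟶ Z` an affine morphism with `Y'` flat over
`R'`, an isomorphism on generic fibres; if there is a surjective morphism `ψ : X ⟶ Y` with `X` flat over `R` such that the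
base change of `ψ` to `R'` factors through `c`, then `c` is an isomorphism.
-/

set_option autoImplicit false
universe u

open CategoryTheory CategoryTheory.Limits AlgebraicGeometry TensorProduct

namespace K954.QuotDesc

open StSec

theorem mul_eq_zero_of_flat {R S : CommRingCat.{u}} (φ : R ⟶ S) (hφ : φ.hom.Flat) {ϖ : R}
    (hϖ : ∀ x : R, ϖ * x = 0 → x = 0) {s : S} (hs : φ.hom ϖ * s = 0) : s = 0 := by
  algebraize [φ.hom]
  have h1 : IsSMulRegular R ϖ := by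
    rw [isSMulRegular_iff_right_eq_zero_of_smul]
    intro x hx
    exact hϖ x hx
  have h2 : IsSMulRegular S (algebraMap R S ϖ) := h1.of_flat
  rw [isSMulRegular_iff_right_eq_zero_of_smul] at h2
  exact h2 s hs

theorem isIso_map_eqToHom (X : Scheme.{u}) {U V : X.Opens} (h : U = V) :
    IsIso (X.presheaf.map (eqToHom h).op) := by
  subst h
  rw [eqToHom_refl, op_id, CategoryTheory.Functor.map_id]
  infer_instance

theorem isIso_of_forall {Y' Z : Scheme.{u}} (c : Y' ⟶ Z) [IsAffineHom c]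
    (h : ∀ z : Z, ∃ W : Z.Opens, z ∈ W ∧ IsAffineOpen W ∧ Function.Bijective (c.app W).hom) : IsIso c := by
  choose W hz hW hb using h
  refine HasAffineProperty.of_iSup_eq_top (P := MorphismProperty.isomorphisms Scheme)
    (fun z : Z => ⟨W z, hW z⟩) ?_ (fun z => ⟨(hW z).preimage c, ?_⟩)
  · refine top_le_iff.1 fun z _ => ?_
    exact TopologicalSpace.Opens.mem_iSup.2 ⟨z, hz z⟩
  · change IsIso ((c ∣_ W z).app ⊤)
    have h1 : IsIso (c.app (W z)) := (ConcreteCategory.isIso_iff_bijective _).2 (hb z)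
    rw [morphismRestrict_app]
    have h2 : IsIso (c.app ((W z).ι ''ᵁ ⊤)) := by
      have h3 : (W z).ι ''ᵁ ⊤ = W z := by simp
      rw [h3]
      exact h1
    exact IsIso.comp_isIso' h2 (isIso_map_eqToHom Y' _)

/-- In a pushout `L ⊗ C`, `L` a localization of `R'` at powers of `ϖ`, elements have denominators powers of `ϖ`. -/
theorem exists_pow {R' L C Q : CommRingCat.{u}} (l : R' ⟶ L) (a : R' ⟶ C) (u : C ⟶ Q) (v : L ⟶ Q)
    (h : IsPushout a l u v) (ϖ : R') (hl : ∀ y : L, ∃ n : ℕ, ∃ x, l.hom x = l.hom ϖ ^ n * y) (y : Q) :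
    ∃ n : ℕ, ∃ c : C, u.hom c = u.hom (a.hom ϖ) ^ n * y := by
  let _ : Algebra R' C := a.hom.toAlgebra
  let _ : Algebra R' L := l.hom.toAlgebra
  have ht : IsPushout a l (CommRingCat.ofHom (Algebra.TensorProduct.includeLeftRingHom (R := R') (A := C) (B := L)))
      (CommRingCat.ofHom (Algebra.TensorProduct.includeRight (R := R') (A := C) (B := L)).toRingHom) :=
    CommRingCat.isPushout_tensorProduct R' C L
  let e : CommRingCat.of (C ⊗[R'] L) ≅ Q := ht.isoIsPushout _ _ h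
  have h1 : CommRingCat.ofHom (Algebra.TensorProduct.includeLeftRingHom (R := R') (A := C) (B := L)) ≫ e.hom = u :=
    IsPushout.inl_isoIsPushout_hom _ _ _ _
  have h1' : ∀ x : C, e.hom.hom (x ⊗ₜ[R'] (1 : L)) = u.hom x := fun x => by rw [← h1]; rfl
  have key : ∀ t : C ⊗[R'] L, ∃ n : ℕ, ∃ c : C, c ⊗ₜ[R'] (1 : L) = (a.hom ϖ ⊗ₜ[R'] (1 : L)) ^ n * t := by
    intro t
    have hmul : ∀ (n : ℕ) (c : C), (a.hom ϖ ⊗ₜ[R'] (1 : L)) ^ n * (c ⊗ₜ[R'] (1 : L)) =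
        ((a.hom ϖ) ^ n * c) ⊗ₜ[R'] (1 : L) := by
      intro n c
      rw [Algebra.TensorProduct.tmul_pow, one_pow, Algebra.TensorProduct.tmul_mul_tmul, one_mul]
    induction t with
    | zero => exact ⟨0, 0, by simp⟩
    | add t₁ t₂ ih₁ ih₂ =>
      obtain ⟨n₁, c₁, hc₁⟩ := ih₁
      obtain ⟨n₂, c₂, hc₂⟩ := ih₂
      refine ⟨n₁ + n₂, a.hom ϖ ^ n₂ * c₁ + a.hom ϖ ^ n₁ * c₂, ?_⟩
      rw [TensorProduct.add_tmul, ← hmul, ← hmul, hc₁, hc₂, pow_add]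
      ring
    | tmul c y =>
      obtain ⟨n, x, hx⟩ := hl y
      refine ⟨n, a.hom x * c, ?_⟩
      have h2 : (a.hom ϖ ⊗ₜ[R'] (1 : L)) ^ n = (1 : C) ⊗ₜ[R'] (l.hom ϖ ^ n) := by
        rw [Algebra.TensorProduct.tmul_pow, one_pow]
        have h3 : a.hom ϖ ^ n = (ϖ ^ n) • (1 : C) := by
          rw [Algebra.smul_def, mul_one, map_pow]
          rfl
        rw [h3, TensorProduct.smul_tmul, Algebra.smul_def, mul_one, map_pow]
        rfl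
      rw [h2, Algebra.TensorProduct.tmul_mul_tmul, one_mul, ← hx]
      have h4 : l.hom x = x • (1 : L) := by
        rw [Algebra.smul_def, mul_one]
        rfl
      rw [h4, ← TensorProduct.smul_tmul, Algebra.smul_def]
      rfl
  obtain ⟨n, c, hc⟩ := key (e.inv.hom y)
  refine ⟨n, c, ?_⟩
  rw [← h1', hc, map_mul, map_pow, h1']
  congr 1
  change (e.inv ≫ e.hom).hom y = y
  rw [Iso.inv_hom_id]
  rfl

section Main

variable {R R' L : CommRingCat.{u}} (r : R ⟶ R') (l : R' ⟶ L)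
    {Y Y' X YL Z X' : Scheme.{u}} (h : Y ⟶ Spec R) (q : Y' ⟶ Spec R') (p : X ⟶ Spec R)
    {fst : Z ⟶ Y} {snd : Z ⟶ Spec R'} {gX : X' ⟶ X} {p' : X' ⟶ Spec R'}
    (c : Y' ⟶ Z) (ψ : X ⟶ Y) (φ : X' ⟶ Y') (j : YL ⟶ Y') (fL : YL ⟶ Spec L)

theorem isIso_of [IsAffineHom c] [Flat h] [Flat q] [Flat p] [IsIntegral Y] [IsLocallyNoetherian Y]
    (hn : Pi1.IsNormalScheme Y)
    (hfree : @Module.Free R R' _ _ r.hom.toAlgebra.toModule)
    (ϖ : R) (hϖ : ∀ x : R, ϖ * x = 0 → x = 0) (hϖ' : ∀ x : R', r.hom ϖ * x = 0 → x = 0)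
    (hl1 : Function.Injective l.hom) (hl : ∀ y : L, ∃ n : ℕ, ∃ x, l.hom x = l.hom (r.hom ϖ) ^ n * y)
    (hZ : IsPullback fst snd h (Spec.map r)) (hX : IsPullback gX p' p (Spec.map r))
    (hc : c ≫ snd = q) (hψ : ψ ≫ h = p) [Surjective ψ] (hφ1 : φ ≫ q = p') (hφ2 : φ ≫ c ≫ fst = gX ≫ ψ)
    (hj : IsPullback j fL q (Spec.map l)) (hj' : IsPullback (j ≫ c) fL snd (Spec.map l)) : IsIso c := by
  apply isIso_of_forall
  intro z
  obtain ⟨V, hV, hzV, -⟩ := exists_isAffineOpen_mem_and_subset (X := Y) (x := fst z) (U := ⊤) trivial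
  have hne : Nonempty V := ⟨⟨_, hzV⟩⟩
  have haff : IsAffineHom fst := by
    have h0 : IsAffineHom (Spec.map r) := inferInstance
    exact MorphismProperty.of_isPullback hZ.flip h0
  have hWaff : IsAffineOpen (fst ⁻¹ᵁ V) := hV.preimage fst
  have hBaff : IsAffineOpen (c ⁻¹ᵁ (fst ⁻¹ᵁ V)) := hWaff.preimage c
  refine ⟨fst ⁻¹ᵁ V, hzV, hWaff, ?_⟩
  have hdom : IsDomain Γ(Y, V) := inferInstance
  have hnoeth : IsNoetherianRing Γ(Y, V) := IsLocallyNoetherian.component_noetherian ⟨V, hV⟩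
  have hic : IsIntegrallyClosed Γ(Y, V) := (Groth.Agent.S9821.result Y).1 hn V hV
  have hfst : c ≫ snd = q := hc
  -- the family of affine opens of `X` over `V`
  let ι := {U : X.Opens // IsAffineOpen U ∧ U ≤ ψ ⁻¹ᵁ V}
  have hU : ∀ i : ι, IsAffineOpen i.1 := fun i => i.2.1
  have hle : ∀ i : ι, i.1 ≤ ψ ⁻¹ᵁ V := fun i => i.2.2
  have hβle : ∀ i : ι, gX ⁻¹ᵁ i.1 ≤ φ ⁻¹ᵁ (c ⁻¹ᵁ (fst ⁻¹ᵁ V)) := by
    intro i x hx
    change (φ ≫ c ≫ fst) x ∈ V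
    rw [hφ2]
    exact hle i hx
  have hst : ∀ i : ι, st h V ≫ ψ.appLE V i.1 (hle i) = st p i.1 := by
    intro i
    rw [st_appLE, hψ]
  rw [Scheme.Hom.app_eq_appLE]
  refine bijective_of_isPushout (st h V) r (fst.appLE V (fst ⁻¹ᵁ V) le_rfl) (st snd (fst ⁻¹ᵁ V))
    (ι := ι) (E := fun i => Γ(X, i.1)) (D := fun i => Γ(X', gX ⁻¹ᵁ i.1))
    (fun i => ψ.appLE V i.1 (hle i)) (fun i => gX.appLE i.1 (gX ⁻¹ᵁ i.1) le_rfl) (fun i => st p' (gX ⁻¹ᵁ i.1))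
    (c.appLE (fst ⁻¹ᵁ V) (c ⁻¹ᵁ (fst ⁻¹ᵁ V)) le_rfl)
    (fun i => φ.appLE (c ⁻¹ᵁ (fst ⁻¹ᵁ V)) (gX ⁻¹ᵁ i.1) (hβle i)) hfree
    (isPushout_st r hZ hV) (fun i => ?_) (fun i => ?_) (fun i => ?_) ϖ ?_ (fun i x hx => ?_) ?_
    (fun x hx => ?_) ?_
  · rw [hst]
    exact isPushout_st r hX (hU i)
  · rw [Scheme.Hom.appLE_comp_appLE, Scheme.Hom.appLE_comp_appLE, Scheme.Hom.appLE_comp_appLE]
    exact Groth.Agent.Sga1.QuotBasic.appLE_congr_hom (by rw [Category.assoc, hφ2]) _ _ _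
  · rw [Scheme.Hom.appLE_comp_appLE, st_appLE, Category.assoc, hc, hφ1]
  · intro h0
    have h1 : (1 : Γ(Y, V)) = 0 := by
      refine mul_eq_zero_of_flat (st h V) (flat_st h hV) hϖ ?_
      rw [h0, zero_mul]
    exact one_ne_zero h1
  · rw [hst] at hx
    exact mul_eq_zero_of_flat (st p i.1) (flat_st p (hU i)) hϖ hx
  · intro P hP
    obtain ⟨x, hx⟩ := ‹Surjective ψ›.surj (hV.fromSpec ⟨P, hP⟩)
    have hxV : ψ x ∈ V := by
      rw [hx]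
      have h0 : hV.fromSpec ⟨P, hP⟩ ∈ Set.range hV.fromSpec := ⟨_, rfl⟩
      rw [hV.range_fromSpec] at h0
      exact h0
    obtain ⟨U, hUaff, hxU, hUV⟩ := exists_isAffineOpen_mem_and_subset (X := X) (x := x) (U := ψ ⁻¹ᵁ V) hxV
    refine ⟨⟨U, hUaff, hUV⟩, (hUaff.primeIdealOf ⟨x, hxU⟩).asIdeal, (hUaff.primeIdealOf ⟨x, hxU⟩).2, ?_⟩
    have h1 := IsAffineOpen.comap_primeIdealOf_appLE (f := ψ) (x := x) V hV U hUaff hUV hxU
    have h2 := congrArg PrimeSpectrum.asIdeal h1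
    refine h2.trans ?_
    have h3 : hV.primeIdealOf ⟨ψ x, hUV hxU⟩ = ⟨P, hP⟩ := by
      apply hV.fromSpec.isOpenEmbedding.injective
      rw [hV.fromSpec_primeIdealOf]
      exact hx
    rw [h3]
  · rw [st_appLE, hc] at hx
    refine mul_eq_zero_of_flat (st q _) (flat_st q hBaff) (ϖ := r.hom ϖ) hϖ' hx
  · intro x
    have hQ1 := isPushout_st l hj hBaff
    have hQ2 := isPushout_st l hj' hWaff
    obtain ⟨n, y, hy⟩ := exists_pow l (st snd (fst ⁻¹ᵁ V)) _ _ hQ2 (r.hom ϖ) hl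
      ((j.appLE (c ⁻¹ᵁ (fst ⁻¹ᵁ V)) (j ⁻¹ᵁ (c ⁻¹ᵁ (fst ⁻¹ᵁ V))) le_rfl).hom x)
    refine ⟨n, y, ?_⟩
    have hinj : Function.Injective (j.appLE (c ⁻¹ᵁ (fst ⁻¹ᵁ V)) (j ⁻¹ᵁ (c ⁻¹ᵁ (fst ⁻¹ᵁ V))) le_rfl).hom := by
      have h1 := CommRingCat.inl_injective_of_flat (st q (c ⁻¹ᵁ (fst ⁻¹ᵁ V))) l (flat_st q hBaff) hl1
      rw [← hQ1.inl_isoPushout_inv]
      have h2 : Function.Injective hQ1.isoPushout.inv.hom :=
        (ConcreteCategory.bijective_of_isIso hQ1.isoPushout.inv).1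
      exact h2.comp h1
    apply hinj
    have h3 : c.appLE (fst ⁻¹ᵁ V) (c ⁻¹ᵁ (fst ⁻¹ᵁ V)) le_rfl ≫
        j.appLE (c ⁻¹ᵁ (fst ⁻¹ᵁ V)) (j ⁻¹ᵁ (c ⁻¹ᵁ (fst ⁻¹ᵁ V))) le_rfl =
        (j ≫ c).appLE (fst ⁻¹ᵁ V) ((j ≫ c) ⁻¹ᵁ (fst ⁻¹ᵁ V)) le_rfl := by
      rw [Scheme.Hom.appLE_comp_appLE]
      rfl
    have h4 : ∀ w, (j.appLE (c ⁻¹ᵁ (fst ⁻¹ᵁ V)) (j ⁻¹ᵁ (c ⁻¹ᵁ (fst ⁻¹ᵁ V))) le_rfl).hom
        ((c.appLE (fst ⁻¹ᵁ V) (c ⁻¹ᵁ (fst ⁻¹ᵁ V)) le_rfl).hom w) =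
        ((j ≫ c).appLE (fst ⁻¹ᵁ V) ((j ≫ c) ⁻¹ᵁ (fst ⁻¹ᵁ V)) le_rfl).hom w := fun w =>
      congrArg (fun k => k.hom w) h3
    rw [h4, hy, map_mul, map_pow]
    congr 2
    exact (h4 _).symm

end Main

end K954.QuotDesc
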