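import Mathlib.AlgebraicGeometry.Morphisms.Flat
import Mathlib.Algebra.Category.Ring.Constructions
import Groth.Agent.Models.K954.QuotCore

/-!
# Sections of schemes over the spectrum of a ring

`st p U : R ⟶ Γ(X, U)` for `p : X ⟶ Spec R`; base change (`isPushout_st`), flatness (`flat_st`), and a categorical form
of `QuotCore.bijective`.
-/

set_option autoImplicit false
universe u

open CategoryTheory CategoryTheory.Limits AlgebraicGeometry TensorProduct

namespace K954.StSec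

section St

variable {R : CommRingCat.{u}} {X Y : Scheme.{u}}

/-- The ring map `R → Γ(X, U)` attached to `p : X ⟶ Spec R`. -/
noncomputable def st (p : X ⟶ Spec R) (U : X.Opens) : R ⟶ Γ(X, U) :=
  (Scheme.ΓSpecIso R).inv ≫ p.appLE ⊤ U le_top

theorem st_appLE (f : X ⟶ Y) (p : Y ⟶ Spec R) {U : X.Opens} {V : Y.Opens} (e : U ≤ f ⁻¹ᵁ V) :
    st p V ≫ f.appLE V U e = st (f ≫ p) U := by
  unfold st
  rw [Category.assoc, Scheme.Hom.appLE_comp_appLE]

theorem flat_st (p : X ⟶ Spec R) [Flat p] {U : X.Opens} (hU : IsAffineOpen U) : (st p U).hom.Flat := by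
  unfold st
  rw [CommRingCat.hom_comp]
  refine RingHom.Flat.comp ?_ (Flat.flat_appLE p (isAffineOpen_top _) hU le_top)
  exact RingHom.Flat.of_bijective (ConcreteCategory.bijective_of_isIso (Scheme.ΓSpecIso R).inv)

theorem isPushout_st {R' : CommRingCat.{u}} (r : R ⟶ R') {X' : Scheme.{u}} {g : X' ⟶ X} {p' : X' ⟶ Spec R'}
    {p : X ⟶ Spec R} (H : IsPullback g p' p (Spec.map r)) {U : X.Opens} (hU : IsAffineOpen U) :
    IsPushout (st p U) r (g.appLE U (g ⁻¹ᵁ U) le_rfl) (st p' (g ⁻¹ᵁ U)) := by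
  have h1 := (isIso_pushoutSection_iff H (US := ⊤) (UT := ⊤) (UX := U) (UY := g ⁻¹ᵁ U) le_top le_top
    (by simp)).1 (isIso_pushoutSection_of_isAffineOpen H le_top le_top (by simp)
      (isAffineOpen_top _) (isAffineOpen_top _) hU)
  refine IsPushout.of_iso h1 (Scheme.ΓSpecIso R) (Iso.refl _) (Scheme.ΓSpecIso R') (Iso.refl _) ?_ ?_ ?_ ?_
  · unfold st
    rw [Iso.refl_hom, Category.comp_id, Iso.hom_inv_id_assoc]
  · have h2 : (Spec.map r).appLE ⊤ ⊤ le_top = (Spec.map r).appTop := by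
      rw [Scheme.Hom.appTop, Scheme.Hom.app_eq_appLE]
      rfl
    rw [h2]
    exact Scheme.ΓSpecIso_naturality r
  · rw [Iso.refl_hom, Iso.refl_hom, Category.comp_id, Category.id_comp]
  · unfold st
    rw [Iso.refl_hom, Category.comp_id, Iso.hom_inv_id_assoc]

end St

section Core

variable {R R' A C B : CommRingCat.{u}} (a : R ⟶ A) (r : R ⟶ R') (c₁ : A ⟶ C) (c₂ : R' ⟶ C)
  {ι : Type u} {E D : ι → CommRingCat.{u}} (f : ∀ i, A ⟶ E i) (d₁ : ∀ i, E i ⟶ D i) (d₂ : ∀ i, R' ⟶ D i)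
  (α : C ⟶ B) (β : ∀ i, B ⟶ D i)

theorem bijective_of_isPushout [IsDomain A] [IsNoetherianRing A] [IsIntegrallyClosed A]
    (hfree : @Module.Free R R' _ _ r.hom.toAlgebra.toModule)
    (hC : IsPushout a r c₁ c₂) (hD : ∀ i, IsPushout (a ≫ f i) r (d₁ i) (d₂ i))
    (hβ₁ : ∀ i, c₁ ≫ α ≫ β i = f i ≫ d₁ i) (hβ₂ : ∀ i, c₂ ≫ α ≫ β i = d₂ i)
    (ϖ : R) (hϖ : a.hom ϖ ≠ 0) (hE : ∀ i (x : E i), (a ≫ f i).hom ϖ * x = 0 → x = 0)
    (hs : ∀ P : Ideal A, P.IsPrime → ∃ i, ∃ Q : Ideal (E i), Q.IsPrime ∧ Q.comap (f i).hom = P)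
    (hB : ∀ x : B, (c₂ ≫ α).hom (r.hom ϖ) * x = 0 → x = 0)
    (hgen : ∀ x : B, ∃ n : ℕ, ∃ c, α.hom c = (c₂ ≫ α).hom (r.hom ϖ) ^ n * x) : Function.Bijective α.hom := by
  let _ : Algebra R R' := r.hom.toAlgebra
  let _ : Algebra R A := a.hom.toAlgebra
  let _ : ∀ i, Algebra R (E i) := fun i => (a ≫ f i).hom.toAlgebra
  have hfree' : Module.Free R R' := hfree
  let f' : ∀ i, A →ₐ[R] E i := fun i => { (f i).hom with commutes' := fun x => rfl }
  have hCt : IsPushout a r (CommRingCat.ofHom (Algebra.TensorProduct.includeLeftRingHom (R := R) (A := A) (B := R')))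
      (CommRingCat.ofHom (Algebra.TensorProduct.includeRight (R := R) (A := A) (B := R')).toRingHom) :=
    CommRingCat.isPushout_tensorProduct R A R'
  have hDt : ∀ i, IsPushout (a ≫ f i) r
      (CommRingCat.ofHom (Algebra.TensorProduct.includeLeftRingHom (R := R) (A := E i) (B := R')))
      (CommRingCat.ofHom (Algebra.TensorProduct.includeRight (R := R) (A := E i) (B := R')).toRingHom) :=
    fun i => CommRingCat.isPushout_tensorProduct R (E i) R'
  let eC : CommRingCat.of (A ⊗[R] R') ≅ C := hCt.isoIsPushout _ _ hC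
  let eD : ∀ i, CommRingCat.of (E i ⊗[R] R') ≅ D i := fun i => (hDt i).isoIsPushout _ _ (hD i)
  have hC1 : CommRingCat.ofHom (Algebra.TensorProduct.includeLeftRingHom (R := R) (A := A) (B := R')) ≫ eC.hom = c₁ :=
    IsPushout.inl_isoIsPushout_hom _ _ _ _
  have hC2 : CommRingCat.ofHom (Algebra.TensorProduct.includeRight (R := R) (A := A) (B := R')).toRingHom ≫
      eC.hom = c₂ := IsPushout.inr_isoIsPushout_hom _ _ _ _
  have hD1 : ∀ i, CommRingCat.ofHom (Algebra.TensorProduct.includeLeftRingHom (R := R) (A := E i) (B := R')) ≫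
      (eD i).hom = d₁ i := fun i => IsPushout.inl_isoIsPushout_hom _ _ _ _
  have hD2 : ∀ i, CommRingCat.ofHom (Algebra.TensorProduct.includeRight (R := R) (A := E i) (B := R')).toRingHom ≫
      (eD i).hom = d₂ i := fun i => IsPushout.inr_isoIsPushout_hom _ _ _ _
  have hunit : ∀ x : A, eC.hom.hom (x ⊗ₜ[R] (1 : R')) = c₁.hom x := fun x => by rw [← hC1]; rfl
  have hunit2 : ∀ x : R', eC.hom.hom ((1 : A) ⊗ₜ[R] x) = c₂.hom x := fun x => by rw [← hC2]; rfl
  have hϖC : eC.hom.hom ((algebraMap R A ϖ) ⊗ₜ[R] (1 : R')) = c₂.hom (r.hom ϖ) := by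
    rw [hunit]
    exact congrArg (fun k => k.hom ϖ) hC.w
  have key := QuotCore.bijective (R := R) (R' := R') f' (eC.hom ≫ α).hom (fun i => (β i ≫ (eD i).inv).hom) ϖ hϖ hE hs
    (fun i => by
      have h1 : eC.hom ≫ α ≫ β i ≫ (eD i).inv =
          CommRingCat.ofHom (Algebra.TensorProduct.map (f' i) (AlgHom.id R R')).toRingHom := by
        apply hCt.hom_ext
        · rw [← Category.assoc, hC1]
          have h2 : c₁ ≫ α ≫ β i ≫ (eD i).inv = (c₁ ≫ α ≫ β i) ≫ (eD i).inv := by simp only [Category.assoc]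
          rw [h2, hβ₁, ← hD1 i]
          simp only [Category.assoc, Iso.hom_inv_id, Category.comp_id]
          ext x
          change (f i).hom x ⊗ₜ[R] (1 : R') = Algebra.TensorProduct.map (f' i) (AlgHom.id R R') (x ⊗ₜ[R] (1 : R'))
          rw [Algebra.TensorProduct.map_tmul]
          rfl
        · rw [← Category.assoc, hC2]
          have h2 : c₂ ≫ α ≫ β i ≫ (eD i).inv = (c₂ ≫ α ≫ β i) ≫ (eD i).inv := by simp only [Category.assoc]
          rw [h2, hβ₂, ← hD2 i]
          simp only [Category.assoc, Iso.hom_inv_id, Category.comp_id]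
          ext x
          change (1 : E i) ⊗ₜ[R] x = Algebra.TensorProduct.map (f' i) (AlgHom.id R R') ((1 : A) ⊗ₜ[R] x)
          rw [Algebra.TensorProduct.map_tmul, map_one]
          rfl
      intro c
      exact congrArg (fun k => k.hom c) h1)
    (fun x hx => hB x (by
      have h3 : (eC.hom ≫ α).hom (algebraMap R A ϖ ⊗ₜ[R] (1 : R')) = (c₂ ≫ α).hom (r.hom ϖ) := by
        change α.hom (eC.hom.hom _) = α.hom (c₂.hom _)
        rw [hϖC]
      rw [← h3]
      exact hx))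
    (fun x => by
      obtain ⟨n, c, hc⟩ := hgen x
      refine ⟨n, eC.inv.hom c, ?_⟩
      have h3 : (eC.hom ≫ α).hom (algebraMap R A ϖ ⊗ₜ[R] (1 : R')) = (c₂ ≫ α).hom (r.hom ϖ) := by
        change α.hom (eC.hom.hom _) = α.hom (c₂.hom _)
        rw [hϖC]
      rw [h3, ← hc]
      change α.hom ((eC.inv ≫ eC.hom).hom c) = _
      rw [Iso.inv_hom_id]
      rfl)
  have h4 : (eC.hom ≫ α).hom = α.hom.comp eC.hom.hom := rfl
  rw [h4, RingHom.coe_comp] at key
  exact (Function.Bijective.of_comp_iff _ (ConcreteCategory.bijective_of_isIso eC.hom)).1 key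

end Core

end K954.StSec
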