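import Groth.Agent.Models.K111.NCDesc

/-!
# The step hypothesis of the descent along contraction sequences
-/

set_option autoImplicit false
universe u

open CategoryTheory CategoryTheory.Limits AlgebraicGeometry IsLocalRing
open Groth.Agent.K954.NC

namespace Groth.Agent.K954.StepDef

/-- The step hypothesis of `K111.NCDesc.main`: a morphism `φ : W ⟶ Y` over `Spec R`, sending the generic point to `η`,
is constant on the exceptional curve of a contraction `b : W ⟶ Z` with a normal crossing centre. -/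
def StepHyp {R : Type u} [CommRing R] {Y : Scheme.{u}} (q : Y ⟶ Spec (CommRingCat.of R)) (ϖ : R) (η : Y) : Prop :=
  ∀ {E W Z : Scheme.{u}} (ι : E ⟶ W) (b : W ⟶ Z) (p : Z ⟶ Spec (CommRingCat.of R)) (y : Z) (φ : W ⟶ Y)
      [IsIntegral W] [IsNoetherian W] [IsIntegral Z] [IsNoetherian Z] [LocallyOfFiniteType p] [IsProper b]
      [IsClosedImmersion ι], Models.IsExcCurve ι → Models.IsContractionOf ι b → (∀ e : E, b (ι e) = y) →
      ∀ (hy : IsClosed ({y} : Set Z)), BlowUp.IsBlowUp b (Scheme.IdealSheafData.vanishingIdeal ⟨{y}, hy⟩) →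
      NCAt p ϖ y → (∀ w : W, b w = y → IsClosed ({w} : Set W) → NCAt (b ≫ p) ϖ w) →
      (∃ F : Finset W, F.card ≤ 2 ∧
        ∀ w : W, b w = y → IsClosed ({w} : Set W) → w ∉ F → OneAt (b ≫ p) ϖ w) →
      φ ≫ q = b ≫ p → φ (genericPoint W) = η → ∃ t, Set.range ((ι ≫ φ).base : E → Y) = {t}

/-- `K111.NCDesc.main` with the step hypothesis packaged. -/
theorem descend {R : Type u} [CommRing R] {Y : Scheme.{u}} (q : Y ⟶ Spec (CommRingCat.of R)) (ϖ : R) (η : Y)
    (H : StepHyp q ϖ η)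
    {W Z : Scheme.{u}} [IsIntegral Z] [IsIntegral W] (g : W ⟶ Z) (hg : Models.IsContractionSeq g)
    (p : Z ⟶ Spec (CommRingCat.of R)) [LocallyOfFiniteType p] (T : Set Z)
    (hT : ∀ z ∈ T, IsClosed ({z} : Set Z) → NCAt p ϖ z) (hinj : ∀ z ∉ T, (g ⁻¹' {z}).Subsingleton)
    (φ : W ⟶ Y) (hφ : φ ≫ q = g ≫ p) (hη : φ (genericPoint W) = η) :
    ∃ φ₀ : Z ⟶ Y, g ≫ φ₀ = φ ∧ φ₀ ≫ q = p :=
  K111.NCDesc.main q ϖ η (fun ι b p y φ _ _ _ _ _ _ _ => H ι b p y φ) g hg p T hT hinj φ hφ hη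

end Groth.Agent.K954.StepDef
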