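import Groth.Agent.CurvSt.K897.NodeCross
import Groth.Agent.CurvSt.K896.TailBridge
import Groth.Agent.CurvSt.K903.CINodal
import Groth.Agent.Pi1.K868.NodeBr
import Groth.Agent.EGA2.K33.NormalExt
import Groth.Agent.CurvesC.DualInvNodal
import Groth.Agent.Curves.K259.LurothCurve
import Groth.Agent.Flat2G.ProperDim
import Groth.Agent.S1585
import Groth.Agent.S7657
import Groth.Agent.S7826
import Groth.Agent.S14467

/-!
# A nonconstant map from the projective line to a stable curve has three points over the nodes
-/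

set_option autoImplicit false
universe u
open CategoryTheory CategoryTheory.Limits AlgebraicGeometry TopologicalSpace IsLocalRing

namespace Groth.Agent.K954.ThreePts

open _root_.K897 _root_.K897.UnionTop _root_.K897.NodeCross Groth.Agent.Divis.CartierBasic
open Groth.Agent.CurvesC Groth.Agent.CurvesC.TailGeom Groth.Agent.CurvesB

/-- An irreducible closed subset with two points of a one-dimensional scheme is a component. -/
theorem mem_irreducibleComponents {X : Scheme.{u}} (hdim : topologicalKrullDim X ≤ 1) {T : Set X} (hT : IsIrreducible T)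
    (hTc : IsClosed T) {a b : X} (ha : a ∈ T) (hb : b ∈ T) (hab : a ≠ b) :
    T ∈ irreducibleComponents (X : Type u) := by
  obtain ⟨Z, hZ, hTZ⟩ := exists_mem_irreducibleComponents_subset_of_isIrreducible T hT
  obtain ⟨τ, hτ⟩ := QuasiSober.sober hT hTc
  obtain ⟨ζ, hζ⟩ := QuasiSober.sober hZ.1 (isClosed_of_mem_irreducibleComponents Z hZ)
  have h1 : ζ ⤳ τ := hζ.specializes (hTZ hτ.mem)
  by_cases h2 : ζ = τ
  · subst h2
    have h3 : T = Z := by rw [← hτ.def, ← hζ.def]
    rw [h3]; exact hZ
  · have h3 := K903.CINodal.isClosed_of_chain hdim h1 h2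
    have h4 : T = {τ} := by rw [← hτ.def, h3.closure_eq]
    rw [h4] at ha hb
    exact absurd ((Set.mem_singleton_iff.1 ha).trans (Set.mem_singleton_iff.1 hb).symm) hab

section

variable (k : Type u) [Field k] [IsAlgClosed k] (X : Scheme.{u}) [X.Over (Spec (CommRingCat.of k))]
  [IsProper (X ↘ (Spec (CommRingCat.of k)))]

instance lofp : LocallyOfFinitePresentation (X ↘ Spec (CommRingCat.of k)) :=
  NodeSch2.locallyOfFinitePresentation_of_field _

/-- Nodes are not smooth points. -/
theorem node_not_smooth [IsReduced X] (hdim : topologicalKrullDim X ≤ 1) (x : X) (hx : Curv2.IsNode k X x) :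
    x ∉ (X ↘ Spec (CommRingCat.of k)).smoothLocus := by
  intro hs
  have h1 : IsRegularLocalRing (X.presheaf.stalk x) := ((Groth.Agent.S1561.result k X).1 x).1 hs
  have h2 := ((Node.isNode_iff k X x).1 hx).2
  have hp : (maximalIdeal (X.presheaf.stalk x)).IsPrincipal := by
    have hdom : IsDomain (X.presheaf.stalk x) := CalgA.RegBasic.isDomain _
    have hle := (CurvesB.DimPts.ringKrullDim_stalk_le x).trans hdim
    have h3 := (IsRegularLocalRing.iff_finrank_cotangentSpace (X.presheaf.stalk x)).1 h1
    rw [← IsLocalRing.finrank_cotangentSpace_le_one_iff]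
    have h4 : ((Module.finrank (ResidueField (X.presheaf.stalk x)) (CotangentSpace (X.presheaf.stalk x)) : ℕ) :
        WithBot ℕ∞) ≤ 1 := by
      rw [h3]; exact hle
    exact_mod_cast h4
  refine h2.not_principal 1 le_rfl ?_
  rwa [pow_one]

/-- A nonsmooth closed point has two branches. -/
theorem numBranches_eq_two [IsReduced X] (hdim : topologicalKrullDim X ≤ 1) (hX : Curv2.AtWorstNodal k X) (x : X)
    (hx : IsClosed ({x} : Set X)) (hs : x ∉ (X ↘ Spec (CommRingCat.of k)).smoothLocus) :
    Curv2.IsNode k X x ∧ Brnch.numBranches (X.presheaf.stalk x) = 2 := by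
  have hn : Curv2.IsNode k X x := by
    rcases hX x hx with h | h
    · exact absurd ((K903.NonsmoothFin.mem_smoothLocus_iff_exists _ x).2 h) hs
    · exact h
  refine ⟨hn, K868.NodeBr.numBranches_of_isNode k X x hn ?_⟩
  have h2 := ((Node.isNode_iff k X x).1 hn).2
  refine le_antisymm ((CurvesB.DimPts.ringKrullDim_stalk_le x).trans hdim) (one_le_of_not_le fun h3 => ?_)
  have : Ring.KrullDimLE 0 (X.presheaf.stalk x) := Ring.krullDimLE_iff.2 h3
  have h4 : IsField (X.presheaf.stalk x) := by
    rw [isField_iff_maximalIdeal_eq, ← Ring.KrullDimLE.nilradical_eq_maximalIdeal, nilradical_eq_bot_iff]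
    infer_instance
  refine h2.not_principal 1 le_rfl ?_
  rw [pow_one, isField_iff_maximalIdeal_eq.1 h4]
  infer_instance

variable [ConnectedSpace X] (hpure : ∀ C ∈ irreducibleComponents (X : Type u), topologicalKrullDim C = 1)
  (hX : Curv2.AtWorstNodal k X) (hg : 2 ≤ Curv2.genus k X)
  (hne : ∀ C ∈ irreducibleComponents (X : Type u), ∀ e : CohB1.ProjSpace 1 k ⟶ X, IsClosedImmersion e →
    e ≫ (X ↘ (Spec (CommRingCat.of k))) = CohB1.ProjSpace.toSpec 1 k → Set.range e = C →
      2 < (C ∩ ((X ↘ (Spec (CommRingCat.of k))).smoothLocus : Set X)ᶜ).encard)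

include hpure hX hg hne in
/-- **Three points.** -/
theorem three (h : CohB1.ProjSpace 1 k ⟶ X) (hh : h ≫ (X ↘ (Spec (CommRingCat.of k))) = CohB1.ProjSpace.toSpec 1 k)
    (hnc : ∃ a b, h a ≠ h b) :
    2 < (h ⁻¹' (((X ↘ (Spec (CommRingCat.of k))).smoothLocus : Set X)ᶜ)).encard := by
  have hred : IsReduced X := DualInvNodal.isReduced_of_atWorstNodal hX
  have hN : IsNoetherian X := VarietyB.DegFin.isNoetherian_of_isProper k X
  have hdim : topologicalKrullDim X ≤ 1 := NodeSch2.topologicalKrullDim_le_one_of_components hpure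
  have hPint : IsIntegral (CohB1.ProjSpace 1 k) := Groth.Agent.Lefpen.H717.ProjIrr.isIntegral_projSpace 1 k
  have hPprop : IsProper (CohB1.ProjSpace.toSpec 1 k) := Groth.Agent.Ega3B.ProjProper.isProper_toSpec 1 k
  have hhp : IsProper (h ≫ (X ↘ (Spec (CommRingCat.of k)))) := by rw [hh]; exact hPprop
  have hhp' : IsProper h := IsProper.of_comp h (X ↘ (Spec (CommRingCat.of k)))
  set S : Set X := ((X ↘ (Spec (CommRingCat.of k))).smoothLocus : Set X)ᶜ with hS
  -- the image is a component
  set C : Set X := Set.range h with hCdef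
  have hCirr : IsIrreducible C := by
    rw [hCdef, ← Set.image_univ]
    exact (IrreducibleSpace.isIrreducible_univ _).image _ h.continuous.continuousOn
  have hCcl : IsClosed C := h.isClosedMap.isClosed_range
  have hC : C ∈ irreducibleComponents (X : Type u) := by
    obtain ⟨a, b, hab⟩ := hnc
    exact mem_irreducibleComponents hdim hCirr hCcl ⟨a, rfl⟩ ⟨b, rfl⟩ hab
  set J := compIdeal C hC with hJ
  have hJs : (J.support : Set X) = C := by rw [coe_support_compIdeal]; rfl
  have hJu : IsUnion (J.support : Set X) := by rw [hJs]; exact isUnion_component hC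
  have hint : IsIntegral J.subscheme := CompGeom.isIntegral_C X C hC
  have hrange : Set.range J.subschemeι = C := range_comp C hC
  obtain ⟨h', hh'⟩ := Groth.Agent.Ega1.ReducedSub.exists_factor_of_range_subset h J.subschemeι (by rw [hrange])
  have hdimC : topologicalKrullDim J.subscheme = 1 := by
    rw [← hpure C hC, ← VarietyB.DegComp.topologicalKrullDim_range_eq J.subschemeι, hrange]
  have hmem : ∀ y : J.subscheme, J.subschemeι y ∈ C := fun y => by rw [← hrange]; exact ⟨y, rfl⟩
  have hclpt : ∀ y : J.subscheme, IsClosed ({y} : Set J.subscheme) → IsClosed ({J.subschemeι y} : Set X) := by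
    intro y hy
    have := J.subschemeι.isClosedMap _ hy
    rwa [Set.image_singleton] at this
  have hcomp' : h' ≫ J.subschemeι ≫ (X ↘ (Spec (CommRingCat.of k))) = CohB1.ProjSpace.toSpec 1 k := by
    rw [← Category.assoc, hh', hh]
  have hnc' : ∃ a b, h'.base a ≠ h'.base b := by
    obtain ⟨a, b, hab⟩ := hnc
    refine ⟨a, b, fun hc => hab ?_⟩
    rw [← hh']
    exact congrArg J.subschemeι hc
  by_cases hcase : ∃ y : J.subscheme, IsClosed ({J.subschemeι y} : Set X) ∧ J.subschemeι y ∈ S ∧
      stalkIdeal J (J.subschemeι y) = ⊥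
  · obtain ⟨y, hyc, hyS, hy0⟩ := hcase
    set x := J.subschemeι y with hx
    -- two points of the normalization over `y`
    let _ : J.subscheme.Over (Spec (CommRingCat.of k)) := ⟨J.subschemeι ≫ (X ↘ Spec (CommRingCat.of k))⟩
    have hft : LocallyOfFiniteType (J.subscheme ↘ Spec (CommRingCat.of k)) :=
      inferInstanceAs (LocallyOfFiniteType (J.subschemeι ≫ (X ↘ Spec (CommRingCat.of k))))
    obtain ⟨hfin, hdom, ⟨V, hVne, hViso⟩, hNint, hNnorm⟩ := Groth.Agent.S1585.result k J.subscheme
    let ν := Curv2.normalizationι J.subscheme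
    have hbr : Brnch.numBranches (J.subscheme.presheaf.stalk y) = 2 := by
      rw [← (numBranches_eq_two k X hdim hX x hyc hyS).2]
      obtain ⟨e⟩ := nonempty_equiv' y rfl
      exact (K868.NodeBr.numBranches_congr
        ((RingEquiv.quotientBot _).symm.trans ((Ideal.quotEquivOfEq hy0.symm).trans e))).symm
    have hcard := (Groth.Agent.S7657.result J.subscheme y).1
    rw [Brnch.numBranchesAt, hbr] at hcard
    have hcard2 : Nat.card {x' : ↥(Curv2.normalization J.subscheme) // ν.base x' = y} = 2 := by
      change ENat.toNat (ENat.card _) = 2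
      rw [← hcard]
      rfl
    obtain ⟨n₁, n₂, hn12, -⟩ := Nat.card_eq_two_iff.mp hcard2
    -- the lift to the normalization
    have hgen' : h' (genericPoint (CohB1.ProjSpace 1 k)) = genericPoint J.subscheme :=
      K259.LurothCurve.base_genericPoint_of_nonconstant hdimC.le h' hnc'
    have hPnorm : Pi1.IsNormalScheme (CohB1.ProjSpace 1 k) := by
      intro z
      have := Groth.Agent.Sga5.ProjReg.isRegularLocalRing_stalk 1 k z
      exact ⟨inferInstance, Groth.Agent.CurvesC.RegNormal.isIntegrallyClosed _⟩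
    have hηV : genericPoint J.subscheme ∈ V := by
      obtain ⟨v, hv⟩ := hVne
      exact (genericPoint_specializes v).mem_open V.2 hv
    obtain ⟨g, -, hg'⟩ := K33.NormalExt.exists_extension hPnorm ν (h' ⁻¹ᵁ V)
      ((h' ⁻¹ᵁ V).isOpen.dense ⟨genericPoint _, by
        change h' (genericPoint _) ∈ V
        rw [hgen']; exact hηV⟩)
      ((h' ∣_ V) ≫ inv (ν ∣_ V) ≫ (ν ⁻¹ᵁ V).ι) h' (by
        rw [Category.assoc, Category.assoc, ← morphismRestrict_ι, IsIso.inv_hom_id_assoc, morphismRestrict_ι])
    have hdimN : topologicalKrullDim (Curv2.normalization J.subscheme) ≤ 1 :=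
      (Flat2G.ProperDim.topologicalKrullDim_le_of_isIntegralHom ν).trans hdimC.le
    have hncN : ∃ a b, g.base a ≠ g.base b := by
      obtain ⟨a, b, hab⟩ := hnc'
      refine ⟨a, b, fun hc => hab ?_⟩
      rw [← hg']
      exact congrArg ν hc
    have hgenN : g (genericPoint (CohB1.ProjSpace 1 k)) = genericPoint (Curv2.normalization J.subscheme) :=
      K259.LurothCurve.base_genericPoint_of_nonconstant hdimN g hncN
    have hgp : IsProper g := by
      have h1 : IsProper (g ≫ ν ≫ J.subschemeι) := by
        rw [← Category.assoc, hg', hh']; exact hhp'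
      exact IsProper.of_comp g (ν ≫ J.subschemeι)
    have hgs : Function.Surjective g := by
      intro n
      have h1 : IsClosed (Set.range g) := g.isClosedMap.isClosed_range
      have h2 : closure {genericPoint (Curv2.normalization J.subscheme)} ⊆ Set.range g :=
        closure_minimal (Set.singleton_subset_iff.2 ⟨_, hgenN⟩) h1
      exact h2 ((genericPoint_spec (Curv2.normalization J.subscheme)).def ▸ Set.mem_univ n)
    obtain ⟨p₁, hp₁⟩ := hgs n₁.1
    obtain ⟨p₂, hp₂⟩ := hgs n₂.1
    have hhx : ∀ (p : CohB1.ProjSpace 1 k) (n : {x' : ↥(Curv2.normalization J.subscheme) // ν.base x' = y}),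
        g p = n.1 → h p = x := by
      intro p n hpn
      have h1 : h p = J.subschemeι (ν (g p)) := by
        rw [← hh', ← hg']; rfl
      rw [h1, hpn]
      exact congrArg J.subschemeι n.2
    have h12 : p₁ ≠ p₂ := by
      rintro rfl
      exact hn12 (Subtype.ext (hp₁.symm.trans hp₂))
    by_contra hlt
    have hle : (h ⁻¹' S).encard ≤ 2 := not_lt.1 hlt
    have heq : ({p₁, p₂} : Set (CohB1.ProjSpace 1 k)) = h ⁻¹' S := by
      refine Set.Finite.eq_of_subset_of_encard_le (Set.toFinite _) ?_ ?_
      · rintro p (rfl | rfl)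
        · change h _ ∈ S
          rw [hhx _ _ hp₁]; exact hyS
        · change h _ ∈ S
          rw [hhx _ _ hp₂]; exact hyS
      · rw [Set.encard_pair h12]; exact hle
    have hSx : ∀ p, h p ∈ S → h p = x := by
      intro p hp
      have h1 : p ∈ ({p₁, p₂} : Set (CohB1.ProjSpace 1 k)) := by rw [heq]; exact hp
      rcases h1 with rfl | rfl
      · exact hhx _ _ hp₁
      · exact hhx _ _ hp₂
    -- the component is everything
    have hdisj : ∀ z ∈ C, z ∉ closure Cᶜ := by
      intro z hzC hz
      obtain ⟨C₂, hC₂, hC₂s, hz₂⟩ := isUnion_closure_compl hCcl z hz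
      obtain ⟨ξ, hξ, hξz⟩ := exists_generic hC₂ hz₂
      have hξC : ξ ∉ C := fun h0 => by
        have h1 : C₂ ⊆ C := by
          rw [← hξ]
          exact closure_minimal (Set.singleton_subset_iff.2 h0) hCcl
        exact not_subset_closure_compl hCcl hC₂ h1 hC₂s
      have hzne : ξ ≠ z := fun h0 => hξC (h0 ▸ hzC)
      have hzc := K903.CINodal.isClosed_of_chain hdim hξz hzne
      have hn0 : stalkIdeal J z ≠ ⊥ := stalkIdeal_ne_bot J hξz (by
        intro h1
        apply hξC
        rw [← hJs]; exact h1)
      obtain ⟨z', rfl⟩ : z ∈ Set.range J.subschemeι := by rw [hrange]; exact hzC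
      by_cases hs : J.subschemeι z' ∈ S
      · obtain ⟨p, hp⟩ := hzC
        rw [← hp] at hs
        rw [← hp, hSx p hs] at hn0
        exact hn0 hy0
      · exact hn0 (bot_of_smooth hpure hJu hzc z' rfl
          ((K903.NonsmoothFin.mem_smoothLocus_iff_exists _ _).1 (not_not.1 hs)))
    have hCuniv : C = Set.univ := by
      have hopen : IsOpen C := by
        rw [← isClosed_compl_iff]
        refine isClosed_of_closure_subset fun z hz hzC => hdisj z hzC hz
      exact IsClopen.eq_univ ⟨hCcl, hopen⟩ hCirr.nonempty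
    have hsurj : Surjective J.subschemeι := ⟨Set.range_eq_univ.1 (hrange.trans hCuniv)⟩
    have hiso : IsIso J.subschemeι := isIso_of_isClosedImmersion_of_surjective J.subschemeι
    have hXint : IsIntegral X := isIntegral_of_isOpenImmersion (inv J.subschemeι)
    let U : X.Opens := (inv J.subschemeι) ⁻¹ᵁ V
    have hUV : J.subschemeι ⁻¹ᵁ U = V := by
      rw [← Scheme.Hom.comp_preimage, IsIso.hom_inv_id, Scheme.Hom.id_preimage]
    have hVi : IsIso (ν ∣_ (J.subschemeι ⁻¹ᵁ U)) := by rw [hUV]; exact hViso
    have hUi : IsIso ((ν ≫ J.subschemeι) ∣_ U) := by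
      rw [morphismRestrict_comp]
      have h2 : IsIso (J.subschemeι ∣_ U) := inferInstance
      exact @IsIso.comp_isIso _ _ _ _ _ (ν ∣_ (J.subschemeι ⁻¹ᵁ U)) (J.subschemeι ∣_ U) hVi h2
    have hUne : (U : Set X).Nonempty := by
      obtain ⟨v, hv⟩ := hVne
      refine ⟨J.subschemeι v, ?_⟩
      have : v ∈ J.subschemeι ⁻¹ᵁ U := by rw [hUV]; exact hv
      exact this
    have hUne' : (((ν ≫ J.subschemeι) ⁻¹ᵁ U : (Curv2.normalization J.subscheme).Opens) :
        Set (Curv2.normalization J.subscheme)).Nonempty := by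
      obtain ⟨u, hu⟩ := hUne
      obtain ⟨p, hp⟩ : u ∈ C := hCuniv ▸ Set.mem_univ u
      refine ⟨g p, ?_⟩
      change J.subschemeι (ν (g p)) ∈ U
      have h1 : h p = J.subschemeι (ν (g p)) := by
        rw [← hh', ← hg']; rfl
      rw [← h1, hp]; exact hu
    have hconnN : ConnectedSpace (Curv2.normalization J.subscheme) := inferInstance
    have hmain := Groth.Agent.S14467.result k X hpure hX (Curv2.normalization J.subscheme) (ν ≫ J.subschemeι)
      hNnorm U (U.isOpen.dense hUne) (((ν ≫ J.subschemeι) ⁻¹ᵁ U).isOpen.dense hUne') hUi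
    have hdimN1 : topologicalKrullDim (Curv2.normalization J.subscheme) = 1 := by
      refine le_antisymm hdimN ?_
      rw [CurvesB.DimPts.krullDim_eq, Order.one_le_krullDim_iff]
      have hlt : ∀ n : Curv2.normalization J.subscheme, n ≠ genericPoint _ → n < genericPoint _ := fun n hn =>
        lt_iff_le_not_ge.2 ⟨genericPoint_specializes _, fun h0 =>
          hn (((CurvesB.DimPts.le_iff _ _).1 h0).antisymm (genericPoint_specializes _)).eq⟩
      by_cases h1 : n₁.1 = genericPoint _
      · refine ⟨n₂.1, genericPoint _, hlt _ fun h2 => hn12 ?_⟩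
        exact Subtype.ext (h1.trans h2.symm)
      · exact ⟨n₁.1, genericPoint _, hlt _ h1⟩
    obtain ⟨e, -⟩ := Groth.Agent.S7826.result k (ν ≫ J.subschemeι ≫ (X ↘ (Spec (CommRingCat.of k)))) hNnorm hdimN1 g
      (by rw [← Category.assoc, hg', hcomp']) hncN
    have hss := K896.TailBridge.subsingleton_of_iso_P1 e.symm
    have hg0 : letI : (Curv2.normalization J.subscheme).Over (Spec (CommRingCat.of k)) :=
        ⟨(ν ≫ J.subschemeι) ≫ (X ↘ (Spec (CommRingCat.of k)))⟩
        Curv2.genus k (Curv2.normalization J.subscheme) = 0 := by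
      let _ : (Curv2.normalization J.subscheme).Over (Spec (CommRingCat.of k)) :=
        ⟨(ν ≫ J.subschemeι) ≫ (X ↘ (Spec (CommRingCat.of k)))⟩
      exact Module.finrank_zero_of_subsingleton
    have hc1 : Nat.card (_root_.ConnectedComponents (Curv2.normalization J.subscheme)) = 1 := by
      rw [Nat.card_eq_one_iff_unique]
      exact ⟨inferInstance, inferInstance⟩
    have hc2 : Nat.card {z : X // Curv2.IsNode k X z} ≤ 1 := by
      have : Subsingleton {z : X // Curv2.IsNode k X z} := by
        have key : ∀ z : {z : X // Curv2.IsNode k X z}, z.1 = x := by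
          intro z
          have h1 := node_not_smooth k X hdim z.1 z.2
          obtain ⟨p, hp⟩ : z.1 ∈ C := hCuniv ▸ Set.mem_univ z.1
          rw [← hp]
          exact hSx p (by rw [hp]; exact h1)
        exact ⟨fun a b => Subtype.ext ((key a).trans (key b).symm)⟩
      exact Finite.card_le_one_iff_subsingleton.2 this
    rw [hc1] at hmain
    have hmain' : (Curv2.genus k X : ℤ) + 1 = (0 : ℤ) + Nat.card {z : X // Curv2.IsNode k X z} + 1 := by
      rw [← Nat.cast_zero, ← hg0]
      exact_mod_cast hmain
    have hc2' : (Nat.card {z : X // Curv2.IsNode k X z} : ℤ) ≤ 1 := by exact_mod_cast hc2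
    have hg2 : (2 : ℤ) ≤ Curv2.genus k X := by exact_mod_cast hg
    omega
  · -- the component is normal
    push Not at hcase
    have hnorm : Pi1.IsNormalScheme J.subscheme := by
      intro y
      by_cases hy : y = genericPoint J.subscheme
      · subst hy
        exact ⟨inferInstance, inferInstanceAs (IsIntegrallyClosed J.subscheme.functionField)⟩
      · have hy' := Groth.Agent.S7640.isClosed_singleton hdimC.le y hy
        have hx := hclpt y hy'
        by_cases hs : J.subschemeι y ∈ S
        · obtain ⟨hn, -⟩ := numBranches_eq_two k X hdim hX _ hx hs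
          obtain ⟨hd, hdvr⟩ := dvr_of_node hpure hJu y hx (hcase y hx hs) hn
          exact ⟨hd, inferInstance⟩
        · have hs' : J.subschemeι y ∈ (X ↘ (Spec (CommRingCat.of k))).smoothLocus := not_not.1 hs
          have h0 := bot_of_smooth hpure hJu hx y rfl ((K903.NonsmoothFin.mem_smoothLocus_iff_exists _ _).1 hs')
          obtain ⟨e⟩ := nonempty_equiv' y rfl
          have h1 : IsRegularLocalRing (X.presheaf.stalk (J.subschemeι y)) :=
            ((Groth.Agent.S1561.result k X).1 _).1 hs'
          have e' : X.presheaf.stalk (J.subschemeι y) ≃+* J.subscheme.presheaf.stalk y :=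
            (RingEquiv.quotientBot _).symm.trans ((Ideal.quotEquivOfEq h0.symm).trans e)
          have h2 : IsRegularLocalRing (J.subscheme.presheaf.stalk y) := IsRegularLocalRing.of_ringEquiv e'
          exact ⟨inferInstance, Groth.Agent.CurvesC.RegNormal.isIntegrallyClosed _⟩
    have hconn : ConnectedSpace J.subscheme := inferInstance
    obtain ⟨e, he⟩ := Groth.Agent.S7826.result k (J.subschemeι ≫ (X ↘ (Spec (CommRingCat.of k)))) hnorm hdimC h'
      hcomp' hnc'
    have h3 := hne C hC (e.inv ≫ J.subschemeι) inferInstance (by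
      rw [Category.assoc, ← he, Iso.inv_hom_id_assoc]) (by
      rw [← hrange]
      ext x
      constructor
      · rintro ⟨z, rfl⟩
        exact ⟨e.inv z, rfl⟩
      · rintro ⟨z, rfl⟩
        refine ⟨e.hom z, ?_⟩
        rw [← Scheme.Hom.comp_apply, Iso.hom_inv_id_assoc])
    refine h3.trans_le ?_
    have h4 : C ∩ S ⊆ h '' (h ⁻¹' S) := by
      rintro x ⟨⟨z, rfl⟩, hx⟩
      exact ⟨z, hx, rfl⟩
    exact (Set.encard_le_encard h4).trans (Set.encard_image_le _ _)

end

end Groth.Agent.K954.ThreePts
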