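import Groth.Agent.Krr.H458.SecPt
import Groth.Agent.CurvSt.K897.GeoGen
import Groth.Agent.CurvesC.TailMain
import Groth.Agent.S0024
import Groth.Agent.Models.K954.ThreePts
import Groth.Agent.Models.K954.GoodPt
import Groth.Agent.Models.K954.StepDef
import Groth.Prelude.Def_SSMod
import Groth.Agent.Models.H59.P1Fibre
import Groth.Agent.S7640
import Groth.Agent.VarietyA.SmoothLocusSch

/-!
# Morphisms to a stable curve are constant on exceptional curves with normal crossing centres
-/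

set_option autoImplicit false
universe u

open CategoryTheory CategoryTheory.Limits AlgebraicGeometry IsLocalRing
open Groth.Agent.K954.NC

namespace Groth.Agent.K954.Step

/-- A morphism to an affine scheme factors through every morphism inducing an isomorphism on global functions. -/
theorem exists_fac {P B S : Scheme.{u}} [IsAffine S] (π : P ⟶ B) (h : IsIso π.appTop) (s : P ⟶ S) :
    ∃ t : B ⟶ S, π ≫ t = s := by
  refine ⟨B.toSpecΓ ≫ Spec.map (s.appTop ≫ inv π.appTop) ≫ inv S.toSpecΓ, ?_⟩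
  rw [Scheme.toSpecΓ_naturality_assoc]
  have h1 : Spec.map π.appTop ≫ Spec.map (s.appTop ≫ inv π.appTop) = Spec.map s.appTop := by
    rw [← Spec.map_comp]; simp
  rw [reassoc_of% h1, ← Scheme.toSpecΓ_naturality_assoc]
  simp

/-- The field of constants of a projective line of finite type over the closed point of a discrete valuation ring with
algebraically closed residue field is the residue field. -/
theorem exists_field {R : Type u} [CommRing R] [IsDomain R] [IsDiscreteValuationRing R]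
    [IsAlgClosed (ResidueField R)] {k : Type u} [Field k] (s : CohB1.ProjSpace 1 k ⟶ Spec (CommRingCat.of R))
    [LocallyOfFiniteType s] (hs : ∀ x, s x = (closedPoint R : PrimeSpectrum R)) :
    IsAlgClosed k ∧ ∃ t : Spec (CommRingCat.of k) ⟶ Spec (CommRingCat.of R), IsClosedImmersion t ∧
      CohB1.ProjSpace.toSpec 1 k ≫ t = s := by
  obtain ⟨t, ht⟩ := exists_fac (CohB1.ProjSpace.toSpec 1 k) (Groth.Agent.S0024.result 1 k) s
  have h1 : Groth.Agent.Krr.H458.SecPt.pt k 0 ≫ s = t := by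
    rw [← ht, Groth.Agent.Krr.H458.SecPt.pt_toSpec_assoc]
  have h2 : LocallyOfFiniteType t := by rw [← h1]; infer_instance
  obtain ⟨φ, rfl⟩ := Spec.map_surjective t
  have h3 : φ.hom.FiniteType := by
    rwa [HasRingHomProperty.Spec_iff (P := @LocallyOfFiniteType)] at h2
  have h4 : (Spec.map φ) (closedPoint k : PrimeSpectrum k) = (closedPoint R : PrimeSpectrum R) := by
    rw [← h1, Scheme.Hom.comp_apply]; exact hs _
  have h5 : ∀ r ∈ maximalIdeal R, φ.hom r = 0 := by
    intro r hr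
    have h6 : (closedPoint R).asIdeal = (closedPoint k).asIdeal.comap φ.hom :=
      congrArg PrimeSpectrum.asIdeal h4.symm
    have h7 : r ∈ (closedPoint k).asIdeal.comap φ.hom := by rw [← h6]; exact hr
    have h8 : φ.hom r ∈ maximalIdeal k := h7
    rwa [IsLocalRing.maximalIdeal_eq_bot] at h8
  let ψ : ResidueField R →+* k := Ideal.Quotient.lift (maximalIdeal R) φ.hom h5
  have h6 : ψ.comp (residue R) = φ.hom := by ext r; rfl
  have h7 : ψ.FiniteType := by
    apply RingHom.FiniteType.of_comp_finiteType (f := residue R)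
    rwa [h6]
  have h8 : Function.Bijective ψ := by
    algebraize [ψ]
    have h9 : Module.Finite (ResidueField R) k := finite_of_finite_type_of_isJacobsonRing _ _
    exact IsAlgClosed.algebraMap_bijective_of_isIntegral
  refine ⟨IsAlgClosed.of_ringEquiv (ResidueField R) k (RingEquiv.ofBijective ψ h8), Spec.map φ, ?_, ht⟩
  have h9 : Function.Surjective φ.hom := by
    rw [← h6]
    exact h8.2.comp residue_surjective
  exact IsClosedImmersion.spec_of_surjective φ h9

/-- A point at which the uniformizer is not a unit lies on the special fibre. -/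
theorem eq_closedPoint {R : Type u} [CommRing R] [IsDomain R] [IsDiscreteValuationRing R] {ϖ : R} (hϖ : Irreducible ϖ)
    {X : Scheme.{u}} (p : X ⟶ Spec (CommRingCat.of R)) (x : X)
    (h : DualGr.stalkHom p x ϖ ∈ maximalIdeal (X.presheaf.stalk x)) : p x = (closedPoint R : PrimeSpectrum R) := by
  have h1 := GoodPt.fromSpecStalk_asIdeal p x (closedPoint (X.presheaf.stalk x))
  have h2 : X.fromSpecStalk x (closedPoint (X.presheaf.stalk x)) = x := X.fromSpecStalk_closedPoint
  rw [h2] at h1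
  have h3 : ϖ ∈ (p x).asIdeal := by rw [h1]; exact h
  apply PrimeSpectrum.ext
  symm
  apply (maximalIdeal.isMaximal R).eq_of_le (p x).isPrime.ne_top
  rw [(IsDiscreteValuationRing.irreducible_iff_uniformizer ϖ).1 hϖ, Ideal.span_le, Set.singleton_subset_iff]
  exact h3

section

variable (R : Type u) [CommRing R] [IsDomain R] [IsDiscreteValuationRing R]
    (Y : Scheme.{u}) (fY : Y ⟶ Spec (CommRingCat.of (FractionRing R)))
    (hY : Curve.IsSmoothProperCurve (FractionRing R) Y fY) (hY0 : IsIso fY.appTop)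
    (hg : 2 ≤ Models.curveGenus (FractionRing R) Y fY)
    (YR : Scheme.{u}) (q : YR ⟶ Spec (CommRingCat.of R)) [IsProper q] (hq : Curv2.IsNodalFamily q)
    (hqs : SSMod.NoExcComp (𝟙 (Spec (CommRingCat.of R))) (Scheme.emptyTo YR) q)
    (iY : Y ⟶ YR) (hiY : IsPullback iY fY q (Spec.map (CommRingCat.ofHom (algebraMap R (FractionRing R)))))

include hY hY0 hg hq hiY in
/-- **Three points on a geometric fibre.** -/
theorem geo_three_aux (Ω : Type u) [Field Ω] [IsAlgClosed Ω] (t : Spec (CommRingCat.of Ω) ⟶ Spec (CommRingCat.of R))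
    (T0 : Scheme.{u}) (i : T0 ⟶ YR) (q0 : T0 ⟶ Spec (CommRingCat.of Ω)) [LocallyOfFinitePresentation q0]
    (hP : IsPullback i q0 q t)
    (hne : ∀ C ∈ irreducibleComponents (T0 : Type u), ∀ e : CohB1.ProjSpace 1 Ω ⟶ T0, IsClosedImmersion e →
      e ≫ q0 = CohB1.ProjSpace.toSpec 1 Ω → Set.range e = C → 2 < (C ∩ (q0.smoothLocus : Set T0)ᶜ).encard)
    (h : CohB1.ProjSpace 1 Ω ⟶ T0) (hh : h ≫ q0 = CohB1.ProjSpace.toSpec 1 Ω) (hnc : ∃ a b, h a ≠ h b) :
    2 < (h ⁻¹' ((q0.smoothLocus : Set T0)ᶜ)).encard ∧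
      ∀ a, h a ∉ q0.smoothLocus → IsClosed ({h a} : Set T0) := by
  obtain ⟨h1, h2, h3, h4⟩ := K897.GeoGen.geoGenus R Y YR fY q hY hY0 iY hiY hq Ω t _ _ _ hP
  let _ : T0.Over (Spec (CommRingCat.of Ω)) := ⟨q0⟩
  have hprop : IsProper q0 := MorphismProperty.of_isPullback hP inferInstance
  have hprop' : IsProper (T0 ↘ Spec (CommRingCat.of Ω)) := hprop
  have hN : IsNoetherian T0 := VarietyB.DegFin.isNoetherian_of_isProper Ω T0
  have hred : IsReduced T0 := CurvesC.DualInvNodal.isReduced_of_atWorstNodal h3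
  have hpure := CurvesC.TailMain.pure_of_connected T0 h2
  exact ⟨ThreePts.three Ω T0 hpure h3 (by rw [h4]; exact hg) hne h hh hnc,
    fun a ha => K903.CINodal.isClosed_of_nonsmooth Ω T0 h2.le (h a) ha⟩

include hY hY0 hg hq hqs hiY in
/-- **Three points on a geometric fibre.** -/
theorem geo_three [LocallyOfFinitePresentation q] (Ω : Type u) [Field Ω] [IsAlgClosed Ω] (t : Spec (CommRingCat.of Ω) ⟶ Spec (CommRingCat.of R))
    (h : CohB1.ProjSpace 1 Ω ⟶ pullback (q ≫ 𝟙 _) t)
    (hh : h ≫ pullback.snd (q ≫ 𝟙 _) t = CohB1.ProjSpace.toSpec 1 Ω)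
    (hnc : ∃ a b, h a ≠ h b) :
    2 < (h ⁻¹' (((pullback.snd (q ≫ 𝟙 _) t).smoothLocus : Set _)ᶜ)).encard ∧
      ∀ a, h a ∉ (pullback.snd (q ≫ 𝟙 _) t).smoothLocus → IsClosed ({h a} : Set ↥(pullback (q ≫ 𝟙 _) t)) := by
  have hP0 : IsPullback (pullback.fst (q ≫ 𝟙 _) t) (pullback.snd (q ≫ 𝟙 _) t) (q ≫ 𝟙 _) t := IsPullback.of_hasPullback _ _
  have hP : IsPullback (pullback.fst (q ≫ 𝟙 _) t) (pullback.snd (q ≫ 𝟙 _) t) q t := by
    have := hP0
    rwa [Category.comp_id] at this
  refine geo_three_aux R Y fY hY hY0 hg YR q hq iY hiY Ω t _ _ _ hP ?_ h hh hnc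
  intro C hC e he heq hr
  have h5 := hqs Ω t C hC
  by_contra hcon
  apply h5
  refine ⟨⟨e, he, heq, hr⟩, ?_, ?_⟩
  · refine le_trans (Set.encard_le_encard ?_) (not_lt.1 hcon)
    rintro x ⟨hx, hx'⟩
    refine ⟨hx, ?_⟩
    rcases hx' with hx' | hx'
    · obtain ⟨y, -⟩ := hx'
      exact (IsEmpty.false (α := (∅ : Scheme.{u})) y).elim
    · exact fun hs => hx' (Scheme.Hom.mem_smoothLocus.1 hs)
  · have hi : IsIso (pullback.snd (𝟙 (Spec (CommRingCat.of R))) t) := inferInstance
    rintro _ ⟨a, -, rfl⟩ _ ⟨b, -, rfl⟩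
    apply (pullback.snd (𝟙 (Spec (CommRingCat.of R))) t).homeomorph.injective
    exact Subsingleton.elim (α := PrimeSpectrum Ω) _ _

include hY hY0 hg hq hqs hiY in
/-- **The step hypothesis for stable models.** -/
theorem stepHyp [IsAlgClosed (ResidueField R)] {ϖ : R} (hϖ : Irreducible ϖ) [IsIntegral YR]
    (hYn : Pi1.IsNormalScheme YR) : StepDef.StepHyp q ϖ (genericPoint YR) := by
  intro E W Z ι b p y φ _ _ _ _ _ _ _ hE hb hby hy hbl hNC hNCw hF hφ hη
  obtain ⟨-, k, _, e, -⟩ := hE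
  by_contra hcon
  have hqf : LocallyOfFinitePresentation q := hq.2.1
  have hpy : p y = (closedPoint R : PrimeSpectrum R) := eq_closedPoint hϖ p y hNC.mem
  have hs : ∀ x, (e.hom ≫ ι ≫ b ≫ p) x = (closedPoint R : PrimeSpectrum R) := by
    intro x
    simp only [Scheme.Hom.comp_apply]
    rw [hby]; exact hpy
  obtain ⟨hk', t, ht, hts⟩ := exists_field (R := R) (e.hom ≫ ι ≫ b ≫ p) hs
  let h : CohB1.ProjSpace 1 k ⟶ pullback (q ≫ 𝟙 _) t :=
    pullback.lift (e.hom ≫ ι ≫ φ) (CohB1.ProjSpace.toSpec 1 k) (by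
      rw [Category.comp_id, Category.assoc, Category.assoc, hφ, hts])
  have hh : h ≫ pullback.snd (q ≫ 𝟙 _) t = CohB1.ProjSpace.toSpec 1 k := pullback.lift_snd _ _ _
  have hf : h ≫ pullback.fst (q ≫ 𝟙 _) t = e.hom ≫ ι ≫ φ := pullback.lift_fst _ _ _
  have hfa : ∀ a, pullback.fst (q ≫ 𝟙 _) t (h a) = φ (ι (e.hom a)) := by
    intro a
    rw [← Scheme.Hom.comp_apply, hf]
    simp only [Scheme.Hom.comp_apply]
  have hPint : IsIntegral (CohB1.ProjSpace 1 k) := Groth.Agent.Lefpen.H717.ProjIrr.isIntegral_projSpace 1 k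
  have hnc : ∃ a b, h a ≠ h b := by
    by_contra hcon2
    push Not at hcon2
    apply hcon
    let a0 : CohB1.ProjSpace 1 k := genericPoint _
    refine ⟨φ (ι (e.hom a0)), ?_⟩
    ext z
    simp only [Set.mem_range, Set.mem_singleton_iff]
    constructor
    · rintro ⟨c, rfl⟩
      have h1 := hfa (e.inv c)
      have h2 : e.hom (e.inv c) = c := by rw [← Scheme.Hom.comp_apply, e.inv_hom_id]; simp
      rw [h2, hcon2 (e.inv c) a0, hfa] at h1
      exact h1.symm
    · rintro rfl
      exact ⟨e.hom a0, rfl⟩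
  obtain ⟨h3, hcl⟩ := geo_three R Y fY hY hY0 hg YR q hq hqs iY hiY k t h hh hnc
  obtain ⟨F, hF2, hF1⟩ := hF
  -- nonsmooth points have values different from the generic value
  have hgen : ∀ a, h a ∉ (pullback.snd (q ≫ 𝟙 _) t).smoothLocus → h (genericPoint _) ≠ h a := by
    intro a ha hga
    have h4 := hcl a ha
    obtain ⟨c, d, hcd⟩ := hnc
    have h5 : ∀ c, h c = h a := by
      intro c
      have h6 : h (genericPoint _) ⤳ h c := (genericPoint_specializes c).map h.continuous
      rw [hga] at h6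
      exact (Set.mem_singleton_iff.1 (h6.mem_closed h4 rfl))
    exact hcd ((h5 c).trans (h5 d).symm)
  -- choose a point
  have hinj : Function.Injective (fun a => ι (e.hom a)) := by
    intro a c hac
    exact e.hom.homeomorph.injective (ι.isEmbedding.injective hac)
  obtain ⟨a, ha, haF⟩ : ∃ a, h a ∉ (pullback.snd (q ≫ 𝟙 _) t).smoothLocus ∧ ι (e.hom a) ∉ F := by
    by_contra hcon3
    push Not at hcon3
    have h4 : (h ⁻¹' (((pullback.snd (q ≫ 𝟙 _) t).smoothLocus : Set _)ᶜ)).encard ≤ (F : Set W).encard := by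
      refine Set.encard_le_encard_of_injOn (f := fun a => ι (e.hom a)) (fun a ha => hcon3 a ha) hinj.injOn
    rw [Set.encard_coe_eq_coe_finsetCard] at h4
    have h5 := lt_of_lt_of_le h3 h4
    have h6 : (2 : ℕ∞) < ((F.card : ℕ) : ℕ∞) := h5
    have h7 : 2 < F.card := by exact_mod_cast h6
    omega
  have hdimP := Models.H59.P1Fibre.topologicalKrullDim_P1 k
  have hane : a ≠ genericPoint (CohB1.ProjSpace 1 k) := by
    intro h4
    have h5 := hgen a ha
    rw [← h4] at h5
    exact h5 rfl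
  have hac : IsClosed ({a} : Set (CohB1.ProjSpace 1 k)) := Groth.Agent.S7640.isClosed_singleton hdimP.le a hane
  have hwc : IsClosed ({ι (e.hom a)} : Set W) := by
    have h4 := (e.hom ≫ ι).isClosedMap _ hac
    rwa [Set.image_singleton] at h4
  have hO := hF1 (ι (e.hom a)) (hby _) hwc haF
  obtain ⟨c, u, v, n, hc, hm, hon⟩ := hO.mono
  have hft : LocallyOfFiniteType (b ≫ p) := inferInstance
  have hsp : (ι (e.hom (genericPoint (CohB1.ProjSpace 1 k)))) ⤳ ι (e.hom a) :=
    ((genericPoint_specializes a).map e.hom.continuous).map ι.continuous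
  have hcl2 : ∀ z : E, (b ≫ p) (ι z) = (closedPoint R : PrimeSpectrum R) := by
    intro z
    rw [Scheme.Hom.comp_apply, hby]; exact hpy
  have hfi : Function.Injective (pullback.fst (q ≫ 𝟙 _) t) := (pullback.fst (q ≫ 𝟙 _) t).isEmbedding.injective
  have hne : φ (ι (e.hom (genericPoint (CohB1.ProjSpace 1 k)))) ≠ φ (ι (e.hom a)) := by
    rw [← hfa, ← hfa]
    exact fun h4 => hgen a ha (hfi h4)
  have hsm := GoodPt.mem_smoothLocus hϖ (b ≫ p) q φ hφ (ι (e.hom a)) hO.regular hO.dim hO.mem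
    ⟨u, v, c, n, hm, hc, hon⟩ hq hYn hη hwc (hcl2 _) hsp (hcl2 _) hne
  apply ha
  rw [← hfa] at hsm
  have hP : IsPullback (pullback.fst (q ≫ 𝟙 _) t) (pullback.snd (q ≫ 𝟙 _) t) q t := by
    have := IsPullback.of_hasPullback (q ≫ 𝟙 _) t
    rwa [Category.comp_id] at this
  exact VarietyA.SmoothLocusSch.mem_smoothLocus_of_isPullback hP _ hsm

end

end Groth.Agent.K954.Step
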