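import Groth.Agent.Models.K954.QuotDesc

/-!
# A criterion for a model over a tame extension to descend

`isIso_of`: `Z = Y ⊗ R'`, `c : Y' ⟶ Z` a finite morphism of flat `R'`-schemes, an isomorphism on generic fibres; if every
section of `Y'` over the preimage of an affine open `V` of `Y` is congruent to a section of `Y` over `V` modulo `ϖ`, then
`c` is an isomorphism.
-/

set_option autoImplicit false
universe u

open CategoryTheory CategoryTheory.Limits AlgebraicGeometry TensorProduct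

namespace K954.TameAlg

open StSec

theorem surjective_of {C B : Type u} [CommRing C] [CommRing B] (f : C →+* B) (hf : f.Finite) (t : C)
    (h1 : ∀ b, ∃ c b', b = f c + f t * b') (h2 : ∀ b, ∃ n : ℕ, ∃ c, f c = f t ^ n * b) :
    Function.Surjective f := by
  classical
  -- iterate `h1`
  have h1' : ∀ (m : ℕ) b, ∃ c b', b = f c + f t ^ m * b' := by
    intro m
    induction m with
    | zero => intro b; exact ⟨0, b, by simp⟩
    | succ m ih =>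
      intro b
      obtain ⟨c, b', hb⟩ := ih b
      obtain ⟨c', b'', hb'⟩ := h1 b'
      refine ⟨c + t ^ m * c', b'', ?_⟩
      rw [hb, hb', map_add, map_mul, map_pow]
      ring
  -- a uniform exponent
  algebraize [f]
  obtain ⟨s, hs⟩ := (inferInstance : Module.Finite C B)
  have key : ∃ M : ℕ, ∀ b ∈ s, ∃ c, f c = f t ^ M * b := by
    clear hs
    induction s using Finset.induction_on with
    | empty => exact ⟨0, by simp⟩
    | insert a s ha ih =>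
      obtain ⟨M, hM⟩ := ih
      obtain ⟨n, c, hc⟩ := h2 a
      refine ⟨M + n, fun b hb => ?_⟩
      rcases Finset.mem_insert.1 hb with rfl | hb
      · exact ⟨t ^ M * c, by rw [map_mul, map_pow, hc]; ring⟩
      · obtain ⟨c', hc'⟩ := hM b hb
        exact ⟨t ^ n * c', by rw [map_mul, map_pow, hc']; ring⟩
  obtain ⟨M, hM⟩ := key
  have hM' : ∀ b, ∃ c, f c = f t ^ M * b := by
    intro b
    have hb : b ∈ Submodule.span C (s : Set B) := by rw [hs]; trivial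
    induction hb using Submodule.span_induction with
    | mem x hx => exact hM x hx
    | zero => exact ⟨0, by simp⟩
    | add x y _ _ hx hy =>
      obtain ⟨c, hc⟩ := hx
      obtain ⟨d, hd⟩ := hy
      exact ⟨c + d, by rw [map_add, hc, hd]; ring⟩
    | smul a x _ hx =>
      obtain ⟨c, hc⟩ := hx
      exact ⟨a * c, by rw [map_mul, hc, Algebra.smul_def]; change f a * _ = _ * (f a * x); ring⟩
  intro b
  obtain ⟨c, b', hb⟩ := h1' M b
  obtain ⟨c', hc'⟩ := hM' b'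
  exact ⟨c + c', by rw [map_add, hc', ← hb]⟩

section Main

variable {R R' L : CommRingCat.{u}} (r : R ⟶ R') (l : R' ⟶ L)
    {Y Y' YL Z : Scheme.{u}} (h : Y ⟶ Spec R) (q : Y' ⟶ Spec R')
    {fst : Z ⟶ Y} {snd : Z ⟶ Spec R'} (c : Y' ⟶ Z) (j : YL ⟶ Y') (fL : YL ⟶ Spec L)

theorem isIso_of [IsFinite c] [Flat h] [Flat q] (ϖ : R')
    (hl1 : Function.Injective l.hom) (hl : ∀ y : L, ∃ n : ℕ, ∃ x, l.hom x = l.hom ϖ ^ n * y)
    (hZ : IsPullback fst snd h (Spec.map r)) (hc : c ≫ snd = q)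
    (hj : IsPullback j fL q (Spec.map l)) (hj' : IsPullback (j ≫ c) fL snd (Spec.map l))
    (π : Y' ⟶ Y) (hπ : c ≫ fst = π)
    (hsurj : ∀ V : Y.Opens, IsAffineOpen V → ∀ b : Γ(Y', π ⁻¹ᵁ V),
      ∃ (a : Γ(Y, V)) (b' : Γ(Y', π ⁻¹ᵁ V)), b = (π.app V).hom a + (st q (π ⁻¹ᵁ V)).hom ϖ * b') : IsIso c := by
  subst hπ
  apply QuotDesc.isIso_of_forall
  intro z
  obtain ⟨V, hV, hzV, -⟩ := exists_isAffineOpen_mem_and_subset (X := Y) (x := fst z) (U := ⊤) trivial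
  have haff : IsAffineHom fst := by
    have h0 : IsAffineHom (Spec.map r) := inferInstance
    exact MorphismProperty.of_isPullback hZ.flip h0
  have hsndflat : Flat snd := MorphismProperty.of_isPullback hZ ‹Flat h›
  have hWaff : IsAffineOpen (fst ⁻¹ᵁ V) := hV.preimage fst
  have hBaff : IsAffineOpen (c ⁻¹ᵁ (fst ⁻¹ᵁ V)) := hWaff.preimage c
  refine ⟨fst ⁻¹ᵁ V, hzV, hWaff, ?_⟩
  rw [Scheme.Hom.app_eq_appLE]
  have hQ1 := isPushout_st l hj hBaff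
  have hQ2 := isPushout_st l hj' hWaff
  have h3 : c.appLE (fst ⁻¹ᵁ V) (c ⁻¹ᵁ (fst ⁻¹ᵁ V)) le_rfl ≫
      j.appLE (c ⁻¹ᵁ (fst ⁻¹ᵁ V)) (j ⁻¹ᵁ (c ⁻¹ᵁ (fst ⁻¹ᵁ V))) le_rfl =
      (j ≫ c).appLE (fst ⁻¹ᵁ V) ((j ≫ c) ⁻¹ᵁ (fst ⁻¹ᵁ V)) le_rfl := by
    rw [Scheme.Hom.appLE_comp_appLE]
    rfl
  have h4 : ∀ w, (j.appLE (c ⁻¹ᵁ (fst ⁻¹ᵁ V)) (j ⁻¹ᵁ (c ⁻¹ᵁ (fst ⁻¹ᵁ V))) le_rfl).hom
      ((c.appLE (fst ⁻¹ᵁ V) (c ⁻¹ᵁ (fst ⁻¹ᵁ V)) le_rfl).hom w) =
      ((j ≫ c).appLE (fst ⁻¹ᵁ V) ((j ≫ c) ⁻¹ᵁ (fst ⁻¹ᵁ V)) le_rfl).hom w := fun w =>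
    congrArg (fun k => k.hom w) h3
  have hinj : Function.Injective (j.appLE (c ⁻¹ᵁ (fst ⁻¹ᵁ V)) (j ⁻¹ᵁ (c ⁻¹ᵁ (fst ⁻¹ᵁ V))) le_rfl).hom := by
    have h1 := CommRingCat.inl_injective_of_flat (st q (c ⁻¹ᵁ (fst ⁻¹ᵁ V))) l (flat_st q hBaff) hl1
    rw [← hQ1.inl_isoPushout_inv]
    have h2 : Function.Injective hQ1.isoPushout.inv.hom :=
      (ConcreteCategory.bijective_of_isIso hQ1.isoPushout.inv).1
    exact h2.comp h1
  constructor
  · have hinj2 : Function.Injective ((j ≫ c).appLE (fst ⁻¹ᵁ V) ((j ≫ c) ⁻¹ᵁ (fst ⁻¹ᵁ V)) le_rfl).hom := by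
      have h1 := CommRingCat.inl_injective_of_flat (st snd (fst ⁻¹ᵁ V)) l (flat_st snd hWaff) hl1
      rw [← hQ2.inl_isoPushout_inv]
      have h2 : Function.Injective hQ2.isoPushout.inv.hom :=
        (ConcreteCategory.bijective_of_isIso hQ2.isoPushout.inv).1
      exact h2.comp h1
    intro x y hxy
    apply hinj2
    rw [← h4, ← h4]
    exact congrArg _ hxy
  · have hfin : (c.appLE (fst ⁻¹ᵁ V) (c ⁻¹ᵁ (fst ⁻¹ᵁ V)) le_rfl).hom.Finite := by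
      rw [← Scheme.Hom.app_eq_appLE]
      exact IsFinite.finite_app (f := c) _ hWaff
    have hst : (c.appLE (fst ⁻¹ᵁ V) (c ⁻¹ᵁ (fst ⁻¹ᵁ V)) le_rfl).hom ((st snd (fst ⁻¹ᵁ V)).hom ϖ) =
        (st q (c ⁻¹ᵁ (fst ⁻¹ᵁ V))).hom ϖ := by
      have h5 := st_appLE c snd (U := c ⁻¹ᵁ (fst ⁻¹ᵁ V)) (V := fst ⁻¹ᵁ V) le_rfl
      rw [hc] at h5
      exact congrArg (fun k => k.hom ϖ) h5
    refine surjective_of _ hfin ((st snd (fst ⁻¹ᵁ V)).hom ϖ) ?_ ?_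
    · intro b
      obtain ⟨a, b', hb⟩ := hsurj V hV b
      refine ⟨(fst.appLE V (fst ⁻¹ᵁ V) le_rfl).hom a, b', ?_⟩
      rw [hst]
      rw [Scheme.Hom.app_eq_appLE] at hb
      refine hb.trans ?_
      congr 1
      exact congrArg (fun k => k.hom a) (Scheme.Hom.appLE_comp_appLE c fst V (fst ⁻¹ᵁ V) _ le_rfl le_rfl).symm
    · intro x
      obtain ⟨n, y, hy⟩ := QuotDesc.exists_pow l (st snd (fst ⁻¹ᵁ V)) _ _ hQ2 ϖ hl
        ((j.appLE (c ⁻¹ᵁ (fst ⁻¹ᵁ V)) (j ⁻¹ᵁ (c ⁻¹ᵁ (fst ⁻¹ᵁ V))) le_rfl).hom x)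
      refine ⟨n, y, ?_⟩
      apply hinj
      rw [h4, hy, map_mul, map_pow]
      congr 2
      exact (h4 _).symm

end Main

end K954.TameAlg
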