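import Groth.Agent.Sga2lef.H96.ModSysFormal
import Groth.Agent.Models.SpecFib
import Groth.Prelude.Def_FSch3
import Groth.Agent.Old.H11.NthRoot
import Groth.Agent.Grpsch.PicGrp

/-!
# The thickenings of the closed fibre of a scheme over a local ring

`J p` the ideal of the closed fibre of `p : X ⟶ Spec R`, `jn p n : Zn p n ⟶ X` the closed subscheme of `J p ^ (n + 1)`,
`an p n : Zn p 0 ⟶ Zn p n` the inclusion of the closed fibre.
-/

set_option autoImplicit false
universe u
open CategoryTheory CategoryTheory.Limits AlgebraicGeometry TopologicalSpace Opposite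

namespace Groth.Agent.Models.K954.Thick

open FSch Groth.Agent.Sga2lef.H96.ModSysFormal Groth.Agent.Models.SpecFib Groth.Agent.Old.H11.NthRoot
  Groth.Agent.Fdesc.LocGen Groth.Agent.Grpsch.PicGrp

variable {R : Type u} [CommRing R] [IsLocalRing R] {X : Scheme.{u}} (p : X ⟶ Spec (CommRingCat.of R))

/-- the ideal of the closed fibre. -/
noncomputable abbrev J : X.IdealSheafData := (idealSpec R (IsLocalRing.maximalIdeal R)).comap p

/-- the `n`-th thickening of the closed fibre. -/
noncomputable abbrev Zn (n : ℕ) : Scheme.{u} := (completionAlong X (J p)).X n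

/-- its embedding. -/
noncomputable abbrev jn (n : ℕ) : Zn p n ⟶ X := completionToX X (J p) n

theorem pow_le (𝓘 : X.IdealSheafData) {m n : ℕ} (h : m ≤ n) : 𝓘 ^ (n + 1) ≤ 𝓘 ^ (m + 1) :=
  pow_le_pow_of_le_one bot_le le_top (Nat.succ_le_succ h)

/-- the inclusion of the closed fibre in its thickenings. -/
noncomputable def an (n : ℕ) : Zn p 0 ⟶ Zn p n :=
  Scheme.IdealSheafData.inclusion (pow_le (J p) (Nat.zero_le n))

theorem an_jn (n : ℕ) : an p n ≫ jn p n = jn p 0 := Scheme.IdealSheafData.inclusion_subschemeι _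

theorem ι_jn (n : ℕ) : (completionAlong X (J p)).ι n ≫ jn p (n + 1) = jn p n :=
  Scheme.IdealSheafData.inclusion_subschemeι _

instance (n : ℕ) : IsClosedImmersion (jn p n) :=
  inferInstanceAs (IsClosedImmersion ((J p ^ (n + 1)).subschemeι))

theorem an_ι (n : ℕ) : an p n ≫ (completionAlong X (J p)).ι n = an p (n + 1) := by
  rw [← cancel_mono (jn p (n + 1)), Category.assoc, ι_jn, an_jn, an_jn]

instance (n : ℕ) : IsClosedImmersion (an p n) := by
  have : IsClosedImmersion (an p n ≫ jn p n) := by
    rw [an_jn]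
    infer_instance
  exact IsClosedImmersion.of_comp (an p n) (jn p n)

/-- the closed fibre and its thickenings have the same points. -/
theorem range_jn (n : ℕ) : Set.range (jn p n) = Set.range (jn p 0) := by
  change Set.range ((J p ^ (n + 1)).subschemeι) = Set.range ((J p ^ (0 + 1)).subschemeι)
  rw [Scheme.IdealSheafData.range_subschemeι, Scheme.IdealSheafData.range_subschemeι,
    Scheme.IdealSheafData.support_pow_succ, Scheme.IdealSheafData.support_pow_succ]

instance (n : ℕ) : Surjective (an p n) := by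
  refine ⟨fun z => ?_⟩
  have h1 : jn p n z ∈ Set.range (jn p n) := ⟨z, rfl⟩
  rw [range_jn] at h1
  obtain ⟨w, hw⟩ := h1
  refine ⟨w, (jn p n).isClosedEmbedding.injective ?_⟩
  rw [← hw, ← an_jn p n]
  rfl

/-- the ideal of the closed fibre is generated by the maximal ideal of `R`. -/
theorem J_ideal (n : ℕ) (V : X.affineOpens) :
    (J p ^ n).ideal V = (IsLocalRing.maximalIdeal R ^ n).map (str R X p V.1) := by
  let _ : X.Over (Spec (CommRingCat.of R)) := ⟨p⟩
  have h1 : IsGenBy (IsLocalRing.maximalIdeal R) (J p) := isGenBy_comap (IsLocalRing.maximalIdeal R)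
  rw [h1.pow n V]
  congr 1

/-- the functions on `V` vanishing on the thickening. -/
theorem ap_jn_eq_zero_iff (n : ℕ) {V : X.Opens} (hV : IsAffineOpen V) (s : Γ(X, V)) :
    ap (jn p n) V s = 0 ↔ s ∈ (IsLocalRing.maximalIdeal R ^ (n + 1)).map (str R X p V) := by
  rw [← J_ideal p (n + 1) ⟨V, hV⟩, ← Scheme.IdealSheafData.ker_subschemeι_app]
  rfl

/-- the closed fibre as a fibre product has the same ideal. -/
theorem ker_ιk : (ιk R X p).ker = (jn p 0).ker := by
  have : IsClosedImmersion (Spec.map (CommRingCat.ofHom (algebraMap R (IsLocalRing.ResidueField R)))) :=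
    IsClosedImmersion.spec_of_surjective _ IsLocalRing.residue_surjective
  have h1 : (jn p 0).ker = J p ^ (0 + 1) := Scheme.IdealSheafData.ker_subschemeι _
  rw [h1]
  ext V x
  rw [J_ideal, Scheme.Hom.ker_apply, zero_add, pow_one]
  have h2 := (app_surj_ker p V.1 V.2).2
  exact (congrArg (fun I => x ∈ I) h2).to_iff

theorem exists_to_jn : ∃ a : Limits.pullback p (Spec.map (CommRingCat.ofHom
    (algebraMap R (IsLocalRing.ResidueField R)))) ⟶ Zn p 0, a ≫ jn p 0 = ιk R X p :=
  ⟨IsClosedImmersion.lift (jn p 0) (ιk R X p) (ker_ιk p).ge, IsClosedImmersion.lift_fac _ _ _⟩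

theorem exists_of_jn : ∃ a : Zn p 0 ⟶ Limits.pullback p (Spec.map (CommRingCat.ofHom
    (algebraMap R (IsLocalRing.ResidueField R)))), a ≫ ιk R X p = jn p 0 := by
  have : IsClosedImmersion (Spec.map (CommRingCat.ofHom (algebraMap R (IsLocalRing.ResidueField R)))) :=
    IsClosedImmersion.spec_of_surjective _ IsLocalRing.residue_surjective
  exact ⟨IsClosedImmersion.lift (ιk R X p) (jn p 0) (ker_ιk p).le, IsClosedImmersion.lift_fac _ _ _⟩

/-- trivial on the closed fibre: two versions. -/
theorem pull_ιk_eq_one_iff (c : Pic X) : pull (ιk R X p) c = 1 ↔ pull (jn p 0) c = 1 := by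
  obtain ⟨a, ha⟩ := exists_to_jn p
  obtain ⟨b, hb⟩ := exists_of_jn p
  constructor
  · intro h
    rw [← hb, pull_comp, h, map_one]
  · intro h
    rw [← ha, pull_comp, h, map_one]

/-- the points of the closed fibre. -/
theorem mem_range_jn (n : ℕ) (x : X) (hx : p x = IsLocalRing.closedPoint R) : x ∈ Set.range (jn p n) := by
  rw [range_jn]
  let s : Spec (CommRingCat.of (IsLocalRing.ResidueField R)) := IsLocalRing.closedPoint _
  have hs : Spec.map (CommRingCat.ofHom (algebraMap R (IsLocalRing.ResidueField R))) s =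
      IsLocalRing.closedPoint R := PrimeSpectrum.ext (Ideal.ext fun r => by
    change algebraMap R (IsLocalRing.ResidueField R) r ∈ IsLocalRing.maximalIdeal _ ↔ _
    rw [IsLocalRing.maximalIdeal_eq_bot, Ideal.mem_bot]
    exact IsLocalRing.residue_eq_zero_iff r)
  obtain ⟨z, hz, -⟩ := Scheme.Pullback.exists_preimage_pullback (f := p)
    (g := Spec.map (CommRingCat.ofHom (algebraMap R (IsLocalRing.ResidueField R)))) x s (hx.trans hs.symm)
  obtain ⟨a, ha⟩ := exists_to_jn p
  refine ⟨a z, ?_⟩
  rw [← hz]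
  exact congr($ha z)

/-- An open subscheme containing the closed fibre is everything. -/
theorem eq_top_of_closedFibre [IsProper p] (U : X.Opens)
    (h : ∀ x : X, p x = IsLocalRing.closedPoint R → x ∈ U) : U = ⊤ := by
  by_contra hU
  obtain ⟨x, hx⟩ : ∃ x : X, x ∉ U := by
    by_contra hcon
    push Not at hcon
    exact hU (by ext x; exact ⟨fun _ => trivial, fun _ => hcon x⟩)
  have h1 : IsClosed (p '' (U : Set X)ᶜ) := p.isClosedMap _ U.isOpen.isClosed_compl
  have h2 : IsLocalRing.closedPoint R ∈ p '' (U : Set X)ᶜ :=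
    (IsLocalRing.specializes_closedPoint (p x)).mem_closed h1 ⟨x, hx, rfl⟩
  obtain ⟨y, hy, hy'⟩ := h2
  exact hy (h y hy')

end Groth.Agent.Models.K954.Thick
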